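import Cfsg.Agent.Lib.CosetEnum.Defs

/-! Generated table data. -/

set_option autoImplicit false
set_option maxRecDepth 20000

namespace Cfsg.Lib.CosetEnum.RuStemL

/-- Table data. -/
def tabCA_0_0 : Tab :=
  (.node 14 (.node 7 (.node 3 (.node 1 (.leaf 0x4000000000000000f) (.node 1 (.leaf 0x100000400000000004000000002280000300000000002) (.leaf 0x1000000000030000080000200000000003))) (.node 2 (.node 1 (.leaf 0x4000020002280002500009000023000088000210000800001f0000780001d0000700001b00006800019000060000170000580001500005000013000048000110000400000f0000380000d0000300000b000028000090000200000700001800005000010000010000000002400000000004) (.leaf 0x4000120000440001000003c0000e0000340000c00002c0000a0000240000800001c00006000014000040000040002b0000a8000290000a0000270000640001a00006c0001c0000740001e00007c000200000840002200008c000240000940008d0000080008a0000000001600000400004)) (.node 1 (.leaf 0x1000050000130000a80002b0002380000300004c00002) (.leaf 0x10000540002900023c0000200005400008)))) (.node 3 (.node 1 (.leaf 0x100001c0000600001400004000004000340000cc000320000c4000300000bc0002e0000b40002c0002300000a00000400006) (.node 1 (.leaf 0x10000100008b0000100000100000800003) (.leaf 0x10000bc0002e0000b40002c00000c000570001580005500015000053000148000510001400004f0001380004d0001300004b00012800049000120000470001180004500011000043000108000410001000003f0000f80003d0000f00003b0000e8000390000e0000370000d800035000098000240000940008d0000080008a0000080002a00000c00005)))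 (.node 2 (.node 1 (.leaf 0x10001700005b000168000590001600009100001c00006000014000920001d4000740001cc000720001c4000700001bc0006e0001b40006c0001ac0006a0001a40006800019c000660001940006400018c000620001840006000017c0005e000174000540001540005600015c000930000bc0002e0000b40002c000230000010000100002500001400005) (.leaf 0x1000020000580002440000200002000003)) (.node 1 (.leaf 0x10001540005600015c000930000bc0002e0000b40002c0002300000100022c000040000140000600001c000080002240008800021c000860002140008400020c00082000204000800001fc0007e0001f40007c0001ec0007a0001e4000780001dc000760001c4000720001cc000740001d4000940001700005b000168000590002540001f00002400005) (.leaf 0x40005d000150000890002580000200015400008))))) (.node 7 (.node 3 (.node 1 (.leaf 0x1000178000970002200000300022000000) (.node 1 (.leaf 0x100017c0009800021c0000300021c00001) (.leaf 0x1000180000990002180000300021800000))) (.node 2 (.node 1 (.leaf 0x10001840009a0002140000300021400001) (.leaf 0x10001880009b0002100000300021000000)) (.node 1 (.leaf 0x10002080006400018c0009c00020c0000400020c00008) (.leaf 0x10001940009d0002040000300020400000)))) (.node 4 (.node 2 (.node 1 (.leaf 0x10001980009e0002000000300020000001) (.leaf 0x100019c0009f0001fc000030001fc00000))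 (.node 1 (.leaf 0x10001f4000690001a0000a00001f8000040001f800008) (.leaf 0x10001a8000a10001f0000030001f000000))) (.node 2 (.node 1 (.leaf 0x10001ac000a20001ec000030001ec00001) (.leaf 0x10001b0000a30001e8000030001e800000)) (.node 1 (.leaf 0x10001b4000a40001e4000030001e400001) (.leaf 0x10001b8000a50001e0000030001e000000))))))

/-- Table data. -/
def tabCA_0 : Tab :=
  tabCA_0_0

end Cfsg.Lib.CosetEnum.RuStemL
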