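import Cfsg.Agent.Lib.CosetEnum.Defs

/-! Generated table data. -/

set_option autoImplicit false
set_option maxRecDepth 20000

namespace Cfsg.Lib.CosetEnum.RuStemL

/-- Table data. -/
def tabFA_0_0 : Tab :=
  (.node 1 (.leaf 0x1f80008000000000001f00007e10000000001e80007c00000000001e00007a10000000001d80007800000000001d00007620000000001c80007410000000001c00007200000000001b80007010000000001b00006e00000000001380006c20000000001a00006a00000000001980006810000000001900006600000000001880006410000000001800006200000000001780006010000000001700005e00000000001680005c10000000000200005a00000000001580005820000000001500005600000000001480005410000000001400005200000000000c80005020000000001200004e10000000001280004c10000000001200004a00000000001180004820000000001100004600000000001080004410000000001000004200000000000f80004010000000000f00003e00000000000e80003c20000000000e00003a00000000000d80003810000000000d00003600000000000c80003410000000000c00003200000000000b80003020000000000b00002e00000000000a80002c10000000000a00002a00000000000980002820000000000900002610000000000880002400000000000800002210000000000780002000000000000700001e20000000000680001c00000000000600001a10000000000580001800000000000500001610000000000480001400000000000400001220000000000380001000000000000300000e10000000000280000c00000000000100000a1000000000018000082000000000000000061000000000008000040000000000000000022) (.node 1 (.leaf 0x3f80010000000000003f0000fe20000000003e8000fc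10000000003e0000fa00000000003d8000f810000000003d0000f600000000003c8000f410000000003c0000f200000000003b8000f02000000000388000ee10000000003a8000ec10000000003a0000ea2000000000398000e80000000000390000e61000000000388000e40000000000380000e22000000000378000e01000000000370000de0000000000368000dc1000000000360000da0000000000358000d81000000000350000d60000000000348000d42000000000340000d21000000000338000d00000000000330000ce1000000000328000cc0000000000320000ca2000000000318000c81000000000310000c60000000000308000c41000000000300000c200000000002f8000c010000000002f0000be00000000002a0000bc20000000002e0000ba10000000002d8000b800000000002d0000b610000000002c8000b400000000001a8000b220000000002b8000b000000000002b0000ae10000000002a8000ac00000000002a0000aa1000000000298000a80000000000290000a61000000000288000a42000000000280000a20000000000278000a010000000002700009e00000000002680009c20000000002600009a10000000002580009800000000002500009610000000002480009400000000002400009210000000002380009000000000002300008e20000000002280008c10000000002200008a0000000000218000881000000000210000860000000000208000842000000000200000821) (.leaf 0x378000f1f000000000370000f3f000000000368000f5f000000000360000f7f000000000358000f9f000000000350000fbf000000000340000fff00000000033800101f00000000033000103f00000000032800105f00000000031800109f0000000003100010bf0000000003080010df0000000003000010ff0000000002f800111f000000000448000bdf000000000450000aa20000000002c80001210000000003b0000ba00000000002c00006020000000000280000a20000000001a80001010000000001480002c20000000001500002a20000000001600002600000000001300000600000000000200000210000000000100000420000000000000000000000000004480011410000000004400011200000000004380011010000000004300010e00000000004280010c10000000004200010a0000000000418001082000000000410001061000000000408001040000000000400001021)))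

/-- Table data. -/
def tabFA_0 : Tab :=
  tabFA_0_0

end Cfsg.Lib.CosetEnum.RuStemL
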