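import Cfsg.Agent.Lib.CosetEnum.Defs

/-! Generated table data. -/

set_option autoImplicit false
set_option maxRecDepth 20000

namespace Cfsg.Lib.CosetEnum.RuStemL

/-- Table data. -/
def tabVA_0_0 : Tab :=
  (.node 32 (.node 16 (.node 8 (.node 4 (.node 2 (.node 1 (.leaf 0x8080808080) (.leaf 0x8080808080)) (.node 1 (.leaf 0x8080808080) (.leaf 0x8080808080))) (.node 2 (.node 1 (.leaf 0x8080808080) (.leaf 0x8080808080)) (.node 1 (.leaf 0x8080808080) (.leaf 0x8080808080)))) (.node 4 (.node 2 (.node 1 (.leaf 0x8080808080) (.leaf 0x8080808080)) (.node 1 (.leaf 0x8080808080) (.leaf 0x8080808080))) (.node 2 (.node 1 (.leaf 0x8080808080) (.leaf 0x8080808080)) (.node 1 (.leaf 0x8080808080) (.leaf 0x8080808080))))) (.node 8 (.node 4 (.node 2 (.node 1 (.leaf 0x8080808080) (.leaf 0x8080808080)) (.node 1 (.leaf 0x8080808080) (.leaf 0x8080808080))) (.node 2 (.node 1 (.leaf 0x8080808080) (.leaf 0x8080808080)) (.node 1 (.leaf 0x8080808080)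 (.leaf 0x8080808080)))) (.node 4 (.node 2 (.node 1 (.leaf 0x8080808080) (.leaf 0x8080808080)) (.node 1 (.leaf 0x8080808080) (.leaf 0x8080808080))) (.node 2 (.node 1 (.leaf 0x8080808080) (.leaf 0x8080808080)) (.node 1 (.leaf 0x8080808080) (.leaf 0x8080808080)))))) (.node 16 (.node 8 (.node 4 (.node 2 (.node 1 (.leaf 0x8080808080) (.leaf 0x8080808080)) (.node 1 (.leaf 0x8080808080) (.leaf 0x8080808080))) (.node 2 (.node 1 (.leaf 0x8080808080) (.leaf 0x8080808080)) (.node 1 (.leaf 0x8080808080) (.leaf 0x8080808080)))) (.node 4 (.node 2 (.node 1 (.leaf 0x8080808080) (.leaf 0x8080808080)) (.node 1 (.leaf 0x8080808080) (.leaf 0x8080808080))) (.node 2 (.node 1 (.leaf 0x8080808080) (.leaf 0x8080808080)) (.node 1 (.leaf 0x8080808080) (.leaf 0x8080808080))))) (.node 8 (.node 4 (.node 2 (.node 1 (.leaf 0x8080808080) (.leaf 0x8080808080)) (.node 1 (.leaf 0x8080808080) (.leaf 0x8080808080))) (.node 2 (.node 1 (.leaf 0x8080808080) (.leaf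 0x8080808080)) (.node 1 (.leaf 0x8080808080) (.leaf 0x8080808080)))) (.node 4 (.node 2 (.node 1 (.leaf 0x8080808080) (.leaf 0x8080808080)) (.node 1 (.leaf 0x8080808080) (.leaf 0x8080808080))) (.node 2 (.node 1 (.leaf 0x8080808080) (.leaf 0x8080808080)) (.node 1 (.leaf 0x8080808080) (.leaf 0x8080808080)))))))

/-- Table data. -/
def tabVA_0_1 : Tab :=
  (.node 32 (.node 16 (.node 8 (.node 4 (.node 2 (.node 1 (.leaf 0x8080808080) (.leaf 0x8080808080)) (.node 1 (.leaf 0x8080808080) (.leaf 0x8080808080))) (.node 2 (.node 1 (.leaf 0x8080808080) (.leaf 0x8080808080)) (.node 1 (.leaf 0x8080808080) (.leaf 0x8080808080)))) (.node 4 (.node 2 (.node 1 (.leaf 0x8080808080) (.leaf 0x8080808080)) (.node 1 (.leaf 0x8080808080) (.leaf 0x8080808080))) (.node 2 (.node 1 (.leaf 0x8080808080) (.leaf 0x8080808080)) (.node 1 (.leaf 0x8080808080) (.leaf 0x8080808080))))) (.node 8 (.node 4 (.node 2 (.node 1 (.leaf 0x8080808080) (.leaf 0x8080808080))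 (.node 1 (.leaf 0x8080808080) (.leaf 0x8080808080))) (.node 2 (.node 1 (.leaf 0x8080808080) (.leaf 0x8080808080)) (.node 1 (.leaf 0x8080808080) (.leaf 0x8080808080)))) (.node 4 (.node 2 (.node 1 (.leaf 0x8080808080) (.leaf 0x8080808080)) (.node 1 (.leaf 0x8080808080) (.leaf 0x8080808080))) (.node 2 (.node 1 (.leaf 0x8080808080) (.leaf 0x8080808080)) (.node 1 (.leaf 0x8080808080) (.leaf 0x8080808080)))))) (.node 16 (.node 8 (.node 4 (.node 2 (.node 1 (.leaf 0x8080808080) (.leaf 0x8080808080)) (.node 1 (.leaf 0x8080808080) (.leaf 0x8080808080))) (.node 2 (.node 1 (.leaf 0x8080808080) (.leaf 0x8080808080)) (.node 1 (.leaf 0x8080808080) (.leaf 0x8080808080)))) (.node 4 (.node 2 (.node 1 (.leaf 0x8080808080) (.leaf 0x8080808080)) (.node 1 (.leaf 0x8080808080) (.leaf 0x8080808080))) (.node 2 (.node 1 (.leaf 0x8080808080) (.leaf 0x8080808080)) (.node 1 (.leaf 0x8080808080) (.leaf 0x8080808080))))) (.node 8 (.node 4 (.node 2 (.node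 1 (.leaf 0x8080808080) (.leaf 0x8080808080)) (.node 1 (.leaf 0x8080808080) (.leaf 0x8080808080))) (.node 2 (.node 1 (.leaf 0x8080808080) (.leaf 0x8080808080)) (.node 1 (.leaf 0x8080808080) (.leaf 0x8080808080)))) (.node 4 (.node 2 (.node 1 (.leaf 0x8080808080) (.leaf 0x8080808080)) (.node 1 (.leaf 0x8080808080) (.leaf 0x8080808080))) (.node 2 (.node 1 (.leaf 0x8080808080) (.leaf 0x8080808080)) (.node 1 (.leaf 0x8080808080) (.leaf 0x8080808080)))))))

/-- Table data. -/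
def tabVA_0_2 : Tab :=
  (.node 19 (.node 9 (.node 4 (.node 2 (.node 1 (.leaf 0x8080808080) (.leaf 0x8080808080)) (.node 1 (.leaf 0x8080808080) (.leaf 0x8080808080))) (.node 2 (.node 1 (.leaf 0x8080808080) (.leaf 0x8080808080)) (.node 1 (.leaf 0x8080808080) (.node 1 (.leaf 0x8080808080) (.leaf 0x8080808080))))) (.node 5 (.node 2 (.node 1 (.leaf 0x8080808080) (.leaf 0x8080808080)) (.node 1 (.leaf 0x8080808180) (.node 1 (.leaf 0x8080818080) (.leaf 0x8081808080)))) (.node 2 (.node 1 (.leaf 0x8082808080) (.leaf 0x8082808180)) (.node 1 (.leaf 0x8082818180) (.node 1 (.leaf 0x8080818081) (.leaf 0x8080818180)))))) (.node 10 (.node 5 (.node 2 (.node 1 (.leaf 0x8181808080) (.leaf 0x828181817f)) (.node 1 (.leaf 0x8080828081) (.node 1 (.leaf 0x8280828280) (.leaf 0x8280838280)))) (.node 2 (.node 1 (.leaf 0x7e807d7e80) (.leaf 0x7e807d7e80)) (.node 1 (.leaf 0x7e807d7e80) (.node 1 (.leaf 0x7e807d7e80) (.leaf 0x7e807d7e80))))) (.node 5 (.node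 2 (.node 1 (.leaf 0x7e807e7e80) (.leaf 0x7e807e7e80)) (.node 1 (.leaf 0x7e807e7e80) (.node 1 (.leaf 0x7e807e7e80) (.leaf 0x7e807f7e80)))) (.node 2 (.node 1 (.leaf 0x7e807f7e80) (.leaf 0x7e807f7e80)) (.node 1 (.leaf 0x7e807f7e80) (.node 1 (.leaf 0x7e807f7e80) (.leaf 0x7e807f7e80)))))))

/-- Table data. -/
def tabVA_0 : Tab :=
  (.node 64 tabVA_0_0 (.node 64 tabVA_0_1 tabVA_0_2))

end Cfsg.Lib.CosetEnum.RuStemL
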