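import Cfsg.Agent.Lib.CosetEnum.Defs

/-! Generated table data. -/

set_option autoImplicit false
set_option maxRecDepth 20000

namespace Cfsg.Lib.CosetEnum.RuStemL

/-- Table data. -/
def tabVB_0_0 : Tab :=
  (.node 32 (.node 16 (.node 8 (.node 4 (.node 2 (.node 1 (.leaf 0x88888) (.leaf 0x88888)) (.node 1 (.leaf 0x88888) (.leaf 0x88888))) (.node 2 (.node 1 (.leaf 0x88888) (.leaf 0x88888)) (.node 1 (.leaf 0x88888) (.leaf 0x88888)))) (.node 4 (.node 2 (.node 1 (.leaf 0x88888) (.leaf 0x88888)) (.node 1 (.leaf 0x88888) (.leaf 0x88888))) (.node 2 (.node 1 (.leaf 0x88888) (.leaf 0x88888)) (.node 1 (.leaf 0x88888) (.leaf 0x88888))))) (.node 8 (.node 4 (.node 2 (.node 1 (.leaf 0x88888) (.leaf 0x88888)) (.node 1 (.leaf 0x88888) (.leaf 0x88888))) (.node 2 (.node 1 (.leaf 0x88888) (.leaf 0x88888)) (.node 1 (.leaf 0x88888) (.leaf 0x88888)))) (.node 4 (.node 2 (.node 1 (.leaf 0x88888) (.leaf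 0x88888)) (.node 1 (.leaf 0x88888) (.leaf 0x88888))) (.node 2 (.node 1 (.leaf 0x88888) (.leaf 0x88888)) (.node 1 (.leaf 0x88888) (.leaf 0x88888)))))) (.node 16 (.node 8 (.node 4 (.node 2 (.node 1 (.leaf 0x88888) (.leaf 0x88888)) (.node 1 (.leaf 0x88888) (.leaf 0x88888))) (.node 2 (.node 1 (.leaf 0x88888) (.leaf 0x88888)) (.node 1 (.leaf 0x88888) (.leaf 0x88888)))) (.node 4 (.node 2 (.node 1 (.leaf 0x88888) (.leaf 0x88888)) (.node 1 (.leaf 0x88888) (.leaf 0x88888))) (.node 2 (.node 1 (.leaf 0x88888) (.leaf 0x88888)) (.node 1 (.leaf 0x88888) (.leaf 0x88888))))) (.node 8 (.node 4 (.node 2 (.node 1 (.leaf 0x88888) (.leaf 0x88888)) (.node 1 (.leaf 0x88888) (.leaf 0x88888))) (.node 2 (.node 1 (.leaf 0x88888) (.leaf 0x88888)) (.node 1 (.leaf 0x88888) (.leaf 0x88888)))) (.node 4 (.node 2 (.node 1 (.leaf 0x88888) (.leaf 0x88888)) (.node 1 (.leaf 0x88888) (.leaf 0x88888))) (.node 2 (.node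 1 (.leaf 0x88888) (.leaf 0x88888)) (.node 1 (.leaf 0x88888) (.leaf 0x88888)))))))

/-- Table data. -/
def tabVB_0_1 : Tab :=
  (.node 32 (.node 16 (.node 8 (.node 4 (.node 2 (.node 1 (.leaf 0x88888) (.leaf 0x88888)) (.node 1 (.leaf 0x88888) (.leaf 0x88888))) (.node 2 (.node 1 (.leaf 0x88888) (.leaf 0x88888)) (.node 1 (.leaf 0x88888) (.leaf 0x88888)))) (.node 4 (.node 2 (.node 1 (.leaf 0x88888) (.leaf 0x88888)) (.node 1 (.leaf 0x88888) (.leaf 0x88888))) (.node 2 (.node 1 (.leaf 0x88888) (.leaf 0x88888)) (.node 1 (.leaf 0x88888) (.leaf 0x88888))))) (.node 8 (.node 4 (.node 2 (.node 1 (.leaf 0x88888) (.leaf 0x88888)) (.node 1 (.leaf 0x88888) (.leaf 0x88888))) (.node 2 (.node 1 (.leaf 0x88888) (.leaf 0x88888)) (.node 1 (.leaf 0x88888) (.leaf 0x88888)))) (.node 4 (.node 2 (.node 1 (.leaf 0x88888) (.leaf 0x88888)) (.node 1 (.leaf 0x88888) (.leaf 0x88888))) (.node 2 (.node 1 (.leaf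 0x88888) (.leaf 0x88888)) (.node 1 (.leaf 0x88888) (.leaf 0x88888)))))) (.node 16 (.node 8 (.node 4 (.node 2 (.node 1 (.leaf 0x88888) (.leaf 0x88888)) (.node 1 (.leaf 0x88888) (.leaf 0x88888))) (.node 2 (.node 1 (.leaf 0x88888) (.leaf 0x88888)) (.node 1 (.leaf 0x88888) (.leaf 0x88888)))) (.node 4 (.node 2 (.node 1 (.leaf 0x88888) (.leaf 0x88888)) (.node 1 (.leaf 0x88888) (.leaf 0x88888))) (.node 2 (.node 1 (.leaf 0x88888) (.leaf 0x88888)) (.node 1 (.leaf 0x88888) (.leaf 0x88888))))) (.node 8 (.node 4 (.node 2 (.node 1 (.leaf 0x88888) (.leaf 0x88888)) (.node 1 (.leaf 0x88888) (.leaf 0x88888))) (.node 2 (.node 1 (.leaf 0x88888) (.leaf 0x88888)) (.node 1 (.leaf 0x88888) (.leaf 0x88888)))) (.node 4 (.node 2 (.node 1 (.leaf 0x88888) (.leaf 0x88888)) (.node 1 (.leaf 0x88888) (.leaf 0x88888))) (.node 2 (.node 1 (.leaf 0x88888) (.leaf 0x88888)) (.node 1 (.leaf 0x88888) (.leaf 0x88888)))))))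

/-- Table data. -/
def tabVB_0_2 : Tab :=
  (.node 32 (.node 16 (.node 8 (.node 4 (.node 2 (.node 1 (.leaf 0x88888) (.leaf 0x88888)) (.node 1 (.leaf 0x88888) (.leaf 0x88888))) (.node 2 (.node 1 (.leaf 0x88888) (.leaf 0x88888)) (.node 1 (.leaf 0x88888) (.leaf 0x88888)))) (.node 4 (.node 2 (.node 1 (.leaf 0x88888) (.leaf 0x88888)) (.node 1 (.leaf 0x88888) (.leaf 0x88888))) (.node 2 (.node 1 (.leaf 0x88888) (.leaf 0x88888)) (.node 1 (.leaf 0x88888) (.leaf 0x88888))))) (.node 8 (.node 4 (.node 2 (.node 1 (.leaf 0x88888) (.leaf 0x88888)) (.node 1 (.leaf 0x88888) (.leaf 0x88888))) (.node 2 (.node 1 (.leaf 0x88888) (.leaf 0x88888)) (.node 1 (.leaf 0x88888) (.leaf 0x88888)))) (.node 4 (.node 2 (.node 1 (.leaf 0x88888) (.leaf 0x88888)) (.node 1 (.leaf 0x88888) (.leaf 0x88888))) (.node 2 (.node 1 (.leaf 0x88888) (.leaf 0x88888)) (.node 1 (.leaf 0x88888) (.leaf 0x88888)))))) (.node 16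 (.node 8 (.node 4 (.node 2 (.node 1 (.leaf 0x88888) (.leaf 0x88888)) (.node 1 (.leaf 0x88888) (.leaf 0x88888))) (.node 2 (.node 1 (.leaf 0x88888) (.leaf 0x88888)) (.node 1 (.leaf 0x88888) (.leaf 0x88888)))) (.node 4 (.node 2 (.node 1 (.leaf 0x88888) (.leaf 0x88888)) (.node 1 (.leaf 0x88888) (.leaf 0x88888))) (.node 2 (.node 1 (.leaf 0x88888) (.leaf 0x88888)) (.node 1 (.leaf 0x88888) (.leaf 0x88888))))) (.node 8 (.node 4 (.node 2 (.node 1 (.leaf 0x88888) (.leaf 0x88888)) (.node 1 (.leaf 0x88888) (.leaf 0x88888))) (.node 2 (.node 1 (.leaf 0x88888) (.leaf 0x88888)) (.node 1 (.leaf 0x88888) (.leaf 0x88888)))) (.node 4 (.node 2 (.node 1 (.leaf 0x88888) (.leaf 0x88888)) (.node 1 (.leaf 0x88888) (.leaf 0x88888))) (.node 2 (.node 1 (.leaf 0x88888) (.leaf 0x88888)) (.node 1 (.leaf 0x88888) (.leaf 0x88888)))))))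

/-- Table data. -/
def tabVB_0_3 : Tab :=
  (.node 32 (.node 16 (.node 8 (.node 4 (.node 2 (.node 1 (.leaf 0x88888) (.leaf 0x88888)) (.node 1 (.leaf 0x88888) (.leaf 0x88888))) (.node 2 (.node 1 (.leaf 0x88888) (.leaf 0x88888)) (.node 1 (.leaf 0x88888) (.leaf 0x88888)))) (.node 4 (.node 2 (.node 1 (.leaf 0x88888) (.leaf 0x88888)) (.node 1 (.leaf 0x88888) (.leaf 0x88888))) (.node 2 (.node 1 (.leaf 0x88888) (.leaf 0x88888)) (.node 1 (.leaf 0x88888) (.leaf 0x88888))))) (.node 8 (.node 4 (.node 2 (.node 1 (.leaf 0x88888) (.leaf 0x88888)) (.node 1 (.leaf 0x88888) (.leaf 0x88888))) (.node 2 (.node 1 (.leaf 0x88888) (.leaf 0x88888)) (.node 1 (.leaf 0x88888) (.leaf 0x88888)))) (.node 4 (.node 2 (.node 1 (.leaf 0x88888) (.leaf 0x88888)) (.node 1 (.leaf 0x88888) (.leaf 0x88888))) (.node 2 (.node 1 (.leaf 0x88888) (.leaf 0x88888)) (.node 1 (.leaf 0x88888) (.leaf 0x88888)))))) (.node 16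 (.node 8 (.node 4 (.node 2 (.node 1 (.leaf 0x88888) (.leaf 0x88888)) (.node 1 (.leaf 0x88888) (.leaf 0x88888))) (.node 2 (.node 1 (.leaf 0x88888) (.leaf 0x88888)) (.node 1 (.leaf 0x88888) (.leaf 0x88888)))) (.node 4 (.node 2 (.node 1 (.leaf 0x88888) (.leaf 0x88888)) (.node 1 (.leaf 0x88888) (.leaf 0x88888))) (.node 2 (.node 1 (.leaf 0x88888) (.leaf 0x88888)) (.node 1 (.leaf 0x88888) (.leaf 0x88888))))) (.node 8 (.node 4 (.node 2 (.node 1 (.leaf 0x88888) (.leaf 0x88888)) (.node 1 (.leaf 0x88888) (.leaf 0x88888))) (.node 2 (.node 1 (.leaf 0x88888) (.leaf 0x88888)) (.node 1 (.leaf 0x88888) (.leaf 0x88888)))) (.node 4 (.node 2 (.node 1 (.leaf 0x88888) (.leaf 0x88888)) (.node 1 (.leaf 0x88888) (.leaf 0x88888))) (.node 2 (.node 1 (.leaf 0x88888) (.leaf 0x88888)) (.node 1 (.leaf 0x88888) (.leaf 0x88888)))))))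

/-- Table data. -/
def tabVB_0_4 : Tab :=
  (.node 32 (.node 16 (.node 8 (.node 4 (.node 2 (.node 1 (.leaf 0x88888) (.leaf 0x88888)) (.node 1 (.leaf 0x88888) (.leaf 0x88888))) (.node 2 (.node 1 (.leaf 0x88888) (.leaf 0x88888)) (.node 1 (.leaf 0x88888) (.leaf 0x88888)))) (.node 4 (.node 2 (.node 1 (.leaf 0x88888) (.leaf 0x88888)) (.node 1 (.leaf 0x88888) (.leaf 0x88888))) (.node 2 (.node 1 (.leaf 0x88888) (.leaf 0x88888)) (.node 1 (.leaf 0x88888) (.leaf 0x88888))))) (.node 8 (.node 4 (.node 2 (.node 1 (.leaf 0x88888) (.leaf 0x88888)) (.node 1 (.leaf 0x88888) (.leaf 0x88888))) (.node 2 (.node 1 (.leaf 0x88888) (.leaf 0x88888)) (.node 1 (.leaf 0x88888) (.leaf 0x88888)))) (.node 4 (.node 2 (.node 1 (.leaf 0x88888) (.leaf 0x88888)) (.node 1 (.leaf 0x88888) (.leaf 0x88888))) (.node 2 (.node 1 (.leaf 0x88888) (.leaf 0x88888)) (.node 1 (.leaf 0x88888) (.leaf 0x88888)))))) (.node 16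 (.node 8 (.node 4 (.node 2 (.node 1 (.leaf 0x88888) (.leaf 0x88888)) (.node 1 (.leaf 0x88888) (.leaf 0x88888))) (.node 2 (.node 1 (.leaf 0x88888) (.leaf 0x88888)) (.node 1 (.leaf 0x88888) (.leaf 0x88888)))) (.node 4 (.node 2 (.node 1 (.leaf 0x88888) (.leaf 0x88888)) (.node 1 (.leaf 0x88888) (.leaf 0x88888))) (.node 2 (.node 1 (.leaf 0x88888) (.leaf 0x88888)) (.node 1 (.leaf 0x88888) (.leaf 0x88888))))) (.node 8 (.node 4 (.node 2 (.node 1 (.leaf 0x88888) (.leaf 0x88888)) (.node 1 (.leaf 0x88888) (.leaf 0x88888))) (.node 2 (.node 1 (.leaf 0x88888) (.leaf 0x88888)) (.node 1 (.leaf 0x88888) (.leaf 0x88888)))) (.node 4 (.node 2 (.node 1 (.leaf 0x88888) (.leaf 0x88888)) (.node 1 (.leaf 0x88888) (.leaf 0x88888))) (.node 2 (.node 1 (.leaf 0x88888) (.leaf 0x88888)) (.node 1 (.leaf 0x88888) (.leaf 0x88888)))))))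

/-- Table data. -/
def tabVB_0_5 : Tab :=
  (.node 32 (.node 16 (.node 8 (.node 4 (.node 2 (.node 1 (.leaf 0x88888) (.leaf 0x88888)) (.node 1 (.leaf 0x88888) (.leaf 0x88888))) (.node 2 (.node 1 (.leaf 0x88888) (.leaf 0x88888)) (.node 1 (.leaf 0x88888) (.leaf 0x88888)))) (.node 4 (.node 2 (.node 1 (.leaf 0x88888) (.leaf 0x88888)) (.node 1 (.leaf 0x88888) (.leaf 0x88888))) (.node 2 (.node 1 (.leaf 0x88888) (.leaf 0x88888)) (.node 1 (.leaf 0x88888) (.leaf 0x88888))))) (.node 8 (.node 4 (.node 2 (.node 1 (.leaf 0x88888) (.leaf 0x88888)) (.node 1 (.leaf 0x88888) (.leaf 0x88888))) (.node 2 (.node 1 (.leaf 0x88888) (.leaf 0x88888)) (.node 1 (.leaf 0x88888) (.leaf 0x88888)))) (.node 4 (.node 2 (.node 1 (.leaf 0x88888) (.leaf 0x88888)) (.node 1 (.leaf 0x88888) (.leaf 0x88888))) (.node 2 (.node 1 (.leaf 0x88888) (.leaf 0x88888)) (.node 1 (.leaf 0x88888) (.leaf 0x88888)))))) (.node 16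 (.node 8 (.node 4 (.node 2 (.node 1 (.leaf 0x88888) (.leaf 0x88888)) (.node 1 (.leaf 0x88888) (.leaf 0x88888))) (.node 2 (.node 1 (.leaf 0x88888) (.leaf 0x88888)) (.node 1 (.leaf 0x88888) (.leaf 0x88888)))) (.node 4 (.node 2 (.node 1 (.leaf 0x88888) (.leaf 0x88888)) (.node 1 (.leaf 0x88888) (.leaf 0x88888))) (.node 2 (.node 1 (.leaf 0x88888) (.leaf 0x88888)) (.node 1 (.leaf 0x88888) (.leaf 0x88888))))) (.node 8 (.node 4 (.node 2 (.node 1 (.leaf 0x88888) (.leaf 0x88888)) (.node 1 (.leaf 0x88888) (.leaf 0x88888))) (.node 2 (.node 1 (.leaf 0x88888) (.leaf 0x88888)) (.node 1 (.leaf 0x88888) (.leaf 0x88888)))) (.node 4 (.node 2 (.node 1 (.leaf 0x88888) (.leaf 0x88888)) (.node 1 (.leaf 0x88888) (.leaf 0x88888))) (.node 2 (.node 1 (.leaf 0x88888) (.leaf 0x88888)) (.node 1 (.leaf 0x88888) (.leaf 0x88888)))))))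

/-- Table data. -/
def tabVB_0_6 : Tab :=
  (.node 32 (.node 16 (.node 8 (.node 4 (.node 2 (.node 1 (.leaf 0x88888) (.leaf 0x88888)) (.node 1 (.leaf 0x88888) (.leaf 0x88888))) (.node 2 (.node 1 (.leaf 0x88888) (.leaf 0x88888)) (.node 1 (.leaf 0x88888) (.leaf 0x88888)))) (.node 4 (.node 2 (.node 1 (.leaf 0x88888) (.leaf 0x88888)) (.node 1 (.leaf 0x88888) (.leaf 0x88888))) (.node 2 (.node 1 (.leaf 0x88888) (.leaf 0x88888)) (.node 1 (.leaf 0x88888) (.leaf 0x88888))))) (.node 8 (.node 4 (.node 2 (.node 1 (.leaf 0x88888) (.leaf 0x88888)) (.node 1 (.leaf 0x88888) (.leaf 0x88888))) (.node 2 (.node 1 (.leaf 0x88888) (.leaf 0x88888)) (.node 1 (.leaf 0x88888) (.leaf 0x88888)))) (.node 4 (.node 2 (.node 1 (.leaf 0x88888) (.leaf 0x88888)) (.node 1 (.leaf 0x88888) (.leaf 0x88888))) (.node 2 (.node 1 (.leaf 0x88888) (.leaf 0x88888)) (.node 1 (.leaf 0x88888) (.leaf 0x88888)))))) (.node 16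 (.node 8 (.node 4 (.node 2 (.node 1 (.leaf 0x88888) (.leaf 0x88888)) (.node 1 (.leaf 0x88888) (.leaf 0x88888))) (.node 2 (.node 1 (.leaf 0x88888) (.leaf 0x88888)) (.node 1 (.leaf 0x88888) (.leaf 0x88888)))) (.node 4 (.node 2 (.node 1 (.leaf 0x88888) (.leaf 0x88888)) (.node 1 (.leaf 0x88888) (.leaf 0x88888))) (.node 2 (.node 1 (.leaf 0x88888) (.leaf 0x88888)) (.node 1 (.leaf 0x88888) (.leaf 0x88888))))) (.node 8 (.node 4 (.node 2 (.node 1 (.leaf 0x88888) (.leaf 0x88888)) (.node 1 (.leaf 0x88888) (.leaf 0x88888))) (.node 2 (.node 1 (.leaf 0x88888) (.leaf 0x88888)) (.node 1 (.leaf 0x88888) (.leaf 0x88888)))) (.node 4 (.node 2 (.node 1 (.leaf 0x88888) (.leaf 0x88888)) (.node 1 (.leaf 0x88888) (.leaf 0x88888))) (.node 2 (.node 1 (.leaf 0x88888) (.leaf 0x88888)) (.node 1 (.leaf 0x88888) (.leaf 0x88888)))))))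

/-- Table data. -/
def tabVB_0_7 : Tab :=
  (.node 32 (.node 16 (.node 8 (.node 4 (.node 2 (.node 1 (.leaf 0x88888) (.leaf 0x88888)) (.node 1 (.leaf 0x88888) (.leaf 0x88888))) (.node 2 (.node 1 (.leaf 0x88888) (.leaf 0x88888)) (.node 1 (.leaf 0x88888) (.leaf 0x88888)))) (.node 4 (.node 2 (.node 1 (.leaf 0x88888) (.leaf 0x88888)) (.node 1 (.leaf 0x88888) (.leaf 0x88888))) (.node 2 (.node 1 (.leaf 0x88888) (.leaf 0x88888)) (.node 1 (.leaf 0x88888) (.leaf 0x88888))))) (.node 8 (.node 4 (.node 2 (.node 1 (.leaf 0x88888) (.leaf 0x88888)) (.node 1 (.leaf 0x88888) (.leaf 0x88888))) (.node 2 (.node 1 (.leaf 0x88888) (.leaf 0x88888)) (.node 1 (.leaf 0x88888) (.leaf 0x88888)))) (.node 4 (.node 2 (.node 1 (.leaf 0x88888) (.leaf 0x88888)) (.node 1 (.leaf 0x88888) (.leaf 0x88888))) (.node 2 (.node 1 (.leaf 0x88888) (.leaf 0x88888)) (.node 1 (.leaf 0x88888) (.leaf 0x88888)))))) (.node 16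 (.node 8 (.node 4 (.node 2 (.node 1 (.leaf 0x88888) (.leaf 0x88888)) (.node 1 (.leaf 0x88888) (.leaf 0x88888))) (.node 2 (.node 1 (.leaf 0x88888) (.leaf 0x88888)) (.node 1 (.leaf 0x88888) (.leaf 0x88888)))) (.node 4 (.node 2 (.node 1 (.leaf 0x88888) (.leaf 0x88888)) (.node 1 (.leaf 0x88888) (.leaf 0x88888))) (.node 2 (.node 1 (.leaf 0x88888) (.leaf 0x88888)) (.node 1 (.leaf 0x88888) (.leaf 0x88888))))) (.node 8 (.node 4 (.node 2 (.node 1 (.leaf 0x88888) (.leaf 0x88888)) (.node 1 (.leaf 0x88888) (.leaf 0x88888))) (.node 2 (.node 1 (.leaf 0x88888) (.leaf 0x88888)) (.node 1 (.leaf 0x88888) (.leaf 0x88888)))) (.node 4 (.node 2 (.node 1 (.leaf 0x88888) (.leaf 0x88888)) (.node 1 (.leaf 0x88888) (.leaf 0x88888))) (.node 2 (.node 1 (.leaf 0x88888) (.leaf 0x88888)) (.node 1 (.leaf 0x88888) (.leaf 0x88888)))))))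

/-- Table data. -/
def tabVB_0_8 : Tab :=
  (.node 32 (.node 16 (.node 8 (.node 4 (.node 2 (.node 1 (.leaf 0x88888) (.leaf 0x88888)) (.node 1 (.leaf 0x88888) (.leaf 0x88888))) (.node 2 (.node 1 (.leaf 0x88888) (.leaf 0x88888)) (.node 1 (.leaf 0x88888) (.leaf 0x88888)))) (.node 4 (.node 2 (.node 1 (.leaf 0x88888) (.leaf 0x88888)) (.node 1 (.leaf 0x88888) (.leaf 0x88888))) (.node 2 (.node 1 (.leaf 0x88888) (.leaf 0x88888)) (.node 1 (.leaf 0x88888) (.leaf 0x88888))))) (.node 8 (.node 4 (.node 2 (.node 1 (.leaf 0x88888) (.leaf 0x88888)) (.node 1 (.leaf 0x88888) (.leaf 0x88888))) (.node 2 (.node 1 (.leaf 0x88888) (.leaf 0x88888)) (.node 1 (.leaf 0x88888) (.leaf 0x88888)))) (.node 4 (.node 2 (.node 1 (.leaf 0x88888) (.leaf 0x88888)) (.node 1 (.leaf 0x88888) (.leaf 0x88888))) (.node 2 (.node 1 (.leaf 0x88888) (.leaf 0x88888)) (.node 1 (.leaf 0x88888) (.leaf 0x88888)))))) (.node 16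 (.node 8 (.node 4 (.node 2 (.node 1 (.leaf 0x88888) (.leaf 0x88888)) (.node 1 (.leaf 0x88888) (.leaf 0x88888))) (.node 2 (.node 1 (.leaf 0x88888) (.leaf 0x88888)) (.node 1 (.leaf 0x88888) (.leaf 0x88888)))) (.node 4 (.node 2 (.node 1 (.leaf 0x88888) (.leaf 0x88888)) (.node 1 (.leaf 0x88888) (.leaf 0x88888))) (.node 2 (.node 1 (.leaf 0x88888) (.leaf 0x88888)) (.node 1 (.leaf 0x88888) (.leaf 0x88888))))) (.node 8 (.node 4 (.node 2 (.node 1 (.leaf 0x88888) (.leaf 0x88888)) (.node 1 (.leaf 0x88888) (.leaf 0x88888))) (.node 2 (.node 1 (.leaf 0x88888) (.leaf 0x88888)) (.node 1 (.leaf 0x88888) (.leaf 0x88888)))) (.node 4 (.node 2 (.node 1 (.leaf 0x88888) (.leaf 0x88888)) (.node 1 (.leaf 0x88888) (.leaf 0x88888))) (.node 2 (.node 1 (.leaf 0x88888) (.leaf 0x88888)) (.node 1 (.leaf 0x88888) (.leaf 0x88888)))))))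

/-- Table data. -/
def tabVB_0_9 : Tab :=
  (.node 32 (.node 16 (.node 8 (.node 4 (.node 2 (.node 1 (.leaf 0x88888) (.leaf 0x88888)) (.node 1 (.leaf 0x88888) (.leaf 0x88888))) (.node 2 (.node 1 (.leaf 0x88888) (.leaf 0x88888)) (.node 1 (.leaf 0x88888) (.leaf 0x88888)))) (.node 4 (.node 2 (.node 1 (.leaf 0x88888) (.leaf 0x88888)) (.node 1 (.leaf 0x88888) (.leaf 0x88888))) (.node 2 (.node 1 (.leaf 0x88888) (.leaf 0x88888)) (.node 1 (.leaf 0x88888) (.leaf 0x88888))))) (.node 8 (.node 4 (.node 2 (.node 1 (.leaf 0x88888) (.leaf 0x88888)) (.node 1 (.leaf 0x88888) (.leaf 0x88888))) (.node 2 (.node 1 (.leaf 0x88888) (.leaf 0x88888)) (.node 1 (.leaf 0x88888) (.leaf 0x88888)))) (.node 4 (.node 2 (.node 1 (.leaf 0x88888) (.leaf 0x88888)) (.node 1 (.leaf 0x88888) (.leaf 0x88888))) (.node 2 (.node 1 (.leaf 0x88888) (.leaf 0x88888)) (.node 1 (.leaf 0x88888) (.leaf 0x88888)))))) (.node 16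 (.node 8 (.node 4 (.node 2 (.node 1 (.leaf 0x88888) (.leaf 0x88888)) (.node 1 (.leaf 0x88888) (.leaf 0x88888))) (.node 2 (.node 1 (.leaf 0x88888) (.leaf 0x88888)) (.node 1 (.leaf 0x88888) (.leaf 0x88888)))) (.node 4 (.node 2 (.node 1 (.leaf 0x88888) (.leaf 0x88888)) (.node 1 (.leaf 0x88888) (.leaf 0x88888))) (.node 2 (.node 1 (.leaf 0x88888) (.leaf 0x88888)) (.node 1 (.leaf 0x88888) (.leaf 0x88888))))) (.node 8 (.node 4 (.node 2 (.node 1 (.leaf 0x88888) (.leaf 0x88888)) (.node 1 (.leaf 0x88888) (.leaf 0x88888))) (.node 2 (.node 1 (.leaf 0x88888) (.leaf 0x88888)) (.node 1 (.leaf 0x88888) (.leaf 0x88888)))) (.node 4 (.node 2 (.node 1 (.leaf 0x88888) (.leaf 0x88888)) (.node 1 (.leaf 0x88888) (.leaf 0x88888))) (.node 2 (.node 1 (.leaf 0x88888) (.leaf 0x88888)) (.node 1 (.leaf 0x88888) (.leaf 0x88888)))))))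

/-- Table data. -/
def tabVB_0_10 : Tab :=
  (.node 32 (.node 16 (.node 8 (.node 4 (.node 2 (.node 1 (.leaf 0x88888) (.leaf 0x88888)) (.node 1 (.leaf 0x88888) (.leaf 0x88888))) (.node 2 (.node 1 (.leaf 0x88888) (.leaf 0x88888)) (.node 1 (.leaf 0x88888) (.leaf 0x88888)))) (.node 4 (.node 2 (.node 1 (.leaf 0x88888) (.leaf 0x88888)) (.node 1 (.leaf 0x88888) (.leaf 0x88888))) (.node 2 (.node 1 (.leaf 0x88888) (.leaf 0x88888)) (.node 1 (.leaf 0x88888) (.leaf 0x88888))))) (.node 8 (.node 4 (.node 2 (.node 1 (.leaf 0x88888) (.leaf 0x88888)) (.node 1 (.leaf 0x88888) (.leaf 0x88888))) (.node 2 (.node 1 (.leaf 0x88888) (.leaf 0x88888)) (.node 1 (.leaf 0x88888) (.leaf 0x88888)))) (.node 4 (.node 2 (.node 1 (.leaf 0x88888) (.leaf 0x88888)) (.node 1 (.leaf 0x88888) (.leaf 0x88888))) (.node 2 (.node 1 (.leaf 0x88888) (.leaf 0x88888)) (.node 1 (.leaf 0x88888) (.leaf 0x88888)))))) (.node 16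 (.node 8 (.node 4 (.node 2 (.node 1 (.leaf 0x88888) (.leaf 0x88888)) (.node 1 (.leaf 0x88888) (.leaf 0x88888))) (.node 2 (.node 1 (.leaf 0x88888) (.leaf 0x88888)) (.node 1 (.leaf 0x88888) (.leaf 0x88888)))) (.node 4 (.node 2 (.node 1 (.leaf 0x88888) (.leaf 0x88888)) (.node 1 (.leaf 0x88888) (.leaf 0x88888))) (.node 2 (.node 1 (.leaf 0x88888) (.leaf 0x88888)) (.node 1 (.leaf 0x88888) (.leaf 0x88888))))) (.node 8 (.node 4 (.node 2 (.node 1 (.leaf 0x88888) (.leaf 0x88888)) (.node 1 (.leaf 0x88888) (.leaf 0x88888))) (.node 2 (.node 1 (.leaf 0x88888) (.leaf 0x88888)) (.node 1 (.leaf 0x88888) (.leaf 0x88888)))) (.node 4 (.node 2 (.node 1 (.leaf 0x88888) (.leaf 0x88888)) (.node 1 (.leaf 0x88888) (.leaf 0x88888))) (.node 2 (.node 1 (.leaf 0x88888) (.leaf 0x88888)) (.node 1 (.leaf 0x88888) (.leaf 0x88888)))))))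

/-- Table data. -/
def tabVB_0_11 : Tab :=
  (.node 32 (.node 16 (.node 8 (.node 4 (.node 2 (.node 1 (.leaf 0x88888) (.leaf 0x88888)) (.node 1 (.leaf 0x88888) (.leaf 0x88888))) (.node 2 (.node 1 (.leaf 0x88888) (.leaf 0x88888)) (.node 1 (.leaf 0x88888) (.leaf 0x88888)))) (.node 4 (.node 2 (.node 1 (.leaf 0x88888) (.leaf 0x88888)) (.node 1 (.leaf 0x88888) (.leaf 0x88888))) (.node 2 (.node 1 (.leaf 0x88888) (.leaf 0x88888)) (.node 1 (.leaf 0x88888) (.leaf 0x88888))))) (.node 8 (.node 4 (.node 2 (.node 1 (.leaf 0x88888) (.leaf 0x88888)) (.node 1 (.leaf 0x88888) (.leaf 0x88888))) (.node 2 (.node 1 (.leaf 0x88888) (.leaf 0x88888)) (.node 1 (.leaf 0x88888) (.leaf 0x88888)))) (.node 4 (.node 2 (.node 1 (.leaf 0x88888) (.leaf 0x88888)) (.node 1 (.leaf 0x88888) (.leaf 0x88888))) (.node 2 (.node 1 (.leaf 0x88888) (.leaf 0x88888)) (.node 1 (.leaf 0x88888) (.leaf 0x88888)))))) (.node 16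 (.node 8 (.node 4 (.node 2 (.node 1 (.leaf 0x88888) (.leaf 0x88888)) (.node 1 (.leaf 0x88888) (.leaf 0x88888))) (.node 2 (.node 1 (.leaf 0x88888) (.leaf 0x88888)) (.node 1 (.leaf 0x88888) (.leaf 0x88888)))) (.node 4 (.node 2 (.node 1 (.leaf 0x88888) (.leaf 0x88888)) (.node 1 (.leaf 0x88888) (.leaf 0x88888))) (.node 2 (.node 1 (.leaf 0x88888) (.leaf 0x88888)) (.node 1 (.leaf 0x88888) (.leaf 0x88888))))) (.node 8 (.node 4 (.node 2 (.node 1 (.leaf 0x88888) (.leaf 0x88888)) (.node 1 (.leaf 0x88888) (.leaf 0x88888))) (.node 2 (.node 1 (.leaf 0x88888) (.leaf 0x88888)) (.node 1 (.leaf 0x88888) (.leaf 0x88888)))) (.node 4 (.node 2 (.node 1 (.leaf 0x88888) (.leaf 0x88888)) (.node 1 (.leaf 0x88888) (.leaf 0x88888))) (.node 2 (.node 1 (.leaf 0x88888) (.leaf 0x88888)) (.node 1 (.leaf 0x88888) (.leaf 0x88888)))))))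

/-- Table data. -/
def tabVB_0_12 : Tab :=
  (.node 32 (.node 16 (.node 8 (.node 4 (.node 2 (.node 1 (.leaf 0x88888) (.leaf 0x88888)) (.node 1 (.leaf 0x88888) (.leaf 0x88888))) (.node 2 (.node 1 (.leaf 0x88888) (.leaf 0x88888)) (.node 1 (.leaf 0x88888) (.leaf 0x88888)))) (.node 4 (.node 2 (.node 1 (.leaf 0x88888) (.leaf 0x88888)) (.node 1 (.leaf 0x88888) (.leaf 0x88888))) (.node 2 (.node 1 (.leaf 0x88888) (.leaf 0x88888)) (.node 1 (.leaf 0x88888) (.leaf 0x88888))))) (.node 8 (.node 4 (.node 2 (.node 1 (.leaf 0x88888) (.leaf 0x88888)) (.node 1 (.leaf 0x88888) (.leaf 0x88888))) (.node 2 (.node 1 (.leaf 0x88888) (.leaf 0x88888)) (.node 1 (.leaf 0x88888) (.leaf 0x88888)))) (.node 4 (.node 2 (.node 1 (.leaf 0x88888) (.leaf 0x88888)) (.node 1 (.leaf 0x88888) (.leaf 0x88888))) (.node 2 (.node 1 (.leaf 0x88888) (.leaf 0x88888)) (.node 1 (.leaf 0x88888) (.leaf 0x88888)))))) (.node 16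 (.node 8 (.node 4 (.node 2 (.node 1 (.leaf 0x88888) (.leaf 0x88888)) (.node 1 (.leaf 0x88888) (.leaf 0x88888))) (.node 2 (.node 1 (.leaf 0x88888) (.leaf 0x88888)) (.node 1 (.leaf 0x88888) (.leaf 0x88888)))) (.node 4 (.node 2 (.node 1 (.leaf 0x88888) (.leaf 0x88888)) (.node 1 (.leaf 0x88888) (.leaf 0x88888))) (.node 2 (.node 1 (.leaf 0x88888) (.leaf 0x88888)) (.node 1 (.leaf 0x88888) (.leaf 0x88888))))) (.node 8 (.node 4 (.node 2 (.node 1 (.leaf 0x88888) (.leaf 0x88888)) (.node 1 (.leaf 0x88888) (.leaf 0x88888))) (.node 2 (.node 1 (.leaf 0x88888) (.leaf 0x88888)) (.node 1 (.leaf 0x88888) (.leaf 0x88888)))) (.node 4 (.node 2 (.node 1 (.leaf 0x88888) (.leaf 0x88888)) (.node 1 (.leaf 0x88888) (.leaf 0x88888))) (.node 2 (.node 1 (.leaf 0x88888) (.leaf 0x88888)) (.node 1 (.leaf 0x88888) (.leaf 0x88888)))))))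

/-- Table data. -/
def tabVB_0_13 : Tab :=
  (.node 32 (.node 16 (.node 8 (.node 4 (.node 2 (.node 1 (.leaf 0x88888) (.leaf 0x88888)) (.node 1 (.leaf 0x88888) (.leaf 0x88888))) (.node 2 (.node 1 (.leaf 0x88888) (.leaf 0x88888)) (.node 1 (.leaf 0x88888) (.leaf 0x88888)))) (.node 4 (.node 2 (.node 1 (.leaf 0x88888) (.leaf 0x88888)) (.node 1 (.leaf 0x88888) (.leaf 0x88888))) (.node 2 (.node 1 (.leaf 0x88888) (.leaf 0x88888)) (.node 1 (.leaf 0x88888) (.leaf 0x88888))))) (.node 8 (.node 4 (.node 2 (.node 1 (.leaf 0x88888) (.leaf 0x88888)) (.node 1 (.leaf 0x88888) (.leaf 0x88888))) (.node 2 (.node 1 (.leaf 0x88888) (.leaf 0x88888)) (.node 1 (.leaf 0x88888) (.leaf 0x88888)))) (.node 4 (.node 2 (.node 1 (.leaf 0x88888) (.leaf 0x88888)) (.node 1 (.leaf 0x88888) (.leaf 0x88888))) (.node 2 (.node 1 (.leaf 0x88888) (.leaf 0x88888)) (.node 1 (.leaf 0x88888) (.leaf 0x88888)))))) (.node 16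 (.node 8 (.node 4 (.node 2 (.node 1 (.leaf 0x88888) (.leaf 0x88888)) (.node 1 (.leaf 0x88888) (.leaf 0x88888))) (.node 2 (.node 1 (.leaf 0x88888) (.leaf 0x88888)) (.node 1 (.leaf 0x88888) (.leaf 0x88888)))) (.node 4 (.node 2 (.node 1 (.leaf 0x88888) (.leaf 0x88888)) (.node 1 (.leaf 0x88888) (.leaf 0x88888))) (.node 2 (.node 1 (.leaf 0x88888) (.leaf 0x88888)) (.node 1 (.leaf 0x88888) (.leaf 0x88888))))) (.node 8 (.node 4 (.node 2 (.node 1 (.leaf 0x88888) (.leaf 0x88888)) (.node 1 (.leaf 0x88888) (.leaf 0x88888))) (.node 2 (.node 1 (.leaf 0x88888) (.leaf 0x88888)) (.node 1 (.leaf 0x88888) (.leaf 0x88888)))) (.node 4 (.node 2 (.node 1 (.leaf 0x88888) (.leaf 0x88888)) (.node 1 (.leaf 0x88888) (.leaf 0x88888))) (.node 2 (.node 1 (.leaf 0x88888) (.leaf 0x88888)) (.node 1 (.leaf 0x88888) (.leaf 0x88888)))))))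

/-- Table data. -/
def tabVB_0_14 : Tab :=
  (.node 32 (.node 16 (.node 8 (.node 4 (.node 2 (.node 1 (.leaf 0x88888) (.leaf 0x88888)) (.node 1 (.leaf 0x88888) (.leaf 0x88888))) (.node 2 (.node 1 (.leaf 0x88888) (.leaf 0x88888)) (.node 1 (.leaf 0x88888) (.leaf 0x88888)))) (.node 4 (.node 2 (.node 1 (.leaf 0x88888) (.leaf 0x88888)) (.node 1 (.leaf 0x88888) (.leaf 0x88888))) (.node 2 (.node 1 (.leaf 0x88888) (.leaf 0x88888)) (.node 1 (.leaf 0x88888) (.leaf 0x88888))))) (.node 8 (.node 4 (.node 2 (.node 1 (.leaf 0x88888) (.leaf 0x88888)) (.node 1 (.leaf 0x88888) (.leaf 0x88888))) (.node 2 (.node 1 (.leaf 0x88888) (.leaf 0x88888)) (.node 1 (.leaf 0x88888) (.leaf 0x88888)))) (.node 4 (.node 2 (.node 1 (.leaf 0x88888) (.leaf 0x88888)) (.node 1 (.leaf 0x88888) (.leaf 0x88888))) (.node 2 (.node 1 (.leaf 0x88888) (.leaf 0x88888)) (.node 1 (.leaf 0x88888) (.leaf 0x88888)))))) (.node 16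 (.node 8 (.node 4 (.node 2 (.node 1 (.leaf 0x88888) (.leaf 0x88888)) (.node 1 (.leaf 0x88888) (.leaf 0x88888))) (.node 2 (.node 1 (.leaf 0x88888) (.leaf 0x88888)) (.node 1 (.leaf 0x88888) (.leaf 0x88888)))) (.node 4 (.node 2 (.node 1 (.leaf 0x88888) (.leaf 0x88888)) (.node 1 (.leaf 0x88888) (.leaf 0x88888))) (.node 2 (.node 1 (.leaf 0x88888) (.leaf 0x88888)) (.node 1 (.leaf 0x88888) (.leaf 0x88888))))) (.node 8 (.node 4 (.node 2 (.node 1 (.leaf 0x88888) (.leaf 0x88888)) (.node 1 (.leaf 0x88888) (.leaf 0x88888))) (.node 2 (.node 1 (.leaf 0x88888) (.leaf 0x88888)) (.node 1 (.leaf 0x88888) (.leaf 0x88888)))) (.node 4 (.node 2 (.node 1 (.leaf 0x88888) (.leaf 0x88888)) (.node 1 (.leaf 0x88888) (.leaf 0x88888))) (.node 2 (.node 1 (.leaf 0x88888) (.leaf 0x88888)) (.node 1 (.leaf 0x88888) (.leaf 0x88888)))))))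

/-- Table data. -/
def tabVB_0_15 : Tab :=
  (.node 32 (.node 16 (.node 8 (.node 4 (.node 2 (.node 1 (.leaf 0x88888) (.leaf 0x88888)) (.node 1 (.leaf 0x88888) (.leaf 0x88888))) (.node 2 (.node 1 (.leaf 0x88888) (.leaf 0x88888)) (.node 1 (.leaf 0x88888) (.leaf 0x88888)))) (.node 4 (.node 2 (.node 1 (.leaf 0x88888) (.leaf 0x88888)) (.node 1 (.leaf 0x88888) (.leaf 0x88888))) (.node 2 (.node 1 (.leaf 0x88888) (.leaf 0x88888)) (.node 1 (.leaf 0x88888) (.leaf 0x88888))))) (.node 8 (.node 4 (.node 2 (.node 1 (.leaf 0x88888) (.leaf 0x88888)) (.node 1 (.leaf 0x88888) (.leaf 0x88888))) (.node 2 (.node 1 (.leaf 0x88888) (.leaf 0x88888)) (.node 1 (.leaf 0x88888) (.leaf 0x88888)))) (.node 4 (.node 2 (.node 1 (.leaf 0x88888) (.leaf 0x88888)) (.node 1 (.leaf 0x88888) (.leaf 0x88888))) (.node 2 (.node 1 (.leaf 0x88888) (.leaf 0x88888)) (.node 1 (.leaf 0x88888) (.leaf 0x88888)))))) (.node 16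 (.node 8 (.node 4 (.node 2 (.node 1 (.leaf 0x88888) (.leaf 0x88888)) (.node 1 (.leaf 0x88888) (.leaf 0x88888))) (.node 2 (.node 1 (.leaf 0x88888) (.leaf 0x88888)) (.node 1 (.leaf 0x88888) (.leaf 0x88888)))) (.node 4 (.node 2 (.node 1 (.leaf 0x88888) (.leaf 0x88888)) (.node 1 (.leaf 0x88888) (.leaf 0x88888))) (.node 2 (.node 1 (.leaf 0x88888) (.leaf 0x88888)) (.node 1 (.leaf 0x88888) (.leaf 0x88888))))) (.node 8 (.node 4 (.node 2 (.node 1 (.leaf 0x88888) (.leaf 0x88888)) (.node 1 (.leaf 0x88888) (.leaf 0x88888))) (.node 2 (.node 1 (.leaf 0x88888) (.leaf 0x88888)) (.node 1 (.leaf 0x88888) (.leaf 0x88888)))) (.node 4 (.node 2 (.node 1 (.leaf 0x88888) (.leaf 0x88888)) (.node 1 (.leaf 0x88888) (.leaf 0x88888))) (.node 2 (.node 1 (.leaf 0x88888) (.leaf 0x88888)) (.node 1 (.leaf 0x88888) (.leaf 0x88888)))))))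

/-- Table data. -/
def tabVB_0_16 : Tab :=
  (.node 32 (.node 16 (.node 8 (.node 4 (.node 2 (.node 1 (.leaf 0x88888) (.leaf 0x88888)) (.node 1 (.leaf 0x88888) (.leaf 0x88888))) (.node 2 (.node 1 (.leaf 0x88888) (.leaf 0x88888)) (.node 1 (.leaf 0x88888) (.leaf 0x88888)))) (.node 4 (.node 2 (.node 1 (.leaf 0x88888) (.leaf 0x88888)) (.node 1 (.leaf 0x88888) (.leaf 0x88888))) (.node 2 (.node 1 (.leaf 0x88888) (.leaf 0x88888)) (.node 1 (.leaf 0x88888) (.leaf 0x88888))))) (.node 8 (.node 4 (.node 2 (.node 1 (.leaf 0x88888) (.leaf 0x88888)) (.node 1 (.leaf 0x88888) (.leaf 0x88888))) (.node 2 (.node 1 (.leaf 0x88888) (.leaf 0x88888)) (.node 1 (.leaf 0x88888) (.leaf 0x88888)))) (.node 4 (.node 2 (.node 1 (.leaf 0x88888) (.leaf 0x88888)) (.node 1 (.leaf 0x88888) (.leaf 0x88888))) (.node 2 (.node 1 (.leaf 0x88888) (.leaf 0x88888)) (.node 1 (.leaf 0x88888) (.leaf 0x88888)))))) (.node 16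 (.node 8 (.node 4 (.node 2 (.node 1 (.leaf 0x88888) (.leaf 0x88888)) (.node 1 (.leaf 0x88888) (.leaf 0x88888))) (.node 2 (.node 1 (.leaf 0x88888) (.leaf 0x88888)) (.node 1 (.leaf 0x88888) (.leaf 0x88888)))) (.node 4 (.node 2 (.node 1 (.leaf 0x88888) (.leaf 0x88888)) (.node 1 (.leaf 0x88888) (.leaf 0x88888))) (.node 2 (.node 1 (.leaf 0x88888) (.leaf 0x88888)) (.node 1 (.leaf 0x88888) (.leaf 0x88888))))) (.node 8 (.node 4 (.node 2 (.node 1 (.leaf 0x88888) (.leaf 0x88888)) (.node 1 (.leaf 0x88888) (.leaf 0x88888))) (.node 2 (.node 1 (.leaf 0x88888) (.leaf 0x88888)) (.node 1 (.leaf 0x88888) (.leaf 0x88888)))) (.node 4 (.node 2 (.node 1 (.leaf 0x88888) (.leaf 0x88888)) (.node 1 (.leaf 0x88888) (.leaf 0x88888))) (.node 2 (.node 1 (.leaf 0x88888) (.leaf 0x88888)) (.node 1 (.leaf 0x88888) (.leaf 0x88888)))))))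

/-- Table data. -/
def tabVB_0_17 : Tab :=
  (.node 32 (.node 16 (.node 8 (.node 4 (.node 2 (.node 1 (.leaf 0x88888) (.leaf 0x88888)) (.node 1 (.leaf 0x88888) (.leaf 0x88888))) (.node 2 (.node 1 (.leaf 0x88888) (.leaf 0x88888)) (.node 1 (.leaf 0x88888) (.leaf 0x88888)))) (.node 4 (.node 2 (.node 1 (.leaf 0x88888) (.leaf 0x88888)) (.node 1 (.leaf 0x88888) (.leaf 0x88888))) (.node 2 (.node 1 (.leaf 0x88888) (.leaf 0x88888)) (.node 1 (.leaf 0x88888) (.leaf 0x88888))))) (.node 8 (.node 4 (.node 2 (.node 1 (.leaf 0x88888) (.leaf 0x88888)) (.node 1 (.leaf 0x88888) (.leaf 0x88888))) (.node 2 (.node 1 (.leaf 0x88888) (.leaf 0x88888)) (.node 1 (.leaf 0x88888) (.leaf 0x88888)))) (.node 4 (.node 2 (.node 1 (.leaf 0x88888) (.leaf 0x88888)) (.node 1 (.leaf 0x88888) (.leaf 0x88888))) (.node 2 (.node 1 (.leaf 0x88888) (.leaf 0x88888)) (.node 1 (.leaf 0x88888) (.leaf 0x88888)))))) (.node 16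 (.node 8 (.node 4 (.node 2 (.node 1 (.leaf 0x88888) (.leaf 0x88888)) (.node 1 (.leaf 0x88888) (.leaf 0x88888))) (.node 2 (.node 1 (.leaf 0x88888) (.leaf 0x88888)) (.node 1 (.leaf 0x88888) (.leaf 0x88888)))) (.node 4 (.node 2 (.node 1 (.leaf 0x88888) (.leaf 0x88888)) (.node 1 (.leaf 0x88888) (.leaf 0x88888))) (.node 2 (.node 1 (.leaf 0x88888) (.leaf 0x88888)) (.node 1 (.leaf 0x88888) (.leaf 0x88888))))) (.node 8 (.node 4 (.node 2 (.node 1 (.leaf 0x88888) (.leaf 0x88888)) (.node 1 (.leaf 0x88888) (.leaf 0x88888))) (.node 2 (.node 1 (.leaf 0x88888) (.leaf 0x88888)) (.node 1 (.leaf 0x88888) (.leaf 0x88888)))) (.node 4 (.node 2 (.node 1 (.leaf 0x88888) (.leaf 0x88888)) (.node 1 (.leaf 0x88888) (.leaf 0x88888))) (.node 2 (.node 1 (.leaf 0x88888) (.leaf 0x88888)) (.node 1 (.leaf 0x88888) (.leaf 0x88888)))))))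

/-- Table data. -/
def tabVB_0_18 : Tab :=
  (.node 32 (.node 16 (.node 8 (.node 4 (.node 2 (.node 1 (.leaf 0x88888) (.leaf 0x88888)) (.node 1 (.leaf 0x88888) (.leaf 0x88888))) (.node 2 (.node 1 (.leaf 0x88888) (.leaf 0x88888)) (.node 1 (.leaf 0x88888) (.leaf 0x88888)))) (.node 4 (.node 2 (.node 1 (.leaf 0x88888) (.leaf 0x88888)) (.node 1 (.leaf 0x88888) (.leaf 0x88888))) (.node 2 (.node 1 (.leaf 0x88888) (.leaf 0x88888)) (.node 1 (.leaf 0x88888) (.leaf 0x88888))))) (.node 8 (.node 4 (.node 2 (.node 1 (.leaf 0x88888) (.leaf 0x88888)) (.node 1 (.leaf 0x88888) (.leaf 0x88888))) (.node 2 (.node 1 (.leaf 0x88888) (.leaf 0x88888)) (.node 1 (.leaf 0x88888) (.leaf 0x88888)))) (.node 4 (.node 2 (.node 1 (.leaf 0x88888) (.leaf 0x88888)) (.node 1 (.leaf 0x88888) (.leaf 0x88888))) (.node 2 (.node 1 (.leaf 0x88888) (.leaf 0x88888)) (.node 1 (.leaf 0x88888) (.leaf 0x88888)))))) (.node 16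 (.node 8 (.node 4 (.node 2 (.node 1 (.leaf 0x88888) (.leaf 0x88888)) (.node 1 (.leaf 0x88888) (.leaf 0x88888))) (.node 2 (.node 1 (.leaf 0x88888) (.leaf 0x88888)) (.node 1 (.leaf 0x88888) (.leaf 0x88888)))) (.node 4 (.node 2 (.node 1 (.leaf 0x88888) (.leaf 0x88888)) (.node 1 (.leaf 0x88888) (.leaf 0x88888))) (.node 2 (.node 1 (.leaf 0x88888) (.leaf 0x88888)) (.node 1 (.leaf 0x88888) (.leaf 0x88888))))) (.node 8 (.node 4 (.node 2 (.node 1 (.leaf 0x88888) (.leaf 0x88888)) (.node 1 (.leaf 0x88888) (.leaf 0x88888))) (.node 2 (.node 1 (.leaf 0x88888) (.leaf 0x88888)) (.node 1 (.leaf 0x88888) (.leaf 0x88888)))) (.node 4 (.node 2 (.node 1 (.leaf 0x88888) (.leaf 0x88888)) (.node 1 (.leaf 0x88888) (.leaf 0x88888))) (.node 2 (.node 1 (.leaf 0x88888) (.leaf 0x88888)) (.node 1 (.leaf 0x88888) (.leaf 0x88888)))))))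

/-- Table data. -/
def tabVB_0_19 : Tab :=
  (.node 32 (.node 16 (.node 8 (.node 4 (.node 2 (.node 1 (.leaf 0x88888) (.leaf 0x88888)) (.node 1 (.leaf 0x88888) (.leaf 0x88888))) (.node 2 (.node 1 (.leaf 0x88888) (.leaf 0x88888)) (.node 1 (.leaf 0x88888) (.leaf 0x88888)))) (.node 4 (.node 2 (.node 1 (.leaf 0x88888) (.leaf 0x88888)) (.node 1 (.leaf 0x88888) (.leaf 0x88888))) (.node 2 (.node 1 (.leaf 0x88888) (.leaf 0x88888)) (.node 1 (.leaf 0x88888) (.leaf 0x88888))))) (.node 8 (.node 4 (.node 2 (.node 1 (.leaf 0x88888) (.leaf 0x88888)) (.node 1 (.leaf 0x88888) (.leaf 0x88888))) (.node 2 (.node 1 (.leaf 0x88888) (.leaf 0x88888)) (.node 1 (.leaf 0x88888) (.leaf 0x88888)))) (.node 4 (.node 2 (.node 1 (.leaf 0x88888) (.leaf 0x88888)) (.node 1 (.leaf 0x88888) (.leaf 0x88888))) (.node 2 (.node 1 (.leaf 0x88888) (.leaf 0x88888)) (.node 1 (.leaf 0x88888) (.leaf 0x88888)))))) (.node 16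 (.node 8 (.node 4 (.node 2 (.node 1 (.leaf 0x88888) (.leaf 0x88888)) (.node 1 (.leaf 0x88888) (.leaf 0x88888))) (.node 2 (.node 1 (.leaf 0x88888) (.leaf 0x88888)) (.node 1 (.leaf 0x88888) (.leaf 0x88888)))) (.node 4 (.node 2 (.node 1 (.leaf 0x88888) (.leaf 0x88888)) (.node 1 (.leaf 0x88888) (.leaf 0x88888))) (.node 2 (.node 1 (.leaf 0x88888) (.leaf 0x88888)) (.node 1 (.leaf 0x88888) (.leaf 0x88888))))) (.node 8 (.node 4 (.node 2 (.node 1 (.leaf 0x88888) (.leaf 0x88888)) (.node 1 (.leaf 0x88888) (.leaf 0x88888))) (.node 2 (.node 1 (.leaf 0x88888) (.leaf 0x88888)) (.node 1 (.leaf 0x88888) (.leaf 0x88888)))) (.node 4 (.node 2 (.node 1 (.leaf 0x88888) (.leaf 0x88888)) (.node 1 (.leaf 0x88888) (.leaf 0x88888))) (.node 2 (.node 1 (.leaf 0x88888) (.leaf 0x88888)) (.node 1 (.leaf 0x88888) (.leaf 0x88888)))))))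

/-- Table data. -/
def tabVB_0_20 : Tab :=
  (.node 32 (.node 16 (.node 8 (.node 4 (.node 2 (.node 1 (.leaf 0x88888) (.leaf 0x88888)) (.node 1 (.leaf 0x88888) (.leaf 0x88888))) (.node 2 (.node 1 (.leaf 0x88888) (.leaf 0x88888)) (.node 1 (.leaf 0x88888) (.leaf 0x88888)))) (.node 4 (.node 2 (.node 1 (.leaf 0x88888) (.leaf 0x88888)) (.node 1 (.leaf 0x88888) (.leaf 0x88888))) (.node 2 (.node 1 (.leaf 0x88888) (.leaf 0x88888)) (.node 1 (.leaf 0x88888) (.leaf 0x88888))))) (.node 8 (.node 4 (.node 2 (.node 1 (.leaf 0x88888) (.leaf 0x88888)) (.node 1 (.leaf 0x88888) (.leaf 0x88888))) (.node 2 (.node 1 (.leaf 0x88888) (.leaf 0x88888)) (.node 1 (.leaf 0x88888) (.leaf 0x88888)))) (.node 4 (.node 2 (.node 1 (.leaf 0x88888) (.leaf 0x88888)) (.node 1 (.leaf 0x88888) (.leaf 0x88888))) (.node 2 (.node 1 (.leaf 0x88888) (.leaf 0x88888)) (.node 1 (.leaf 0x88888) (.leaf 0x88888)))))) (.node 16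 (.node 8 (.node 4 (.node 2 (.node 1 (.leaf 0x88888) (.leaf 0x88888)) (.node 1 (.leaf 0x88888) (.leaf 0x88888))) (.node 2 (.node 1 (.leaf 0x88888) (.leaf 0x88888)) (.node 1 (.leaf 0x88888) (.leaf 0x88888)))) (.node 4 (.node 2 (.node 1 (.leaf 0x88888) (.leaf 0x88888)) (.node 1 (.leaf 0x88888) (.leaf 0x88888))) (.node 2 (.node 1 (.leaf 0x88888) (.leaf 0x88888)) (.node 1 (.leaf 0x88888) (.leaf 0x88888))))) (.node 8 (.node 4 (.node 2 (.node 1 (.leaf 0x88888) (.leaf 0x88888)) (.node 1 (.leaf 0x88888) (.leaf 0x88888))) (.node 2 (.node 1 (.leaf 0x88888) (.leaf 0x88888)) (.node 1 (.leaf 0x88888) (.leaf 0x88888)))) (.node 4 (.node 2 (.node 1 (.leaf 0x88888) (.leaf 0x88888)) (.node 1 (.leaf 0x88888) (.leaf 0x88888))) (.node 2 (.node 1 (.leaf 0x88888) (.leaf 0x88888)) (.node 1 (.leaf 0x88888) (.leaf 0x88888)))))))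

/-- Table data. -/
def tabVB_0_21 : Tab :=
  (.node 32 (.node 16 (.node 8 (.node 4 (.node 2 (.node 1 (.leaf 0x88888) (.leaf 0x88888)) (.node 1 (.leaf 0x88888) (.leaf 0x88888))) (.node 2 (.node 1 (.leaf 0x88888) (.leaf 0x88888)) (.node 1 (.leaf 0x88888) (.leaf 0x88888)))) (.node 4 (.node 2 (.node 1 (.leaf 0x88888) (.leaf 0x88888)) (.node 1 (.leaf 0x88888) (.leaf 0x88888))) (.node 2 (.node 1 (.leaf 0x88888) (.leaf 0x88888)) (.node 1 (.leaf 0x88888) (.leaf 0x88888))))) (.node 8 (.node 4 (.node 2 (.node 1 (.leaf 0x88888) (.leaf 0x88888)) (.node 1 (.leaf 0x88888) (.leaf 0x88888))) (.node 2 (.node 1 (.leaf 0x88888) (.leaf 0x88888)) (.node 1 (.leaf 0x88888) (.leaf 0x88888)))) (.node 4 (.node 2 (.node 1 (.leaf 0x88888) (.leaf 0x88888)) (.node 1 (.leaf 0x88888) (.leaf 0x88888))) (.node 2 (.node 1 (.leaf 0x88888) (.leaf 0x88888)) (.node 1 (.leaf 0x88888) (.leaf 0x88888)))))) (.node 16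 (.node 8 (.node 4 (.node 2 (.node 1 (.leaf 0x88888) (.leaf 0x88888)) (.node 1 (.leaf 0x88888) (.leaf 0x88888))) (.node 2 (.node 1 (.leaf 0x88888) (.leaf 0x88888)) (.node 1 (.leaf 0x88888) (.leaf 0x88888)))) (.node 4 (.node 2 (.node 1 (.leaf 0x88888) (.leaf 0x88888)) (.node 1 (.leaf 0x88888) (.leaf 0x88888))) (.node 2 (.node 1 (.leaf 0x88888) (.leaf 0x88888)) (.node 1 (.leaf 0x88888) (.leaf 0x88888))))) (.node 8 (.node 4 (.node 2 (.node 1 (.leaf 0x88888) (.leaf 0x88888)) (.node 1 (.leaf 0x88888) (.leaf 0x88888))) (.node 2 (.node 1 (.leaf 0x88888) (.leaf 0x88888)) (.node 1 (.leaf 0x88888) (.leaf 0x88888)))) (.node 4 (.node 2 (.node 1 (.leaf 0x88888) (.leaf 0x88888)) (.node 1 (.leaf 0x88888) (.leaf 0x88888))) (.node 2 (.node 1 (.leaf 0x88888) (.leaf 0x88888)) (.node 1 (.leaf 0x88888) (.leaf 0x88888)))))))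

/-- Table data. -/
def tabVB_0_22 : Tab :=
  (.node 32 (.node 16 (.node 8 (.node 4 (.node 2 (.node 1 (.leaf 0x88888) (.leaf 0x88888)) (.node 1 (.leaf 0x88888) (.leaf 0x88888))) (.node 2 (.node 1 (.leaf 0x88888) (.leaf 0x88888)) (.node 1 (.leaf 0x88888) (.leaf 0x88888)))) (.node 4 (.node 2 (.node 1 (.leaf 0x88888) (.leaf 0x88888)) (.node 1 (.leaf 0x88888) (.leaf 0x88888))) (.node 2 (.node 1 (.leaf 0x88888) (.leaf 0x88888)) (.node 1 (.leaf 0x88888) (.leaf 0x88888))))) (.node 8 (.node 4 (.node 2 (.node 1 (.leaf 0x88888) (.leaf 0x88888)) (.node 1 (.leaf 0x88888) (.leaf 0x88888))) (.node 2 (.node 1 (.leaf 0x88888) (.leaf 0x88888)) (.node 1 (.leaf 0x88888) (.leaf 0x88888)))) (.node 4 (.node 2 (.node 1 (.leaf 0x88888) (.leaf 0x88888)) (.node 1 (.leaf 0x88888) (.leaf 0x88888))) (.node 2 (.node 1 (.leaf 0x88888) (.leaf 0x88888)) (.node 1 (.leaf 0x88888) (.leaf 0x88888)))))) (.node 16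 (.node 8 (.node 4 (.node 2 (.node 1 (.leaf 0x88888) (.leaf 0x88888)) (.node 1 (.leaf 0x88888) (.leaf 0x88888))) (.node 2 (.node 1 (.leaf 0x88888) (.leaf 0x88888)) (.node 1 (.leaf 0x88888) (.leaf 0x88888)))) (.node 4 (.node 2 (.node 1 (.leaf 0x88888) (.leaf 0x88888)) (.node 1 (.leaf 0x88888) (.leaf 0x88888))) (.node 2 (.node 1 (.leaf 0x88888) (.leaf 0x88888)) (.node 1 (.leaf 0x88888) (.leaf 0x88888))))) (.node 8 (.node 4 (.node 2 (.node 1 (.leaf 0x88888) (.leaf 0x88888)) (.node 1 (.leaf 0x88888) (.leaf 0x88888))) (.node 2 (.node 1 (.leaf 0x88888) (.leaf 0x88888)) (.node 1 (.leaf 0x88888) (.leaf 0x88888)))) (.node 4 (.node 2 (.node 1 (.leaf 0x88888) (.leaf 0x88888)) (.node 1 (.leaf 0x88888) (.leaf 0x88888))) (.node 2 (.node 1 (.leaf 0x88888) (.leaf 0x88888)) (.node 1 (.leaf 0x88888) (.leaf 0x88888)))))))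

/-- Table data. -/
def tabVB_0_23 : Tab :=
  (.node 32 (.node 16 (.node 8 (.node 4 (.node 2 (.node 1 (.leaf 0x88888) (.leaf 0x88888)) (.node 1 (.leaf 0x88888) (.leaf 0x88888))) (.node 2 (.node 1 (.leaf 0x88888) (.leaf 0x88888)) (.node 1 (.leaf 0x88888) (.leaf 0x88888)))) (.node 4 (.node 2 (.node 1 (.leaf 0x88888) (.leaf 0x88888)) (.node 1 (.leaf 0x88888) (.leaf 0x88888))) (.node 2 (.node 1 (.leaf 0x88888) (.leaf 0x88888)) (.node 1 (.leaf 0x88888) (.leaf 0x88888))))) (.node 8 (.node 4 (.node 2 (.node 1 (.leaf 0x88888) (.leaf 0x88888)) (.node 1 (.leaf 0x88888) (.leaf 0x88888))) (.node 2 (.node 1 (.leaf 0x88888) (.leaf 0x88888)) (.node 1 (.leaf 0x88888) (.leaf 0x88888)))) (.node 4 (.node 2 (.node 1 (.leaf 0x88888) (.leaf 0x88888)) (.node 1 (.leaf 0x88888) (.leaf 0x88888))) (.node 2 (.node 1 (.leaf 0x88888) (.leaf 0x88888)) (.node 1 (.leaf 0x88888) (.leaf 0x88888)))))) (.node 16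 (.node 8 (.node 4 (.node 2 (.node 1 (.leaf 0x88888) (.leaf 0x88888)) (.node 1 (.leaf 0x88888) (.leaf 0x88888))) (.node 2 (.node 1 (.leaf 0x88888) (.leaf 0x88888)) (.node 1 (.leaf 0x88888) (.leaf 0x88888)))) (.node 4 (.node 2 (.node 1 (.leaf 0x88888) (.leaf 0x88888)) (.node 1 (.leaf 0x88888) (.leaf 0x88888))) (.node 2 (.node 1 (.leaf 0x88888) (.leaf 0x88888)) (.node 1 (.leaf 0x88888) (.leaf 0x88888))))) (.node 8 (.node 4 (.node 2 (.node 1 (.leaf 0x88888) (.leaf 0x88888)) (.node 1 (.leaf 0x88888) (.leaf 0x88888))) (.node 2 (.node 1 (.leaf 0x88888) (.leaf 0x88888)) (.node 1 (.leaf 0x88888) (.leaf 0x88888)))) (.node 4 (.node 2 (.node 1 (.leaf 0x88888) (.leaf 0x88888)) (.node 1 (.leaf 0x88888) (.leaf 0x88888))) (.node 2 (.node 1 (.leaf 0x88888) (.leaf 0x88888)) (.node 1 (.leaf 0x88888) (.leaf 0x88888)))))))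

/-- Table data. -/
def tabVB_0_24 : Tab :=
  (.node 32 (.node 16 (.node 8 (.node 4 (.node 2 (.node 1 (.leaf 0x88888) (.leaf 0x88888)) (.node 1 (.leaf 0x88888) (.leaf 0x88888))) (.node 2 (.node 1 (.leaf 0x88888) (.leaf 0x88888)) (.node 1 (.leaf 0x88888) (.leaf 0x88888)))) (.node 4 (.node 2 (.node 1 (.leaf 0x88888) (.leaf 0x88888)) (.node 1 (.leaf 0x88888) (.leaf 0x88888))) (.node 2 (.node 1 (.leaf 0x88888) (.leaf 0x88888)) (.node 1 (.leaf 0x88888) (.leaf 0x88888))))) (.node 8 (.node 4 (.node 2 (.node 1 (.leaf 0x88888) (.leaf 0x88888)) (.node 1 (.leaf 0x88888) (.leaf 0x88888))) (.node 2 (.node 1 (.leaf 0x88888) (.leaf 0x88888)) (.node 1 (.leaf 0x88888) (.leaf 0x88888)))) (.node 4 (.node 2 (.node 1 (.leaf 0x88888) (.leaf 0x88888)) (.node 1 (.leaf 0x88888) (.leaf 0x88888))) (.node 2 (.node 1 (.leaf 0x88888) (.leaf 0x88888)) (.node 1 (.leaf 0x88888) (.leaf 0x88888)))))) (.node 16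 (.node 8 (.node 4 (.node 2 (.node 1 (.leaf 0x88888) (.leaf 0x88888)) (.node 1 (.leaf 0x88888) (.leaf 0x88888))) (.node 2 (.node 1 (.leaf 0x88888) (.leaf 0x88888)) (.node 1 (.leaf 0x88888) (.leaf 0x88888)))) (.node 4 (.node 2 (.node 1 (.leaf 0x88888) (.leaf 0x88888)) (.node 1 (.leaf 0x88888) (.leaf 0x88888))) (.node 2 (.node 1 (.leaf 0x88888) (.leaf 0x88888)) (.node 1 (.leaf 0x88888) (.leaf 0x88888))))) (.node 8 (.node 4 (.node 2 (.node 1 (.leaf 0x88888) (.leaf 0x88888)) (.node 1 (.leaf 0x88888) (.leaf 0x88888))) (.node 2 (.node 1 (.leaf 0x88888) (.leaf 0x88888)) (.node 1 (.leaf 0x88888) (.leaf 0x88888)))) (.node 4 (.node 2 (.node 1 (.leaf 0x88888) (.leaf 0x88888)) (.node 1 (.leaf 0x88888) (.leaf 0x88888))) (.node 2 (.node 1 (.leaf 0x88888) (.leaf 0x88888)) (.node 1 (.leaf 0x88888) (.leaf 0x88888)))))))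

/-- Table data. -/
def tabVB_0_25 : Tab :=
  (.node 32 (.node 16 (.node 8 (.node 4 (.node 2 (.node 1 (.leaf 0x88888) (.leaf 0x88888)) (.node 1 (.leaf 0x88888) (.leaf 0x88888))) (.node 2 (.node 1 (.leaf 0x88888) (.leaf 0x88888)) (.node 1 (.leaf 0x88888) (.leaf 0x88888)))) (.node 4 (.node 2 (.node 1 (.leaf 0x88888) (.leaf 0x88888)) (.node 1 (.leaf 0x88888) (.leaf 0x88888))) (.node 2 (.node 1 (.leaf 0x88888) (.leaf 0x88888)) (.node 1 (.leaf 0x88888) (.leaf 0x88888))))) (.node 8 (.node 4 (.node 2 (.node 1 (.leaf 0x88888) (.leaf 0x88888)) (.node 1 (.leaf 0x88888) (.leaf 0x88888))) (.node 2 (.node 1 (.leaf 0x88888) (.leaf 0x88888)) (.node 1 (.leaf 0x88888) (.leaf 0x88888)))) (.node 4 (.node 2 (.node 1 (.leaf 0x88888) (.leaf 0x88888)) (.node 1 (.leaf 0x88888) (.leaf 0x88888))) (.node 2 (.node 1 (.leaf 0x88888) (.leaf 0x88888)) (.node 1 (.leaf 0x88888) (.leaf 0x88888)))))) (.node 16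 (.node 8 (.node 4 (.node 2 (.node 1 (.leaf 0x88888) (.leaf 0x88888)) (.node 1 (.leaf 0x88888) (.leaf 0x88888))) (.node 2 (.node 1 (.leaf 0x88888) (.leaf 0x88888)) (.node 1 (.leaf 0x88888) (.leaf 0x88888)))) (.node 4 (.node 2 (.node 1 (.leaf 0x88888) (.leaf 0x88888)) (.node 1 (.leaf 0x88888) (.leaf 0x88888))) (.node 2 (.node 1 (.leaf 0x88888) (.leaf 0x88888)) (.node 1 (.leaf 0x88888) (.leaf 0x88888))))) (.node 8 (.node 4 (.node 2 (.node 1 (.leaf 0x88888) (.leaf 0x88888)) (.node 1 (.leaf 0x88888) (.leaf 0x88888))) (.node 2 (.node 1 (.leaf 0x88888) (.leaf 0x88888)) (.node 1 (.leaf 0x88888) (.leaf 0x88888)))) (.node 4 (.node 2 (.node 1 (.leaf 0x88888) (.leaf 0x88888)) (.node 1 (.leaf 0x88888) (.leaf 0x88888))) (.node 2 (.node 1 (.leaf 0x88888) (.leaf 0x88888)) (.node 1 (.leaf 0x88888) (.leaf 0x88888)))))))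

/-- Table data. -/
def tabVB_0_26 : Tab :=
  (.node 32 (.node 16 (.node 8 (.node 4 (.node 2 (.node 1 (.leaf 0x88888) (.leaf 0x88888)) (.node 1 (.leaf 0x88888) (.leaf 0x88888))) (.node 2 (.node 1 (.leaf 0x88888) (.leaf 0x88888)) (.node 1 (.leaf 0x88888) (.leaf 0x88888)))) (.node 4 (.node 2 (.node 1 (.leaf 0x88888) (.leaf 0x88888)) (.node 1 (.leaf 0x88888) (.leaf 0x88888))) (.node 2 (.node 1 (.leaf 0x88888) (.leaf 0x88888)) (.node 1 (.leaf 0x88888) (.leaf 0x88888))))) (.node 8 (.node 4 (.node 2 (.node 1 (.leaf 0x88888) (.leaf 0x88888)) (.node 1 (.leaf 0x88888) (.leaf 0x88888))) (.node 2 (.node 1 (.leaf 0x88888) (.leaf 0x88888)) (.node 1 (.leaf 0x88888) (.leaf 0x88888)))) (.node 4 (.node 2 (.node 1 (.leaf 0x88888) (.leaf 0x88888)) (.node 1 (.leaf 0x88888) (.leaf 0x88888))) (.node 2 (.node 1 (.leaf 0x88888) (.leaf 0x88888)) (.node 1 (.leaf 0x88888) (.leaf 0x88888)))))) (.node 16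 (.node 8 (.node 4 (.node 2 (.node 1 (.leaf 0x88888) (.leaf 0x88888)) (.node 1 (.leaf 0x88888) (.leaf 0x88888))) (.node 2 (.node 1 (.leaf 0x88888) (.leaf 0x88888)) (.node 1 (.leaf 0x88888) (.leaf 0x88888)))) (.node 4 (.node 2 (.node 1 (.leaf 0x88888) (.leaf 0x88888)) (.node 1 (.leaf 0x88888) (.leaf 0x88888))) (.node 2 (.node 1 (.leaf 0x88888) (.leaf 0x88888)) (.node 1 (.leaf 0x88888) (.leaf 0x88888))))) (.node 8 (.node 4 (.node 2 (.node 1 (.leaf 0x88888) (.leaf 0x88888)) (.node 1 (.leaf 0x88888) (.leaf 0x88888))) (.node 2 (.node 1 (.leaf 0x88888) (.leaf 0x88888)) (.node 1 (.leaf 0x88888) (.leaf 0x88888)))) (.node 4 (.node 2 (.node 1 (.leaf 0x88888) (.leaf 0x88888)) (.node 1 (.leaf 0x88888) (.leaf 0x88888))) (.node 2 (.node 1 (.leaf 0x88888) (.leaf 0x88888)) (.node 1 (.leaf 0x88888) (.leaf 0x88888)))))))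

/-- Table data. -/
def tabVB_0_27 : Tab :=
  (.node 32 (.node 16 (.node 8 (.node 4 (.node 2 (.node 1 (.leaf 0x88888) (.leaf 0x88888)) (.node 1 (.leaf 0x88888) (.leaf 0x88888))) (.node 2 (.node 1 (.leaf 0x88888) (.leaf 0x88888)) (.node 1 (.leaf 0x88888) (.leaf 0x88888)))) (.node 4 (.node 2 (.node 1 (.leaf 0x88888) (.leaf 0x88888)) (.node 1 (.leaf 0x88888) (.leaf 0x88888))) (.node 2 (.node 1 (.leaf 0x88888) (.leaf 0x88888)) (.node 1 (.leaf 0x88888) (.leaf 0x88888))))) (.node 8 (.node 4 (.node 2 (.node 1 (.leaf 0x88888) (.leaf 0x88888)) (.node 1 (.leaf 0x88888) (.leaf 0x88888))) (.node 2 (.node 1 (.leaf 0x88888) (.leaf 0x88888)) (.node 1 (.leaf 0x88888) (.leaf 0x88888)))) (.node 4 (.node 2 (.node 1 (.leaf 0x88888) (.leaf 0x88888)) (.node 1 (.leaf 0x88888) (.leaf 0x88888))) (.node 2 (.node 1 (.leaf 0x88888) (.leaf 0x88888)) (.node 1 (.leaf 0x88888) (.leaf 0x88888)))))) (.node 16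 (.node 8 (.node 4 (.node 2 (.node 1 (.leaf 0x88888) (.leaf 0x88888)) (.node 1 (.leaf 0x88888) (.leaf 0x88888))) (.node 2 (.node 1 (.leaf 0x88888) (.leaf 0x88888)) (.node 1 (.leaf 0x88888) (.leaf 0x88888)))) (.node 4 (.node 2 (.node 1 (.leaf 0x88888) (.leaf 0x88888)) (.node 1 (.leaf 0x88888) (.leaf 0x88888))) (.node 2 (.node 1 (.leaf 0x88888) (.leaf 0x88888)) (.node 1 (.leaf 0x88888) (.leaf 0x88888))))) (.node 8 (.node 4 (.node 2 (.node 1 (.leaf 0x88888) (.leaf 0x88888)) (.node 1 (.leaf 0x88888) (.leaf 0x88888))) (.node 2 (.node 1 (.leaf 0x88888) (.leaf 0x88888)) (.node 1 (.leaf 0x88888) (.leaf 0x88888)))) (.node 4 (.node 2 (.node 1 (.leaf 0x88888) (.leaf 0x88888)) (.node 1 (.leaf 0x88888) (.leaf 0x88888))) (.node 2 (.node 1 (.leaf 0x88888) (.leaf 0x88888)) (.node 1 (.leaf 0x88888) (.leaf 0x88888)))))))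

/-- Table data. -/
def tabVB_0_28 : Tab :=
  (.node 32 (.node 16 (.node 8 (.node 4 (.node 2 (.node 1 (.leaf 0x88888) (.leaf 0x88888)) (.node 1 (.leaf 0x88888) (.leaf 0x88888))) (.node 2 (.node 1 (.leaf 0x88888) (.leaf 0x88888)) (.node 1 (.leaf 0x88888) (.leaf 0x88888)))) (.node 4 (.node 2 (.node 1 (.leaf 0x88888) (.leaf 0x88888)) (.node 1 (.leaf 0x88888) (.leaf 0x88888))) (.node 2 (.node 1 (.leaf 0x88888) (.leaf 0x88888)) (.node 1 (.leaf 0x88888) (.leaf 0x88888))))) (.node 8 (.node 4 (.node 2 (.node 1 (.leaf 0x88888) (.leaf 0x88888)) (.node 1 (.leaf 0x88888) (.leaf 0x88888))) (.node 2 (.node 1 (.leaf 0x88888) (.leaf 0x88888)) (.node 1 (.leaf 0x88888) (.leaf 0x88888)))) (.node 4 (.node 2 (.node 1 (.leaf 0x88888) (.leaf 0x88888)) (.node 1 (.leaf 0x88888) (.leaf 0x88888))) (.node 2 (.node 1 (.leaf 0x88888) (.leaf 0x88888)) (.node 1 (.leaf 0x88888) (.leaf 0x88888)))))) (.node 16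 (.node 8 (.node 4 (.node 2 (.node 1 (.leaf 0x88888) (.leaf 0x88888)) (.node 1 (.leaf 0x88888) (.leaf 0x88888))) (.node 2 (.node 1 (.leaf 0x88888) (.leaf 0x88888)) (.node 1 (.leaf 0x88888) (.leaf 0x88888)))) (.node 4 (.node 2 (.node 1 (.leaf 0x88888) (.leaf 0x88888)) (.node 1 (.leaf 0x88888) (.leaf 0x88888))) (.node 2 (.node 1 (.leaf 0x88888) (.leaf 0x88888)) (.node 1 (.leaf 0x88888) (.leaf 0x88888))))) (.node 8 (.node 4 (.node 2 (.node 1 (.leaf 0x88888) (.leaf 0x88888)) (.node 1 (.leaf 0x88888) (.leaf 0x88888))) (.node 2 (.node 1 (.leaf 0x88888) (.leaf 0x88888)) (.node 1 (.leaf 0x88888) (.leaf 0x88888)))) (.node 4 (.node 2 (.node 1 (.leaf 0x88888) (.leaf 0x88888)) (.node 1 (.leaf 0x88888) (.leaf 0x88888))) (.node 2 (.node 1 (.leaf 0x88888) (.leaf 0x88888)) (.node 1 (.leaf 0x88888) (.leaf 0x88888)))))))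

/-- Table data. -/
def tabVB_0_29 : Tab :=
  (.node 32 (.node 16 (.node 8 (.node 4 (.node 2 (.node 1 (.leaf 0x88888) (.leaf 0x88888)) (.node 1 (.leaf 0x88888) (.leaf 0x88888))) (.node 2 (.node 1 (.leaf 0x88888) (.leaf 0x88888)) (.node 1 (.leaf 0x88888) (.leaf 0x88888)))) (.node 4 (.node 2 (.node 1 (.leaf 0x88888) (.leaf 0x88888)) (.node 1 (.leaf 0x88888) (.leaf 0x88888))) (.node 2 (.node 1 (.leaf 0x88888) (.leaf 0x88888)) (.node 1 (.leaf 0x88888) (.leaf 0x88888))))) (.node 8 (.node 4 (.node 2 (.node 1 (.leaf 0x88888) (.leaf 0x88888)) (.node 1 (.leaf 0x88888) (.leaf 0x88888))) (.node 2 (.node 1 (.leaf 0x88888) (.leaf 0x88888)) (.node 1 (.leaf 0x88888) (.leaf 0x88888)))) (.node 4 (.node 2 (.node 1 (.leaf 0x88888) (.leaf 0x88888)) (.node 1 (.leaf 0x88888) (.leaf 0x88888))) (.node 2 (.node 1 (.leaf 0x88888) (.leaf 0x88888)) (.node 1 (.leaf 0x88888) (.leaf 0x88888)))))) (.node 16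 (.node 8 (.node 4 (.node 2 (.node 1 (.leaf 0x88888) (.leaf 0x88888)) (.node 1 (.leaf 0x88888) (.leaf 0x88888))) (.node 2 (.node 1 (.leaf 0x88888) (.leaf 0x88888)) (.node 1 (.leaf 0x88888) (.leaf 0x88888)))) (.node 4 (.node 2 (.node 1 (.leaf 0x88888) (.leaf 0x88888)) (.node 1 (.leaf 0x88888) (.leaf 0x88888))) (.node 2 (.node 1 (.leaf 0x88888) (.leaf 0x88888)) (.node 1 (.leaf 0x88888) (.leaf 0x88888))))) (.node 8 (.node 4 (.node 2 (.node 1 (.leaf 0x88888) (.leaf 0x88888)) (.node 1 (.leaf 0x88888) (.leaf 0x88888))) (.node 2 (.node 1 (.leaf 0x88888) (.leaf 0x88888)) (.node 1 (.leaf 0x88888) (.leaf 0x88888)))) (.node 4 (.node 2 (.node 1 (.leaf 0x88888) (.leaf 0x88888)) (.node 1 (.leaf 0x88888) (.leaf 0x88888))) (.node 2 (.node 1 (.leaf 0x88888) (.leaf 0x88888)) (.node 1 (.leaf 0x88888) (.leaf 0x88888)))))))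

/-- Table data. -/
def tabVB_0_30 : Tab :=
  (.node 32 (.node 16 (.node 8 (.node 4 (.node 2 (.node 1 (.leaf 0x88888) (.leaf 0x88888)) (.node 1 (.leaf 0x88888) (.leaf 0x88888))) (.node 2 (.node 1 (.leaf 0x88888) (.leaf 0x88888)) (.node 1 (.leaf 0x88888) (.leaf 0x88888)))) (.node 4 (.node 2 (.node 1 (.leaf 0x88888) (.leaf 0x88888)) (.node 1 (.leaf 0x88888) (.leaf 0x88888))) (.node 2 (.node 1 (.leaf 0x88888) (.leaf 0x88888)) (.node 1 (.leaf 0x88888) (.leaf 0x88888))))) (.node 8 (.node 4 (.node 2 (.node 1 (.leaf 0x88888) (.leaf 0x88888)) (.node 1 (.leaf 0x88888) (.leaf 0x88888))) (.node 2 (.node 1 (.leaf 0x88888) (.leaf 0x88888)) (.node 1 (.leaf 0x88888) (.leaf 0x88888)))) (.node 4 (.node 2 (.node 1 (.leaf 0x88888) (.leaf 0x88888)) (.node 1 (.leaf 0x88888) (.leaf 0x88888))) (.node 2 (.node 1 (.leaf 0x88888) (.leaf 0x88888)) (.node 1 (.leaf 0x88888) (.leaf 0x88888)))))) (.node 16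 (.node 8 (.node 4 (.node 2 (.node 1 (.leaf 0x88888) (.leaf 0x88888)) (.node 1 (.leaf 0x88888) (.leaf 0x88888))) (.node 2 (.node 1 (.leaf 0x88888) (.leaf 0x88888)) (.node 1 (.leaf 0x88888) (.leaf 0x88888)))) (.node 4 (.node 2 (.node 1 (.leaf 0x88888) (.leaf 0x88888)) (.node 1 (.leaf 0x88888) (.leaf 0x88888))) (.node 2 (.node 1 (.leaf 0x88888) (.leaf 0x88888)) (.node 1 (.leaf 0x88888) (.leaf 0x88888))))) (.node 8 (.node 4 (.node 2 (.node 1 (.leaf 0x88888) (.leaf 0x88888)) (.node 1 (.leaf 0x88888) (.leaf 0x88888))) (.node 2 (.node 1 (.leaf 0x88888) (.leaf 0x88888)) (.node 1 (.leaf 0x88888) (.leaf 0x88888)))) (.node 4 (.node 2 (.node 1 (.leaf 0x88888) (.leaf 0x88888)) (.node 1 (.leaf 0x88888) (.leaf 0x88888))) (.node 2 (.node 1 (.leaf 0x88888) (.leaf 0x88888)) (.node 1 (.leaf 0x88888) (.leaf 0x88888)))))))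

/-- Table data. -/
def tabVB_0_31 : Tab :=
  (.node 32 (.node 16 (.node 8 (.node 4 (.node 2 (.node 1 (.leaf 0x88888) (.leaf 0x88888)) (.node 1 (.leaf 0x88888) (.leaf 0x88888))) (.node 2 (.node 1 (.leaf 0x88888) (.leaf 0x88888)) (.node 1 (.leaf 0x88888) (.leaf 0x88888)))) (.node 4 (.node 2 (.node 1 (.leaf 0x88888) (.leaf 0x88888)) (.node 1 (.leaf 0x88888) (.leaf 0x88888))) (.node 2 (.node 1 (.leaf 0x88888) (.leaf 0x88888)) (.node 1 (.leaf 0x88888) (.leaf 0x88888))))) (.node 8 (.node 4 (.node 2 (.node 1 (.leaf 0x88888) (.leaf 0x88888)) (.node 1 (.leaf 0x88888) (.leaf 0x88888))) (.node 2 (.node 1 (.leaf 0x88888) (.leaf 0x88888)) (.node 1 (.leaf 0x88888) (.leaf 0x88888)))) (.node 4 (.node 2 (.node 1 (.leaf 0x88888) (.leaf 0x88888)) (.node 1 (.leaf 0x88888) (.leaf 0x88888))) (.node 2 (.node 1 (.leaf 0x88888) (.leaf 0x88888)) (.node 1 (.leaf 0x88888) (.leaf 0x88888)))))) (.node 16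 (.node 8 (.node 4 (.node 2 (.node 1 (.leaf 0x88888) (.leaf 0x88888)) (.node 1 (.leaf 0x88888) (.leaf 0x88888))) (.node 2 (.node 1 (.leaf 0x88888) (.leaf 0x88888)) (.node 1 (.leaf 0x88888) (.leaf 0x88888)))) (.node 4 (.node 2 (.node 1 (.leaf 0x88888) (.leaf 0x88888)) (.node 1 (.leaf 0x88888) (.leaf 0x88888))) (.node 2 (.node 1 (.leaf 0x88888) (.leaf 0x88888)) (.node 1 (.leaf 0x88888) (.leaf 0x88888))))) (.node 8 (.node 4 (.node 2 (.node 1 (.leaf 0x88888) (.leaf 0x88888)) (.node 1 (.leaf 0x88888) (.leaf 0x88888))) (.node 2 (.node 1 (.leaf 0x88888) (.leaf 0x88888)) (.node 1 (.leaf 0x88888) (.leaf 0x88888)))) (.node 4 (.node 2 (.node 1 (.leaf 0x88888) (.leaf 0x88888)) (.node 1 (.leaf 0x88888) (.leaf 0x88888))) (.node 2 (.node 1 (.leaf 0x88888) (.leaf 0x88888)) (.node 1 (.leaf 0x88888) (.leaf 0x88888)))))))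

/-- Table data. -/
def tabVB_0 : Tab :=
  (.node 1024 (.node 512 (.node 256 (.node 128 (.node 64 tabVB_0_0 tabVB_0_1) (.node 64 tabVB_0_2 tabVB_0_3)) (.node 128 (.node 64 tabVB_0_4 tabVB_0_5) (.node 64 tabVB_0_6 tabVB_0_7))) (.node 256 (.node 128 (.node 64 tabVB_0_8 tabVB_0_9) (.node 64 tabVB_0_10 tabVB_0_11)) (.node 128 (.node 64 tabVB_0_12 tabVB_0_13) (.node 64 tabVB_0_14 tabVB_0_15)))) (.node 512 (.node 256 (.node 128 (.node 64 tabVB_0_16 tabVB_0_17) (.node 64 tabVB_0_18 tabVB_0_19)) (.node 128 (.node 64 tabVB_0_20 tabVB_0_21) (.node 64 tabVB_0_22 tabVB_0_23))) (.node 256 (.node 128 (.node 64 tabVB_0_24 tabVB_0_25) (.node 64 tabVB_0_26 tabVB_0_27)) (.node 128 (.node 64 tabVB_0_28 tabVB_0_29) (.node 64 tabVB_0_30 tabVB_0_31)))))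

end Cfsg.Lib.CosetEnum.RuStemL
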