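import Cfsg.Agent.Lib.CosetEnum.Defs

/-! Generated table data. -/

set_option autoImplicit false
set_option maxRecDepth 20000

namespace Cfsg.Lib.CosetEnum.RuStemL

/-- Table data. -/
def tabVB_2_0 : Tab :=
  (.node 32 (.node 16 (.node 8 (.node 4 (.node 2 (.node 1 (.leaf 0x88888) (.leaf 0x88888)) (.node 1 (.leaf 0x88888) (.leaf 0x88888))) (.node 2 (.node 1 (.leaf 0x88888) (.leaf 0x88888)) (.node 1 (.leaf 0x88888) (.leaf 0x88888)))) (.node 4 (.node 2 (.node 1 (.leaf 0x88888) (.leaf 0x88888)) (.node 1 (.leaf 0x88888) (.leaf 0x88888))) (.node 2 (.node 1 (.leaf 0x88888) (.leaf 0x88888)) (.node 1 (.leaf 0x88888) (.leaf 0x88888))))) (.node 8 (.node 4 (.node 2 (.node 1 (.leaf 0x88888) (.leaf 0x88888)) (.node 1 (.leaf 0x88888) (.leaf 0x88888))) (.node 2 (.node 1 (.leaf 0x88888) (.leaf 0x88888)) (.node 1 (.leaf 0x88888) (.leaf 0x88888)))) (.node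 4 (.node 2 (.node 1 (.leaf 0x88888) (.leaf 0x88888)) (.node 1 (.leaf 0x88888) (.leaf 0x88888))) (.node 2 (.node 1 (.leaf 0x88888) (.leaf 0x88888)) (.node 1 (.leaf 0x88888) (.leaf 0x88888)))))) (.node 16 (.node 8 (.node 4 (.node 2 (.node 1 (.leaf 0x88888) (.leaf 0x88888)) (.node 1 (.leaf 0x88888) (.leaf 0x88888))) (.node 2 (.node 1 (.leaf 0x88888) (.leaf 0x88888)) (.node 1 (.leaf 0x88888) (.leaf 0x88888)))) (.node 4 (.node 2 (.node 1 (.leaf 0x88888) (.leaf 0x88888)) (.node 1 (.leaf 0x88888) (.leaf 0x88888))) (.node 2 (.node 1 (.leaf 0x88888) (.leaf 0x88888)) (.node 1 (.leaf 0x88888) (.leaf 0x88888))))) (.node 8 (.node 4 (.node 2 (.node 1 (.leaf 0x88888) (.leaf 0x88888)) (.node 1 (.leaf 0x88888) (.leaf 0x88888))) (.node 2 (.node 1 (.leaf 0x88888) (.leaf 0x88888)) (.node 1 (.leaf 0x88888) (.leaf 0x88888)))) (.node 4 (.node 2 (.node 1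 (.leaf 0x88888) (.leaf 0x88888)) (.node 1 (.leaf 0x88888) (.leaf 0x88888))) (.node 2 (.node 1 (.leaf 0x88888) (.leaf 0x88888)) (.node 1 (.leaf 0x88888) (.leaf 0x88888)))))))

/-- Table data. -/
def tabVB_2_1 : Tab :=
  (.node 32 (.node 16 (.node 8 (.node 4 (.node 2 (.node 1 (.leaf 0x88888) (.leaf 0x88888)) (.node 1 (.leaf 0x88888) (.leaf 0x88888))) (.node 2 (.node 1 (.leaf 0x88888) (.leaf 0x88888)) (.node 1 (.leaf 0x88888) (.leaf 0x88888)))) (.node 4 (.node 2 (.node 1 (.leaf 0x88888) (.leaf 0x88888)) (.node 1 (.leaf 0x88888) (.leaf 0x88888))) (.node 2 (.node 1 (.leaf 0x88888) (.leaf 0x88888)) (.node 1 (.leaf 0x88888) (.leaf 0x88888))))) (.node 8 (.node 4 (.node 2 (.node 1 (.leaf 0x88888) (.leaf 0x88888)) (.node 1 (.leaf 0x88888) (.leaf 0x88888))) (.node 2 (.node 1 (.leaf 0x88888) (.leaf 0x88888)) (.node 1 (.leaf 0x88888) (.leaf 0x88888))))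 (.node 4 (.node 2 (.node 1 (.leaf 0x88888) (.leaf 0x88888)) (.node 1 (.leaf 0x88888) (.leaf 0x88888))) (.node 2 (.node 1 (.leaf 0x88888) (.leaf 0x88888)) (.node 1 (.leaf 0x88888) (.leaf 0x88888)))))) (.node 16 (.node 8 (.node 4 (.node 2 (.node 1 (.leaf 0x88888) (.leaf 0x88888)) (.node 1 (.leaf 0x88888) (.leaf 0x88888))) (.node 2 (.node 1 (.leaf 0x88888) (.leaf 0x88888)) (.node 1 (.leaf 0x88888) (.leaf 0x88888)))) (.node 4 (.node 2 (.node 1 (.leaf 0x88888) (.leaf 0x88888)) (.node 1 (.leaf 0x88888) (.leaf 0x88888))) (.node 2 (.node 1 (.leaf 0x88888) (.leaf 0x88888)) (.node 1 (.leaf 0x88888) (.leaf 0x88888))))) (.node 8 (.node 4 (.node 2 (.node 1 (.leaf 0x88888) (.leaf 0x88888)) (.node 1 (.leaf 0x88888) (.leaf 0x88888))) (.node 2 (.node 1 (.leaf 0x88888) (.leaf 0x88888)) (.node 1 (.leaf 0x88888) (.leaf 0x88888)))) (.node 4 (.node 2 (.node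 1 (.leaf 0x88888) (.leaf 0x88888)) (.node 1 (.leaf 0x88888) (.leaf 0x88888))) (.node 2 (.node 1 (.leaf 0x88888) (.leaf 0x88888)) (.node 1 (.leaf 0x88888) (.leaf 0x88888)))))))

/-- Table data. -/
def tabVB_2_2 : Tab :=
  (.node 32 (.node 16 (.node 8 (.node 4 (.node 2 (.node 1 (.leaf 0x88888) (.leaf 0x88888)) (.node 1 (.leaf 0x88888) (.leaf 0x88888))) (.node 2 (.node 1 (.leaf 0x88888) (.leaf 0x88888)) (.node 1 (.leaf 0x88888) (.leaf 0x88888)))) (.node 4 (.node 2 (.node 1 (.leaf 0x88888) (.leaf 0x88888)) (.node 1 (.leaf 0x88888) (.leaf 0x88888))) (.node 2 (.node 1 (.leaf 0x88888) (.leaf 0x88888)) (.node 1 (.leaf 0x88888) (.leaf 0x88888))))) (.node 8 (.node 4 (.node 2 (.node 1 (.leaf 0x88888) (.leaf 0x88888)) (.node 1 (.leaf 0x88888) (.leaf 0x88888))) (.node 2 (.node 1 (.leaf 0x88888) (.leaf 0x88888)) (.node 1 (.leaf 0x88888) (.leaf 0x88888))))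 (.node 4 (.node 2 (.node 1 (.leaf 0x88898) (.leaf 0x88988)) (.node 1 (.leaf 0x89888) (.leaf 0x99888))) (.node 2 (.node 1 (.leaf 0x99898) (.leaf 0x99998)) (.node 1 (.leaf 0x88889) (.leaf 0x88897)))))) (.node 16 (.node 8 (.node 4 (.node 2 (.node 1 (.leaf 0x88979) (.leaf 0x8a888)) (.node 1 (.leaf 0x8a898) (.leaf 0x8a998))) (.node 2 (.node 1 (.leaf 0x97988) (.leaf 0x97998)) (.node 1 (.leaf 0x97a98) (.leaf 0x88989)))) (.node 4 (.node 2 (.node 1 (.leaf 0x88998) (.leaf 0x89878)) (.node 1 (.leaf 0x89888) (.leaf 0x98899))) (.node 2 (.node 1 (.leaf 0x988a9) (.leaf 0x989a9)) (.node 1 (.leaf 0x89898) (.leaf 0x79987))))) (.node 8 (.node 4 (.node 2 (.node 1 (.leaf 0x88888) (.leaf 0x88988)) (.node 1 (.leaf 0x99888) (.leaf 0x99898))) (.node 2 (.node 1 (.leaf 0x99988) (.leaf 0x99998)) (.node 1 (.leaf 0x8a888) (.leaf 0x8a898)))) (.node 4 (.node 2 (.node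 1 (.leaf 0x8a998) (.leaf 0x97889)) (.node 1 (.leaf 0x889a8) (.leaf 0x89778))) (.node 2 (.node 1 (.leaf 0xa9997) (.leaf 0x99988)) (.node 1 (.leaf 0x889a9) (.leaf 0x88777)))))))

/-- Table data. -/
def tabVB_2_3 : Tab :=
  (.node 32 (.node 16 (.node 8 (.node 4 (.node 2 (.node 1 (.leaf 0x88a99) (.leaf 0x88a87)) (.node 1 (.leaf 0x99798) (.leaf 0x8a798))) (.node 2 (.node 1 (.leaf 0x8a978) (.leaf 0x8a978)) (.node 1 (.leaf 0x8a978) (.leaf 0x88988)))) (.node 4 (.node 2 (.node 1 (.leaf 0x797a8) (.leaf 0x797a8)) (.node 1 (.leaf 0x797a8) (.leaf 0x77878))) (.node 2 (.node 1 (.leaf 0x77878) (.leaf 0x77878)) (.node 1 (.leaf 0x79878) (.leaf 0x979a8))))) (.node 8 (.node 4 (.node 2 (.node 1 (.leaf 0x97978) (.leaf 0x97aa8)) (.node 1 (.leaf 0x97a78) (.leaf 0x97a78))) (.node 2 (.node 1 (.leaf 0x79888) (.leaf 0x77888)) (.node 1 (.leaf 0x77988) (.leaf 0x88998))))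 (.node 4 (.node 2 (.node 1 (.leaf 0x88a98) (.leaf 0x88aa8)) (.node 1 (.leaf 0x98a79) (.leaf 0x9a787))) (.node 2 (.node 1 (.leaf 0x9a797) (.leaf 0x9a897)) (.node 1 (.leaf 0x97999) (.leaf 0x979a9)))))) (.node 16 (.node 8 (.node 4 (.node 2 (.node 1 (.leaf 0x97a99) (.leaf 0x97aa9)) (.node 1 (.leaf 0x88a89) (.leaf 0x999a8))) (.node 2 (.node 1 (.leaf 0x99978) (.leaf 0x99a78)) (.node 1 (.leaf 0x99a88) (.leaf 0x87989)))) (.node 4 (.node 2 (.node 1 (.leaf 0x78779) (.leaf 0x78789)) (.node 1 (.leaf 0x78889) (.leaf 0x78899))) (.node 2 (.node 1 (.leaf 0xa8aa8) (.leaf 0xa87a8)) (.node 1 (.leaf 0xa89a8) (.leaf 0xa89a8))))) (.node 8 (.node 4 (.node 2 (.node 1 (.leaf 0xa89a8) (.leaf 0xa89a8)) (.node 1 (.leaf 0xa89a8) (.leaf 0xa8aa8))) (.node 2 (.node 1 (.leaf 0xa8aa8) (.leaf 0xa8aa8)) (.node 1 (.leaf 0xa8aa8) (.leaf 0xa87a8)))) (.node 4 (.node 2 (.node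 1 (.leaf 0xa87a8) (.leaf 0xa87a8)) (.node 1 (.leaf 0xa87a8) (.leaf 0xa87a8))) (.node 2 (.node 1 (.leaf 0xa87a8) (.leaf 0x897a8)) (.node 1 (.leaf 0x8a878) (.leaf 0x8a898)))))))

/-- Table data. -/
def tabVB_2_4 : Tab :=
  (.node 32 (.node 16 (.node 8 (.node 4 (.node 2 (.node 1 (.leaf 0x8a898) (.leaf 0x87788)) (.node 1 (.leaf 0x87788) (.leaf 0x87788))) (.node 2 (.node 1 (.leaf 0x87788) (.leaf 0x87788)) (.node 1 (.leaf 0x88898) (.leaf 0x8a898)))) (.node 4 (.node 2 (.node 1 (.leaf 0x8aaa8) (.leaf 0x8a7a8)) (.node 1 (.leaf 0x8a778) (.leaf 0xa8a88))) (.node 2 (.node 1 (.leaf 0x777a8) (.leaf 0xa8788)) (.node 1 (.leaf 0xa8988) (.leaf 0xa8988))))) (.node 8 (.node 4 (.node 2 (.node 1 (.leaf 0xa8988) (.leaf 0xa8988)) (.node 1 (.leaf 0xa8988) (.leaf 0xa8a88))) (.node 2 (.node 1 (.leaf 0xa8a88) (.leaf 0xa8a88)) (.node 1 (.leaf 0xa8a88) (.leaf 0xa8788))))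 (.node 4 (.node 2 (.node 1 (.leaf 0x99aa9) (.leaf 0x99a99)) (.node 1 (.leaf 0x99799) (.leaf 0x997a9))) (.node 2 (.node 1 (.leaf 0x8aa8a) (.leaf 0x8a78a)) (.node 1 (.leaf 0x87979) (.leaf 0x87a79)))))) (.node 16 (.node 8 (.node 4 (.node 2 (.node 1 (.leaf 0xa9788) (.leaf 0xa9888)) (.node 1 (.leaf 0xa7888) (.leaf 0xa7888))) (.node 2 (.node 1 (.leaf 0xa7888) (.leaf 0xa7988)) (.node 1 (.leaf 0xa88a9) (.leaf 0x78a78)))) (.node 4 (.node 2 (.node 1 (.leaf 0x987a8) (.leaf 0x988a8)) (.node 1 (.leaf 0x8a998) (.leaf 0x8a9a8))) (.node 2 (.node 1 (.leaf 0x89799) (.leaf 0x8aaa8)) (.node 1 (.leaf 0x98779) (.leaf 0x9798a))))) (.node 8 (.node 4 (.node 2 (.node 1 (.leaf 0x8799a) (.leaf 0x879aa)) (.node 1 (.leaf 0x87aaa) (.leaf 0x87a7a))) (.node 2 (.node 1 (.leaf 0x98aa8) (.leaf 0x987a8)) (.node 1 (.leaf 0x789a8) (.leaf 0x789a8)))) (.node 4 (.node 2 (.node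 1 (.leaf 0x789a8) (.leaf 0x78aa8)) (.node 1 (.leaf 0x78aa8) (.leaf 0x78aa8))) (.node 2 (.node 1 (.leaf 0x9a77a) (.leaf 0x8aa97)) (.node 1 (.leaf 0x8a899) (.leaf 0x8a877)))))))

/-- Table data. -/
def tabVB_2_5 : Tab :=
  (.node 32 (.node 16 (.node 8 (.node 4 (.node 2 (.node 1 (.leaf 0x8a877) (.leaf 0x88988)) (.node 1 (.leaf 0x88988) (.leaf 0x88988))) (.node 2 (.node 1 (.leaf 0x88988) (.leaf 0x88988)) (.node 1 (.leaf 0x88789) (.leaf 0x88789)))) (.node 4 (.node 2 (.node 1 (.leaf 0x88789) (.leaf 0x88789)) (.node 1 (.leaf 0x8a89a) (.leaf 0x8a8aa))) (.node 2 (.node 1 (.leaf 0xa7a99) (.leaf 0x8a887)) (.node 1 (.leaf 0x88a79) (.leaf 0x8aa79))))) (.node 8 (.node 4 (.node 2 (.node 1 (.leaf 0x8aa79) (.leaf 0x88898)) (.node 1 (.leaf 0x88998) (.leaf 0x8aa89))) (.node 2 (.node 1 (.leaf 0x8a789) (.leaf 0x988a9)) (.node 1 (.leaf 0x989a9) (.leaf 0x787a7))))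 (.node 4 (.node 2 (.node 1 (.leaf 0x787a7) (.leaf 0x787a7)) (.node 1 (.leaf 0x788a7) (.leaf 0x788a7))) (.node 2 (.node 1 (.leaf 0x788a7) (.leaf 0x87799)) (.node 1 (.leaf 0x9aaa8) (.leaf 0x9a7a8)))))) (.node 16 (.node 8 (.node 4 (.node 2 (.node 1 (.leaf 0x7a89a) (.leaf 0xaa88a)) (.node 1 (.leaf 0xaa98a) (.leaf 0xaa99a))) (.node 2 (.node 1 (.leaf 0xaa77a) (.leaf 0xaa77a)) (.node 1 (.leaf 0xaa77a) (.leaf 0xaa78a)))) (.node 4 (.node 2 (.node 1 (.leaf 0xaa88a) (.leaf 0xaa8a9)) (.node 1 (.leaf 0x88a98) (.leaf 0x88aa8))) (.node 2 (.node 1 (.leaf 0x887a8) (.leaf 0x98a78)) (.node 1 (.leaf 0x78798) (.leaf 0x98988))))) (.node 8 (.node 4 (.node 2 (.node 1 (.leaf 0x99a87) (.leaf 0x99a97)) (.node 1 (.leaf 0xa8889) (.leaf 0x99797))) (.node 2 (.node 1 (.leaf 0x9a978) (.leaf 0x8a887)) (.node 1 (.leaf 0x98987) (.leaf 0x79987)))) (.node 4 (.node 2 (.node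 1 (.leaf 0x79a87) (.leaf 0x97a89)) (.node 1 (.leaf 0x97a89) (.leaf 0x97a89))) (.node 2 (.node 1 (.leaf 0x97a89) (.leaf 0xa7a78)) (.node 1 (.leaf 0xa7a78) (.leaf 0xa7a78)))))))

/-- Table data. -/
def tabVB_2_6 : Tab :=
  (.node 32 (.node 16 (.node 8 (.node 4 (.node 2 (.node 1 (.leaf 0xa7a78) (.leaf 0xa7a78)) (.node 1 (.leaf 0xa9998) (.leaf 0xa7778))) (.node 2 (.node 1 (.leaf 0xa9778) (.leaf 0xa9778)) (.node 1 (.leaf 0xa7778) (.leaf 0x9a89a)))) (.node 4 (.node 2 (.node 1 (.leaf 0x88988) (.leaf 0x88998)) (.node 1 (.leaf 0x88a98) (.leaf 0x87978))) (.node 2 (.node 1 (.leaf 0x8a8a8) (.leaf 0x88978)) (.node 1 (.leaf 0x88a78) (.leaf 0x88a88))))) (.node 8 (.node 4 (.node 2 (.node 1 (.leaf 0x88788) (.leaf 0x7999a)) (.node 1 (.leaf 0x799aa) (.leaf 0x79a9a))) (.node 2 (.node 1 (.leaf 0x79aaa) (.leaf 0x7779a)) (.node 1 (.leaf 0x797aa) (.leaf 0x8a989))))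 (.node 4 (.node 2 (.node 1 (.leaf 0x8a999) (.leaf 0xa88a8)) (.node 1 (.leaf 0xa89a8) (.leaf 0xa87a8))) (.node 2 (.node 1 (.leaf 0xa87a8) (.leaf 0xa87a8)) (.node 1 (.leaf 0xa87a8) (.leaf 0xa87a8)))))) (.node 16 (.node 8 (.node 4 (.node 2 (.node 1 (.leaf 0xa88a8) (.leaf 0xa88a8)) (.node 1 (.leaf 0xa88a8) (.leaf 0xa88a8))) (.node 2 (.node 1 (.leaf 0xa89a8) (.leaf 0xa89a8)) (.node 1 (.leaf 0xa89a8) (.leaf 0xa89a8)))) (.node 4 (.node 2 (.node 1 (.leaf 0xa89a8) (.leaf 0xa89a8)) (.node 1 (.leaf 0xa888a) (.leaf 0x997a9))) (.node 2 (.node 1 (.leaf 0x88998) (.leaf 0x8a998)) (.node 1 (.leaf 0xaa7a8) (.leaf 0x78a7a))))) (.node 8 (.node 4 (.node 2 (.node 1 (.leaf 0x7877a) (.leaf 0xa9a99)) (.node 1 (.leaf 0xa9799) (.leaf 0x7aa88))) (.node 2 (.node 1 (.leaf 0x7a788) (.leaf 0x9a988)) (.node 1 (.leaf 0x9a988) (.leaf 0x9a988)))) (.node 4 (.node 2 (.node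 1 (.leaf 0x9a988) (.leaf 0x9779a)) (.node 1 (.leaf 0x9779a) (.leaf 0x9779a))) (.node 2 (.node 1 (.leaf 0x9779a) (.leaf 0x9779a)) (.node 1 (.leaf 0x99a9a) (.leaf 0x99a9a)))))))

/-- Table data. -/
def tabVB_2_7 : Tab :=
  (.node 32 (.node 16 (.node 8 (.node 4 (.node 2 (.node 1 (.leaf 0x99a9a) (.leaf 0x99aaa)) (.node 1 (.leaf 0xa9a7a) (.leaf 0xa7878))) (.node 2 (.node 1 (.leaf 0x877a8) (.leaf 0x878a8)) (.node 1 (.leaf 0x9a9aa) (.leaf 0xaaa97)))) (.node 4 (.node 2 (.node 1 (.leaf 0x9aaaa) (.leaf 0xaa797)) (.node 1 (.leaf 0xaa979) (.leaf 0xaa989))) (.node 2 (.node 1 (.leaf 0xaa989) (.leaf 0xaa989)) (.node 1 (.leaf 0xaa989) (.leaf 0xa7979))))) (.node 8 (.node 4 (.node 2 (.node 1 (.leaf 0x88998) (.leaf 0x78798)) (.node 1 (.leaf 0x787a8) (.leaf 0x788a8))) (.node 2 (.node 1 (.leaf 0xa898a) (.leaf 0x98897)) (.node 1 (.leaf 0x99a9a) (.leaf 0x9aaaa))))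 (.node 4 (.node 2 (.node 1 (.leaf 0xa8987) (.leaf 0xa8a87)) (.node 1 (.leaf 0xa8a89) (.leaf 0xa8a89))) (.node 2 (.node 1 (.leaf 0xa8a89) (.leaf 0xa8a89)) (.node 1 (.leaf 0x77a8a) (.leaf 0x77a8a)))))) (.node 16 (.node 8 (.node 4 (.node 2 (.node 1 (.leaf 0xa8789) (.leaf 0xaaa79)) (.node 1 (.leaf 0xaa779) (.leaf 0xa7a89))) (.node 2 (.node 1 (.leaf 0xa9a87) (.leaf 0xa9a87)) (.node 1 (.leaf 0x87878) (.leaf 0x7aa8a)))) (.node 4 (.node 2 (.node 1 (.leaf 0x87978) (.leaf 0x87988)) (.node 1 (.leaf 0x7a78a) (.leaf 0x89998))) (.node 2 (.node 1 (.leaf 0x9a9a9) (.leaf 0x7a7a7)) (.node 1 (.leaf 0x7a7a7) (.leaf 0x7a7a7))))) (.node 8 (.node 4 (.node 2 (.node 1 (.leaf 0x7a7a7) (.leaf 0x97a97)) (.node 1 (.leaf 0x97a97) (.leaf 0x97a97))) (.node 2 (.node 1 (.leaf 0x97a97) (.leaf 0x97a97)) (.node 1 (.leaf 0x89989) (.leaf 0x89999)))) (.node 4 (.node 2 (.node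 1 (.leaf 0x87777) (.leaf 0x87a77)) (.node 1 (.leaf 0x87a77) (.leaf 0x87a77))) (.node 2 (.node 1 (.leaf 0x87a77) (.leaf 0x88978)) (.node 1 (.leaf 0x88978) (.leaf 0x88978)))))))

/-- Table data. -/
def tabVB_2_8 : Tab :=
  (.node 32 (.node 16 (.node 8 (.node 4 (.node 2 (.node 1 (.leaf 0x88978) (.leaf 0x88a78)) (.node 1 (.leaf 0xa8789) (.leaf 0xa8889))) (.node 2 (.node 1 (.leaf 0xa8899) (.leaf 0xa8999)) (.node 1 (.leaf 0xa8999) (.leaf 0xa8999)))) (.node 4 (.node 2 (.node 1 (.leaf 0xa8999) (.leaf 0xa87aa)) (.node 1 (.leaf 0x887a7) (.leaf 0x89a78))) (.node 2 (.node 1 (.leaf 0x87a98) (.leaf 0x87a98)) (.node 1 (.leaf 0x87a98) (.leaf 0x889aa))))) (.node 8 (.node 4 (.node 2 (.node 1 (.leaf 0x8877a) (.leaf 0x88a9a)) (.node 1 (.leaf 0xa9a8a) (.leaf 0xa978a))) (.node 2 (.node 1 (.leaf 0x7a88a) (.leaf 0x7a98a)) (.node 1 (.leaf 0x89978) (.leaf 0x89a78))))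 (.node 4 (.node 2 (.node 1 (.leaf 0xa8a79) (.leaf 0x88978)) (.node 1 (.leaf 0x8aa78) (.leaf 0x8aa98))) (.node 2 (.node 1 (.leaf 0x8aa98) (.leaf 0x88a98)) (.node 1 (.leaf 0x88a98) (.leaf 0x88a98)))))) (.node 16 (.node 8 (.node 4 (.node 2 (.node 1 (.leaf 0x88a98) (.leaf 0x88a98)) (.node 1 (.leaf 0x88a98) (.leaf 0xa8a88))) (.node 2 (.node 1 (.leaf 0xa8988) (.leaf 0xa8a88)) (.node 1 (.leaf 0xa8a88) (.leaf 0xa8a88)))) (.node 4 (.node 2 (.node 1 (.leaf 0xa8a88) (.leaf 0xa8a88)) (.node 1 (.leaf 0xa8a88) (.leaf 0xa8788))) (.node 2 (.node 1 (.leaf 0xa8788) (.leaf 0xa8788)) (.node 1 (.leaf 0xa8788) (.leaf 0x79a79))))) (.node 8 (.node 4 (.node 2 (.node 1 (.leaf 0x98987) (.leaf 0x78789)) (.node 1 (.leaf 0x78789) (.leaf 0x7878a))) (.node 2 (.node 1 (.leaf 0x899a8) (.leaf 0x877a8)) (.node 1 (.leaf 0x7a98a) (.leaf 0x98989)))) (.node 4 (.node 2 (.node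 1 (.leaf 0x98999) (.leaf 0x998a9)) (.node 1 (.leaf 0x778a7) (.leaf 0x778a7))) (.node 2 (.node 1 (.leaf 0x7797a) (.leaf 0x77a7a)) (.node 1 (.leaf 0x77a7a) (.leaf 0x7777a)))))))

/-- Table data. -/
def tabVB_2_9 : Tab :=
  (.node 32 (.node 16 (.node 8 (.node 4 (.node 2 (.node 1 (.leaf 0x79989) (.leaf 0x9978a)) (.node 1 (.leaf 0x7798a) (.leaf 0x7798a))) (.node 2 (.node 1 (.leaf 0x78aaa) (.leaf 0x78aaa)) (.node 1 (.leaf 0x78aaa) (.leaf 0x78aaa)))) (.node 4 (.node 2 (.node 1 (.leaf 0x78aaa) (.leaf 0x77a9a)) (.node 1 (.leaf 0x7779a) (.leaf 0x8aa89))) (.node 2 (.node 1 (.leaf 0x77877) (.leaf 0x78879)) (.node 1 (.leaf 0x99897) (.leaf 0x89988))))) (.node 8 (.node 4 (.node 2 (.node 1 (.leaf 0x88798) (.leaf 0x887a8)) (.node 1 (.leaf 0x888a8) (.leaf 0x88878))) (.node 2 (.node 1 (.leaf 0xa8888) (.leaf 0xa8988)) (.node 1 (.leaf 0xa8788) (.leaf 0xa8788))))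 (.node 4 (.node 2 (.node 1 (.leaf 0xa8788) (.leaf 0xa8788)) (.node 1 (.leaf 0xa8788) (.leaf 0x8a888))) (.node 2 (.node 1 (.leaf 0xa888a) (.leaf 0xa898a)) (.node 1 (.leaf 0xa878a) (.leaf 0xa878a)))))) (.node 16 (.node 8 (.node 4 (.node 2 (.node 1 (.leaf 0xa878a) (.leaf 0xa878a)) (.node 1 (.leaf 0xa878a) (.leaf 0x88897))) (.node 2 (.node 1 (.leaf 0x888a9) (.leaf 0x889a9)) (.node 1 (.leaf 0x88979) (.leaf 0xaa8aa)))) (.node 4 (.node 2 (.node 1 (.leaf 0x88aaa) (.leaf 0x78798)) (.node 1 (.leaf 0x89879) (.leaf 0x77879))) (.node 2 (.node 1 (.leaf 0x99897) (.leaf 0x99897)) (.node 1 (.leaf 0x99897) (.leaf 0x99887))))) (.node 8 (.node 4 (.node 2 (.node 1 (.leaf 0x99987) (.leaf 0x99987)) (.node 1 (.leaf 0x99987) (.leaf 0x9899a))) (.node 2 (.node 1 (.leaf 0x79879) (.leaf 0x89797)) (.node 1 (.leaf 0x98898) (.leaf 0x988a8)))) (.node 4 (.node 2 (.node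 1 (.leaf 0x888a8) (.leaf 0x989a8)) (.node 1 (.leaf 0x88797) (.leaf 0x88778))) (.node 2 (.node 1 (.leaf 0x88788) (.leaf 0x88888)) (.node 1 (.leaf 0x88898) (.leaf 0x89877)))))))

/-- Table data. -/
def tabVB_2_10 : Tab :=
  (.node 32 (.node 16 (.node 8 (.node 4 (.node 2 (.node 1 (.leaf 0x89a8a) (.leaf 0x89a9a)) (.node 1 (.leaf 0x8899a) (.leaf 0x8979a))) (.node 2 (.node 1 (.leaf 0x99998) (.leaf 0x98799)) (.node 1 (.leaf 0x99888) (.leaf 0x99898)))) (.node 4 (.node 2 (.node 1 (.leaf 0x99998) (.leaf 0x9799a)) (.node 1 (.leaf 0x7977a) (.leaf 0x77777))) (.node 2 (.node 1 (.leaf 0x77777) (.leaf 0x88988)) (.node 1 (.leaf 0x8aa88) (.leaf 0x88a88))))) (.node 8 (.node 4 (.node 2 (.node 1 (.leaf 0x8a898) (.leaf 0x8a998)) (.node 1 (.leaf 0x97a7a) (.leaf 0x77789))) (.node 2 (.node 1 (.leaf 0x978a9) (.leaf 0x8878a)) (.node 1 (.leaf 0x997aa) (.leaf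 0x99997)))) (.node 4 (.node 2 (.node 1 (.leaf 0x77779) (.leaf 0x77779)) (.node 1 (.leaf 0x77779) (.leaf 0x79977))) (.node 2 (.node 1 (.leaf 0x99a89) (.leaf 0x99a89)) (.node 1 (.leaf 0x99a89) (.leaf 0x99a89)))))) (.node 16 (.node 8 (.node 4 (.node 2 (.node 1 (.leaf 0x98877) (.leaf 0x98887)) (.node 1 (.leaf 0x98987) (.leaf 0x89879))) (.node 2 (.node 1 (.leaf 0x8aa8a) (.leaf 0x8aa9a)) (.node 1 (.leaf 0x8a79a) (.leaf 0x8a7aa)))) (.node 4 (.node 2 (.node 1 (.leaf 0x88888) (.leaf 0x88988)) (.node 1 (.leaf 0x88998) (.leaf 0x899a8))) (.node 2 (.node 1 (.leaf 0x78798) (.leaf 0x78898)) (.node 1 (.leaf 0xa8a8a) (.leaf 0xa878a))))) (.node 8 (.node 4 (.node 2 (.node 1 (.leaf 0xa8a88) (.leaf 0xa8788)) (.node 1 (.leaf 0x9787a) (.leaf 0x99977))) (.node 2 (.node 1 (.leaf 0x99a77) (.leaf 0x8a88a)) (.node 1 (.leaf 0xaaa89) (.leaf 0xaa789)))) (.node 4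 (.node 2 (.node 1 (.leaf 0xaa799) (.leaf 0xaa899)) (.node 1 (.leaf 0xa8988) (.leaf 0xa8a88))) (.node 2 (.node 1 (.leaf 0xa8a88) (.leaf 0xa8a88)) (.node 1 (.leaf 0xa8a88) (.leaf 0xa8a88)))))))

/-- Table data. -/
def tabVB_2_11 : Tab :=
  (.node 32 (.node 16 (.node 8 (.node 4 (.node 2 (.node 1 (.leaf 0xa8a88) (.leaf 0x87889)) (.node 1 (.leaf 0xa7999) (.leaf 0xa7a99))) (.node 2 (.node 1 (.leaf 0xa8788) (.leaf 0xa8788)) (.node 1 (.leaf 0xa8788) (.leaf 0xa8788)))) (.node 4 (.node 2 (.node 1 (.leaf 0x89987) (.leaf 0x99899)) (.node 1 (.leaf 0x998a9) (.leaf 0x99999))) (.node 2 (.node 1 (.leaf 0x999a9) (.leaf 0xa8788)) (.node 1 (.leaf 0x8a888) (.leaf 0x8a9a8))))) (.node 8 (.node 4 (.node 2 (.node 1 (.leaf 0x8a7a8) (.leaf 0xa8788)) (.node 1 (.leaf 0x78878) (.leaf 0x79779))) (.node 2 (.node 1 (.leaf 0x88988) (.leaf 0x88898)) (.node 1 (.leaf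 0x88998) (.leaf 0x97999)))) (.node 4 (.node 2 (.node 1 (.leaf 0x79777) (.leaf 0x79887)) (.node 1 (.leaf 0x79777) (.leaf 0x97889))) (.node 2 (.node 1 (.leaf 0x977aa) (.leaf 0x97889)) (.node 1 (.leaf 0x977aa) (.leaf 0x977aa)))))) (.node 16 (.node 8 (.node 4 (.node 2 (.node 1 (.leaf 0x977aa) (.leaf 0x79977)) (.node 1 (.leaf 0x97799) (.leaf 0x97799))) (.node 2 (.node 1 (.leaf 0x8aa8a) (.leaf 0x8aa9a)) (.node 1 (.leaf 0x8a79a) (.leaf 0x8a7aa)))) (.node 4 (.node 2 (.node 1 (.leaf 0x8a7a9) (.leaf 0x8a777)) (.node 1 (.leaf 0x8a877) (.leaf 0x8a887))) (.node 2 (.node 1 (.leaf 0xa98a8) (.leaf 0xa78a8)) (.node 1 (.leaf 0xa78a8) (.leaf 0xa78a8))))) (.node 8 (.node 4 (.node 2 (.node 1 (.leaf 0xa79a8) (.leaf 0x887a9)) (.node 1 (.leaf 0x88779) (.leaf 0x88879))) (.node 2 (.node 1 (.leaf 0xa8788) (.leaf 0x7a88a)) (.node 1 (.leaf 0x7a778) (.leaf 0x7a778))))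 (.node 4 (.node 2 (.node 1 (.leaf 0x9a998) (.leaf 0xa9aa7)) (.node 1 (.leaf 0xa97a7) (.leaf 0x9a998))) (.node 2 (.node 1 (.leaf 0x98998) (.leaf 0x8a898)) (.node 1 (.leaf 0x8a998) (.leaf 0x87a98)))))))

/-- Table data. -/
def tabVB_2_12 : Tab :=
  (.node 32 (.node 16 (.node 8 (.node 4 (.node 2 (.node 1 (.leaf 0x98a78) (.leaf 0x79aa7)) (.node 1 (.leaf 0x87a88) (.leaf 0x889aa))) (.node 2 (.node 1 (.leaf 0x8897a) (.leaf 0x88a7a)) (.node 1 (.leaf 0x88a8a) (.leaf 0x89987)))) (.node 4 (.node 2 (.node 1 (.leaf 0xa9898) (.leaf 0xa98a8)) (.node 1 (.leaf 0x88978) (.leaf 0xa99a8))) (.node 2 (.node 1 (.leaf 0x98aa7) (.leaf 0x9978a)) (.node 1 (.leaf 0x9978a) (.leaf 0x7798a))))) (.node 8 (.node 4 (.node 2 (.node 1 (.leaf 0x7798a) (.leaf 0x7799a)) (.node 1 (.leaf 0x77a9a) (.leaf 0x97778))) (.node 2 (.node 1 (.leaf 0x97788) (.leaf 0x97888)) (.node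 1 (.leaf 0x998a8) (.leaf 0x778a8)))) (.node 4 (.node 2 (.node 1 (.leaf 0xaa77a) (.leaf 0xaa77a)) (.node 1 (.leaf 0x7aa99) (.leaf 0x7aa99))) (.node 2 (.node 1 (.leaf 0x7aa99) (.leaf 0x78778)) (.node 1 (.leaf 0x78878) (.leaf 0x78878)))))) (.node 16 (.node 8 (.node 4 (.node 2 (.node 1 (.leaf 0x78878) (.leaf 0x78878)) (.node 1 (.leaf 0x78978) (.leaf 0x78988))) (.node 2 (.node 1 (.leaf 0xaa779) (.leaf 0x79999)) (.node 1 (.leaf 0x88988) (.leaf 0x9a988)))) (.node 4 (.node 2 (.node 1 (.leaf 0x79888) (.leaf 0x79898)) (.node 1 (.leaf 0x79988) (.leaf 0x98aa9))) (.node 2 (.node 1 (.leaf 0x987a9) (.leaf 0x88789)) (.node 1 (.leaf 0x89a97) (.leaf 0x77a97))))) (.node 8 (.node 4 (.node 2 (.node 1 (.leaf 0xa8a87) (.leaf 0xa8a89)) (.node 1 (.leaf 0x88798) (.leaf 0x8a798))) (.node 2 (.node 1 (.leaf 0x887a8) (.leaf 0x887a8)) (.node 1 (.leaf 0x887a8) (.leaf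 0x9979a)))) (.node 4 (.node 2 (.node 1 (.leaf 0x9979a) (.leaf 0x9979a)) (.node 1 (.leaf 0x9979a) (.leaf 0x889aa))) (.node 2 (.node 1 (.leaf 0x8897a) (.leaf 0x88a7a)) (.node 1 (.leaf 0x88a8a) (.leaf 0x78879)))))))

/-- Table data. -/
def tabVB_2_13 : Tab :=
  (.node 32 (.node 16 (.node 8 (.node 4 (.node 2 (.node 1 (.leaf 0xa8789) (.leaf 0xa8889)) (.node 1 (.leaf 0x97989) (.leaf 0x97999))) (.node 2 (.node 1 (.leaf 0x97a89) (.leaf 0x97a99)) (.node 1 (.leaf 0x88898) (.leaf 0x88998)))) (.node 4 (.node 2 (.node 1 (.leaf 0x798a8) (.leaf 0x78a88)) (.node 1 (.leaf 0x89778) (.leaf 0x89878))) (.node 2 (.node 1 (.leaf 0x87898) (.leaf 0x878a8)) (.node 1 (.leaf 0x878a8) (.leaf 0x99a8a))))) (.node 8 (.node 4 (.node 2 (.node 1 (.leaf 0x99a8a) (.leaf 0x99a8a)) (.node 1 (.leaf 0x77777) (.leaf 0x99a8a))) (.node 2 (.node 1 (.leaf 0x77787) (.leaf 0x8779a))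 (.node 1 (.leaf 0x8779a) (.leaf 0x8789a)))) (.node 4 (.node 2 (.node 1 (.leaf 0x88998) (.leaf 0x79a77)) (.node 1 (.leaf 0x97a99) (.leaf 0x97a99))) (.node 2 (.node 1 (.leaf 0x97a99) (.leaf 0x99a99)) (.node 1 (.leaf 0x99aa9) (.leaf 0x97aa9)))))) (.node 16 (.node 8 (.node 4 (.node 2 (.node 1 (.leaf 0x977a9) (.leaf 0xa99a9)) (.node 1 (.leaf 0xa9979) (.leaf 0xa9aa9))) (.node 2 (.node 1 (.leaf 0xa9a79) (.leaf 0x799a8)) (.node 1 (.leaf 0xa9879) (.leaf 0xa9979)))) (.node 4 (.node 2 (.node 1 (.leaf 0xa7797) (.leaf 0xa7797)) (.node 1 (.leaf 0xa7797) (.leaf 0x78978))) (.node 2 (.node 1 (.leaf 0x78978) (.leaf 0x8aa88)) (.node 1 (.leaf 0xaa7a8) (.leaf 0xaa7a8))))) (.node 8 (.node 4 (.node 2 (.node 1 (.leaf 0xaa7a8) (.leaf 0xaa7a8)) (.node 1 (.leaf 0xaa7a8) (.leaf 0xaa7a8))) (.node 2 (.node 1 (.leaf 0xaa7a8) (.leaf 0xaa7a8)) (.node 1 (.leaf 0xaa7a8)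 (.leaf 0x79798)))) (.node 4 (.node 2 (.node 1 (.leaf 0x79798) (.leaf 0xaa7a8)) (.node 1 (.leaf 0xaa778) (.leaf 0x8aa98))) (.node 2 (.node 1 (.leaf 0x8a798) (.leaf 0x8a7a8)) (.node 1 (.leaf 0x978a9) (.leaf 0x89a7a)))))))

/-- Table data. -/
def tabVB_2_14 : Tab :=
  (.node 32 (.node 16 (.node 8 (.node 4 (.node 2 (.node 1 (.leaf 0x87a88) (.leaf 0x87788)) (.node 1 (.leaf 0x87799) (.leaf 0xa899a))) (.node 2 (.node 1 (.leaf 0xa8a9a) (.leaf 0xa8aaa)) (.node 1 (.leaf 0xa8aaa) (.leaf 0xa8aaa)))) (.node 4 (.node 2 (.node 1 (.leaf 0xa8aaa) (.leaf 0x978a7)) (.node 1 (.leaf 0x98a77) (.leaf 0x979a7))) (.node 2 (.node 1 (.leaf 0x98777) (.leaf 0x98787)) (.node 1 (.leaf 0x787a9) (.leaf 0x8779a))))) (.node 8 (.node 4 (.node 2 (.node 1 (.leaf 0x8997a) (.leaf 0x8797a)) (.node 1 (.leaf 0x778a7) (.leaf 0xa8788))) (.node 2 (.node 1 (.leaf 0xa8888) (.leaf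 0xa8888)) (.node 1 (.leaf 0xa8888) (.leaf 0xa8888)))) (.node 4 (.node 2 (.node 1 (.leaf 0xa8888) (.leaf 0xa8888)) (.node 1 (.leaf 0x7aa99) (.leaf 0x7aaa9))) (.node 2 (.node 1 (.leaf 0x7a7a9) (.leaf 0xa8988)) (.node 1 (.leaf 0xa8988) (.leaf 0xa8988)))))) (.node 16 (.node 8 (.node 4 (.node 2 (.node 1 (.leaf 0xa8988) (.leaf 0xaa788)) (.node 1 (.leaf 0xaa888) (.leaf 0xaa888))) (.node 2 (.node 1 (.leaf 0xaa888) (.leaf 0xaa888)) (.node 1 (.leaf 0x78a79) (.leaf 0x88a88)))) (.node 4 (.node 2 (.node 1 (.leaf 0x88788) (.leaf 0x88789)) (.node 1 (.leaf 0x98777) (.leaf 0x88aa7))) (.node 2 (.node 1 (.leaf 0x9a77a) (.leaf 0x7a99a)) (.node 1 (.leaf 0x7a99a) (.leaf 0x7a7a8))))) (.node 8 (.node 4 (.node 2 (.node 1 (.leaf 0x8a887) (.leaf 0x8a987)) (.node 1 (.leaf 0x88988) (.leaf 0x8898a))) (.node 2 (.node 1 (.leaf 0x77989) (.leaf 0x97a99)) (.node 1 (.leaf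 0x77a89) (.leaf 0x97799)))) (.node 4 (.node 2 (.node 1 (.leaf 0x8a998) (.leaf 0x8aa98)) (.node 1 (.leaf 0x98997) (.leaf 0x89889))) (.node 2 (.node 1 (.leaf 0x89899) (.leaf 0x89999)) (.node 1 (.leaf 0x899a9) (.leaf 0x87888)))))))

/-- Table data. -/
def tabVB_2_15 : Tab :=
  (.node 32 (.node 16 (.node 8 (.node 4 (.node 2 (.node 1 (.leaf 0x8a8aa) (.leaf 0x779a9)) (.node 1 (.leaf 0xa8878) (.leaf 0xa8898))) (.node 2 (.node 1 (.leaf 0x8789a) (.leaf 0x8789a)) (.node 1 (.leaf 0x8789a) (.leaf 0x8789a)))) (.node 4 (.node 2 (.node 1 (.leaf 0x8789a) (.leaf 0x88977)) (.node 1 (.leaf 0x88977) (.leaf 0x88977))) (.node 2 (.node 1 (.leaf 0x88977) (.leaf 0x88977)) (.node 1 (.leaf 0x97aa9) (.leaf 0x977a9))))) (.node 8 (.node 4 (.node 2 (.node 1 (.leaf 0x799a7) (.leaf 0x799a7)) (.node 1 (.leaf 0x799a7) (.leaf 0x799a7))) (.node 2 (.node 1 (.leaf 0x79977)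 (.leaf 0x79977)) (.node 1 (.leaf 0x79977) (.leaf 0x79977)))) (.node 4 (.node 2 (.node 1 (.leaf 0x79977) (.leaf 0x8a888)) (.node 1 (.leaf 0x8a888) (.leaf 0x8a888))) (.node 2 (.node 1 (.leaf 0x8a888) (.leaf 0x8a898)) (.node 1 (.leaf 0x8a998) (.leaf 0x8788a)))))) (.node 16 (.node 8 (.node 4 (.node 2 (.node 1 (.leaf 0x87888) (.leaf 0x9a887)) (.node 1 (.leaf 0x9a987) (.leaf 0xaa798))) (.node 2 (.node 1 (.leaf 0x8899a) (.leaf 0x88a9a)) (.node 1 (.leaf 0x88a7a) (.leaf 0x879a7)))) (.node 4 (.node 2 (.node 1 (.leaf 0x87aa7) (.leaf 0x87789)) (.node 1 (.leaf 0x87789) (.leaf 0x87789))) (.node 2 (.node 1 (.leaf 0x879a7) (.leaf 0x89a79)) (.node 1 (.leaf 0x88779) (.leaf 0x88997))))) (.node 8 (.node 4 (.node 2 (.node 1 (.leaf 0x88997) (.leaf 0x88997)) (.node 1 (.leaf 0x88997) (.leaf 0xa7779))) (.node 2 (.node 1 (.leaf 0x97a7a) (.leaf 0x87887)) (.node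 1 (.leaf 0x87897) (.leaf 0x87987)))) (.node 4 (.node 2 (.node 1 (.leaf 0xa8888) (.leaf 0xa8988)) (.node 1 (.leaf 0xa8888) (.leaf 0xa8988))) (.node 2 (.node 1 (.leaf 0x88a87) (.leaf 0x88a97)) (.node 1 (.leaf 0x88797) (.leaf 0x887a7)))))))

/-- Table data. -/
def tabVB_2_16 : Tab :=
  (.node 32 (.node 16 (.node 8 (.node 4 (.node 2 (.node 1 (.leaf 0x8a8a8) (.leaf 0x8a8a7)) (.node 1 (.leaf 0x97979) (.leaf 0x8aa89))) (.node 2 (.node 1 (.leaf 0x9a878) (.leaf 0x8a789)) (.node 1 (.leaf 0xa8888) (.leaf 0xa8a87)))) (.node 4 (.node 2 (.node 1 (.leaf 0x88988) (.leaf 0x87a88)) (.node 1 (.leaf 0x98788) (.leaf 0x887a8))) (.node 2 (.node 1 (.leaf 0x889a8) (.leaf 0x889a8)) (.node 1 (.leaf 0x8aa88) (.leaf 0x8aa88))))) (.node 8 (.node 4 (.node 2 (.node 1 (.leaf 0x8aa88) (.leaf 0x8aa88)) (.node 1 (.leaf 0x8aa88) (.leaf 0x8aa78))) (.node 2 (.node 1 (.leaf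 0x8aa78) (.leaf 0x8aa78)) (.node 1 (.leaf 0x8aa78) (.leaf 0x8aa98)))) (.node 4 (.node 2 (.node 1 (.leaf 0xaa88a) (.leaf 0xaa89a)) (.node 1 (.leaf 0xaa99a) (.leaf 0x8a9aa))) (.node 2 (.node 1 (.leaf 0x88978) (.leaf 0x8a9a8)) (.node 1 (.leaf 0x78988) (.leaf 0x78988)))))) (.node 16 (.node 8 (.node 4 (.node 2 (.node 1 (.leaf 0x78988) (.leaf 0x78988)) (.node 1 (.leaf 0x7a988) (.leaf 0x8a898))) (.node 2 (.node 1 (.leaf 0x8a998) (.leaf 0x9a999)) (.node 1 (.leaf 0x9aa99) (.leaf 0x7a788)))) (.node 4 (.node 2 (.node 1 (.leaf 0x9a988) (.leaf 0xaa878)) (.node 1 (.leaf 0x98989) (.leaf 0x9a989))) (.node 2 (.node 1 (.leaf 0x7a787) (.leaf 0x7a787)) (.node 1 (.leaf 0x7a787) (.leaf 0x7a887))))) (.node 8 (.node 4 (.node 2 (.node 1 (.leaf 0x7a878) (.leaf 0x7a878)) (.node 1 (.leaf 0x7a878) (.leaf 0x7a878))) (.node 2 (.node 1 (.leaf 0x88979) (.leaf 0x8878a))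 (.node 1 (.leaf 0x8a888) (.leaf 0x88a88)))) (.node 4 (.node 2 (.node 1 (.leaf 0x88a98) (.leaf 0x877aa)) (.node 1 (.leaf 0x899aa) (.leaf 0x899aa))) (.node 2 (.node 1 (.leaf 0xa997a) (.leaf 0xa997a)) (.node 1 (.leaf 0xa997a) (.leaf 0xa997a)))))))

/-- Table data. -/
def tabVB_2_17 : Tab :=
  (.node 32 (.node 16 (.node 8 (.node 4 (.node 2 (.node 1 (.leaf 0xa997a) (.leaf 0xa997a)) (.node 1 (.leaf 0x9a7a7) (.leaf 0x9a7a7))) (.node 2 (.node 1 (.leaf 0x7a789) (.leaf 0x7a889)) (.node 1 (.leaf 0x7a889) (.leaf 0x7a889)))) (.node 4 (.node 2 (.node 1 (.leaf 0x7a889) (.leaf 0x7a989)) (.node 1 (.leaf 0x7a999) (.leaf 0x98788))) (.node 2 (.node 1 (.leaf 0x98888) (.leaf 0x9a988)) (.node 1 (.leaf 0x9a977) (.leaf 0x88988))))) (.node 8 (.node 4 (.node 2 (.node 1 (.leaf 0x789a9) (.leaf 0x87987)) (.node 1 (.leaf 0x87997) (.leaf 0x87a97))) (.node 2 (.node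 1 (.leaf 0x89a9a) (.leaf 0x89a7a)) (.node 1 (.leaf 0x89a7a) (.leaf 0x89a7a)))) (.node 4 (.node 2 (.node 1 (.leaf 0x89a7a) (.leaf 0x89a7a)) (.node 1 (.leaf 0x7a7a9) (.leaf 0x7a7a9))) (.node 2 (.node 1 (.leaf 0x9a8a9) (.leaf 0x9a89a)) (.node 1 (.leaf 0x7a898) (.leaf 0x7a898)))))) (.node 16 (.node 8 (.node 4 (.node 2 (.node 1 (.leaf 0x7a898) (.leaf 0x7a898)) (.node 1 (.leaf 0x7a898) (.leaf 0x987aa))) (.node 2 (.node 1 (.leaf 0x988aa) (.leaf 0x788aa)) (.node 1 (.leaf 0x788aa) (.leaf 0x788aa)))) (.node 4 (.node 2 (.node 1 (.leaf 0x789aa) (.leaf 0x789aa)) (.node 1 (.leaf 0x789aa) (.leaf 0x789aa))) (.node 2 (.node 1 (.leaf 0x789aa) (.leaf 0x789aa)) (.node 1 (.leaf 0x8a9a7) (.leaf 0x89aaa))))) (.node 8 (.node 4 (.node 2 (.node 1 (.leaf 0x89a7a) (.leaf 0x87a9a)) (.node 1 (.leaf 0x88978) (.leaf 0x88978))) (.node 2 (.node 1 (.leaf 0x88978) (.leaf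 0x99a88)) (.node 1 (.leaf 0x99a88) (.leaf 0x99a88)))) (.node 4 (.node 2 (.node 1 (.leaf 0x99a88) (.leaf 0x99a88)) (.node 1 (.leaf 0x99a88) (.leaf 0x99a88))) (.node 2 (.node 1 (.leaf 0x78a88) (.leaf 0x78788)) (.node 1 (.leaf 0x78788) (.leaf 0x78788)))))))

/-- Table data. -/
def tabVB_2_18 : Tab :=
  (.node 32 (.node 16 (.node 8 (.node 4 (.node 2 (.node 1 (.leaf 0x8779a) (.leaf 0x8778a)) (.node 1 (.leaf 0x8779a) (.leaf 0x8789a))) (.node 2 (.node 1 (.leaf 0x99a9a) (.leaf 0x99aaa)) (.node 1 (.leaf 0x9979a) (.leaf 0x978a7)))) (.node 4 (.node 2 (.node 1 (.leaf 0x979a7) (.leaf 0x98978)) (.node 1 (.leaf 0x79a77) (.leaf 0x98777))) (.node 2 (.node 1 (.leaf 0x989a9) (.leaf 0x98aa9)) (.node 1 (.leaf 0x98798) (.leaf 0x9aaa9))))) (.node 8 (.node 4 (.node 2 (.node 1 (.leaf 0x98898) (.leaf 0x99998)) (.node 1 (.leaf 0x8a779) (.leaf 0x87799))) (.node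 2 (.node 1 (.leaf 0x8a879) (.leaf 0x97798)) (.node 1 (.leaf 0x97798) (.leaf 0x97798)))) (.node 4 (.node 2 (.node 1 (.leaf 0x977a8) (.leaf 0x978a8)) (.node 1 (.leaf 0x9a888) (.leaf 0x7a888))) (.node 2 (.node 1 (.leaf 0x7a888) (.leaf 0xa8a87)) (.node 1 (.leaf 0x888a8) (.leaf 0x979a8)))))) (.node 16 (.node 8 (.node 4 (.node 2 (.node 1 (.leaf 0xa7aa8) (.leaf 0x97aa8)) (.node 1 (.leaf 0xa77a8) (.leaf 0xa97a8))) (.node 2 (.node 1 (.leaf 0xa79a8) (.leaf 0xa7878)) (.node 1 (.leaf 0xa7878) (.leaf 0x89979)))) (.node 4 (.node 2 (.node 1 (.leaf 0x89989) (.leaf 0xa87a9)) (.node 1 (.leaf 0xa8789) (.leaf 0x88889))) (.node 2 (.node 1 (.leaf 0x97887) (.leaf 0x77a8a)) (.node 1 (.leaf 0x97987) (.leaf 0x79789))))) (.node 8 (.node 4 (.node 2 (.node 1 (.leaf 0x7aa88) (.leaf 0x7aa88)) (.node 1 (.leaf 0x7aa88) (.leaf 0x7aa88))) (.node 2 (.node 1 (.leaf 0x77789)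 (.leaf 0x77799)) (.node 1 (.leaf 0x99aaa) (.leaf 0x99aaa)))) (.node 4 (.node 2 (.node 1 (.leaf 0x99aaa) (.leaf 0x99aaa)) (.node 1 (.leaf 0x888a9) (.leaf 0x88879))) (.node 2 (.node 1 (.leaf 0x88979) (.leaf 0x88989)) (.node 1 (.leaf 0xa8a7a) (.leaf 0xa877a)))))))

/-- Table data. -/
def tabVB_2_19 : Tab :=
  (.node 32 (.node 16 (.node 8 (.node 4 (.node 2 (.node 1 (.leaf 0x9a99a) (.leaf 0x98977)) (.node 1 (.leaf 0x78799) (.leaf 0xa8aa9))) (.node 2 (.node 1 (.leaf 0x9898a) (.leaf 0x78899)) (.node 1 (.leaf 0x8999a) (.leaf 0x7987a)))) (.node 4 (.node 2 (.node 1 (.leaf 0x98887) (.leaf 0x98987)) (.node 1 (.leaf 0x7a878) (.leaf 0xa787a))) (.node 2 (.node 1 (.leaf 0xa989a) (.leaf 0xa8788)) (.node 1 (.leaf 0xa798a) (.leaf 0x9877a))))) (.node 8 (.node 4 (.node 2 (.node 1 (.leaf 0x9878a) (.leaf 0x9888a)) (.node 1 (.leaf 0x9889a) (.leaf 0x8a888)))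 (.node 2 (.node 1 (.leaf 0x8a988) (.leaf 0xa8988)) (.node 1 (.leaf 0xa8a88) (.leaf 0x78a87)))) (.node 4 (.node 2 (.node 1 (.leaf 0xa88a9) (.leaf 0x8a9aa)) (.node 1 (.leaf 0x998a9) (.leaf 0x97888))) (.node 2 (.node 1 (.leaf 0xa97a9) (.leaf 0x7997a)) (.node 1 (.leaf 0xa8998) (.leaf 0xa8778)))))) (.node 16 (.node 8 (.node 4 (.node 2 (.node 1 (.leaf 0xa8778) (.leaf 0xa97aa)) (.node 1 (.leaf 0xa97aa) (.leaf 0xa97aa))) (.node 2 (.node 1 (.leaf 0x989aa) (.leaf 0x787aa)) (.node 1 (.leaf 0xa7799) (.leaf 0x787aa)))) (.node 4 (.node 2 (.node 1 (.leaf 0x787aa) (.leaf 0x787aa)) (.node 1 (.leaf 0x787aa) (.leaf 0xa8777))) (.node 2 (.node 1 (.leaf 0xa8878) (.leaf 0xa8777)) (.node 1 (.leaf 0xa8898) (.leaf 0xa8777))))) (.node 8 (.node 4 (.node 2 (.node 1 (.leaf 0xa8878) (.leaf 0xa8777)) (.node 1 (.leaf 0x989a7) (.leaf 0xa89a9))) (.node 2 (.node 1 (.leaf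 0xa8777) (.leaf 0x989a7)) (.node 1 (.leaf 0x98798) (.leaf 0xa87a7)))) (.node 4 (.node 2 (.node 1 (.leaf 0xaa777) (.leaf 0x989a7)) (.node 1 (.leaf 0xa889a) (.leaf 0xa8a77))) (.node 2 (.node 1 (.leaf 0xaaa7a) (.leaf 0xaaa9a)) (.node 1 (.leaf 0xa8797) (.leaf 0xa8a79)))))))

/-- Table data. -/
def tabVB_2_20 : Tab :=
  (.node 32 (.node 16 (.node 8 (.node 4 (.node 2 (.node 1 (.leaf 0xa8a89) (.leaf 0x97aa8)) (.node 1 (.leaf 0xa8788) (.leaf 0xa8788))) (.node 2 (.node 1 (.leaf 0xa8777) (.leaf 0xa8877)) (.node 1 (.leaf 0xa8899) (.leaf 0xa8899)))) (.node 4 (.node 2 (.node 1 (.leaf 0xa8899) (.leaf 0x88999)) (.node 1 (.leaf 0x87899) (.leaf 0x88898))) (.node 2 (.node 1 (.leaf 0x88878) (.leaf 0x88788)) (.node 1 (.leaf 0x88788) (.leaf 0x88788))))) (.node 8 (.node 4 (.node 2 (.node 1 (.leaf 0x88788) (.leaf 0x88788)) (.node 1 (.leaf 0x77988) (.leaf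 0x77988))) (.node 2 (.node 1 (.leaf 0x77988) (.leaf 0x77988)) (.node 1 (.leaf 0x77988) (.leaf 0x8a878)))) (.node 4 (.node 2 (.node 1 (.leaf 0x8a888) (.leaf 0xa8a79)) (.node 1 (.leaf 0xa8a79) (.leaf 0xa8a79))) (.node 2 (.node 1 (.leaf 0xa8a79) (.leaf 0xaa779)) (.node 1 (.leaf 0x8888a) (.leaf 0x88779)))))) (.node 16 (.node 8 (.node 4 (.node 2 (.node 1 (.leaf 0x77997) (.leaf 0x88778)) (.node 1 (.leaf 0x98a97) (.leaf 0x788a7))) (.node 2 (.node 1 (.leaf 0x789a7) (.leaf 0x987a9)) (.node 1 (.leaf 0x98789) (.leaf 0x98789)))) (.node 4 (.node 2 (.node 1 (.leaf 0xa7aa9) (.leaf 0xa7aa9)) (.node 1 (.leaf 0xaa8a9) (.leaf 0xa9988))) (.node 2 (.node 1 (.leaf 0xa8788) (.leaf 0xa87a7)) (.node 1 (.leaf 0xa8777) (.leaf 0xa88a7))))) (.node 8 (.node 4 (.node 2 (.node 1 (.leaf 0x7a8aa) (.leaf 0xa8989)) (.node 1 (.leaf 0x898a8) (.leaf 0x899a8))) (.node 2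 (.node 1 (.leaf 0x998a8) (.leaf 0xa8a8a)) (.node 1 (.leaf 0x87898) (.leaf 0x89878)))) (.node 4 (.node 2 (.node 1 (.leaf 0x7897a) (.leaf 0x7897a)) (.node 1 (.leaf 0x88a98) (.leaf 0x7899a))) (.node 2 (.node 1 (.leaf 0x78a9a) (.leaf 0x98778)) (.node 1 (.leaf 0x98778) (.leaf 0x98778)))))))

/-- Table data. -/
def tabVB_2_21 : Tab :=
  (.node 6 (.node 3 (.node 1 (.leaf 0x98778) (.node 1 (.leaf 0x98778) (.leaf 0x98778))) (.node 1 (.leaf 0x98778) (.node 1 (.leaf 0x98778) (.leaf 0x98778)))) (.node 3 (.node 1 (.leaf 0x98778) (.node 1 (.leaf 0x98878) (.leaf 0x98888))) (.node 1 (.leaf 0x88888) (.node 1 (.leaf 0x979aa) (.leaf 0xaa8a9)))))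

/-- Table data. -/
def tabVB_2 : Tab :=
  (.node 704 (.node 320 (.node 128 (.node 64 tabVB_2_0 tabVB_2_1) (.node 64 tabVB_2_2 (.node 64 tabVB_2_3 tabVB_2_4))) (.node 192 (.node 64 tabVB_2_5 (.node 64 tabVB_2_6 tabVB_2_7)) (.node 64 tabVB_2_8 (.node 64 tabVB_2_9 tabVB_2_10)))) (.node 320 (.node 128 (.node 64 tabVB_2_11 tabVB_2_12) (.node 64 tabVB_2_13 (.node 64 tabVB_2_14 tabVB_2_15))) (.node 192 (.node 64 tabVB_2_16 (.node 64 tabVB_2_17 tabVB_2_18)) (.node 64 tabVB_2_19 (.node 64 tabVB_2_20 tabVB_2_21)))))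

end Cfsg.Lib.CosetEnum.RuStemL
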