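import Cfsg.Agent.Lib.CosetEnum.Stem.Defs
import Cfsg.Agent.Lib.CosetEnum.RuStemL.TabFA_Data0
import Cfsg.Agent.Lib.CosetEnum.RuStemL.TabCA_Data0
import Cfsg.Agent.Lib.CosetEnum.RuStemL.TabVA_Data0
import Cfsg.Agent.Lib.CosetEnum.RuStemL.TabFB_Data0
import Cfsg.Agent.Lib.CosetEnum.RuStemL.TabCB_Data0
import Cfsg.Agent.Lib.CosetEnum.RuStemL.TabVB_Data0
import Cfsg.Agent.Lib.CosetEnum.RuStemL.TabVB_Data1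
import Cfsg.Agent.Lib.CosetEnum.RuStemL.TabVB_Data2

/-! Generated certificate. -/

set_option autoImplicit false
set_option maxRecDepth 20000

namespace Cfsg.Lib.CosetEnum.RuStemL

open Stem

/-- Table. -/
def tabFA : Tab :=
  tabFA_0

/-- Table. -/
def tabCA : Tab :=
  tabCA_0

/-- Table. -/
def tabVA : Tab :=
  tabVA_0

/-- Relator words. -/
def relWordsA : List (List Nat) :=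
  [[0, 0],
    [1, 1],
    [0, 2, 0, 2, 0, 2],
    [1, 2, 1, 2],
    [2, 0, 1, 0, 1, 0, 2, 0, 1, 0, 1, 0, 2, 0, 1, 0, 1, 2, 0, 1, 0, 2, 0, 1, 0, 1, 0, 2, 0, 1, 0, 1, 0, 2, 0, 1, 0, 1, 0],
    [1, 0, 1, 0, 1, 0, 1, 2, 0, 1, 0, 1, 2, 0, 1, 0, 1, 0, 1, 2, 0, 1, 0, 1, 2, 0, 1, 0, 1, 0, 1, 2, 0, 1, 0, 2, 1, 0, 1, 0, 1, 0, 2, 1, 0, 1, 0, 2],
    [1, 0, 1, 0, 1, 0, 1, 0, 1, 0, 1, 0, 1, 0, 1, 0],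
    [2, 0, 2, 0, 2, 0],
    [2, 1, 2, 1],
    [0, 1, 0, 1, 0, 1, 0, 1, 0, 1, 0, 1, 0, 1, 0, 1],
    [0, 1, 0, 1, 0, 1, 0, 1, 0, 1, 0, 1, 0, 1, 0, 1],
    [0, 2, 0, 2, 0, 2],
    [0, 2, 0, 2, 0, 2],
    [1, 2, 1, 2],
    [1, 2, 1, 2]]

/-- Their values. -/
def relValsA : List (List Int) :=
  [[0, 0, 0, 0, 0],
    [0, 0, 0, 0, 0],
    [0, 1, 0, 0, 0],
    [0, 0, 1, 0, 0],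
    [0, 0, 0, 1, 0],
    [0, 0, 0, 0, 1],
    [1, 0, 0, 0, 0],
    [0, 1, 0, 0, 0],
    [0, 0, 1, 0, 0],
    [1, 0, 0, 0, 0],
    [-1, 0, 0, 0, 0],
    [0, 1, 0, 0, 0],
    [0, -1, 0, 0, 0],
    [0, 0, 1, 0, 0],
    [0, 0, -1, 0, 0]]

/-- Their sources. -/
def srcsA : List (Nat × Nat × Bool) :=
  [(0, 0, false), (1, 0, false), (4, 0, false), (5, 0, false), (6, 17, false), (7, 47, false), (3, 1, false), (4, 1, false), (5, 1, false), (3, 0, false), (3, 1, true), (4, 0, false), (4, 1, true), (5, 0, false), (5, 1, true)]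

/-- Closed paths. -/
def pathsA : List (List Nat × List Int) :=
  [([7, 22, 6, 144, 40, 39, 24, 23, 22], [0, -2, -1, -2, 0]),
    ([8, 119, 5, 119, 166, 111, 112, 118], [0, 2, 0, 0, 2])]

/-- The certificate. -/
def certA : VCert :=
  ⟨relWordsA, relValsA, [[0]], tabFA, tabCA, tabVA, 138, 29, 5, 256, 0, pathsA⟩

/-- Table. -/
def tabFB : Tab :=
  tabFB_0

/-- Table. -/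
def tabCB : Tab :=
  tabCB_0

/-- Table. -/
def tabVB : Tab :=
  (.node 2048 tabVB_0 (.node 2048 tabVB_1 tabVB_2))

/-- Relator words. -/
def relWordsB : List (List Nat) :=
  [[0, 0],
    [1, 1],
    [2, 2],
    [0, 2, 0, 2, 0, 2],
    [1, 2, 1, 2],
    [2, 0, 1, 0, 1, 0, 2, 0, 1, 0, 1, 0, 2, 0, 1, 0, 1, 2, 0, 1, 0, 2, 0, 1, 0, 1, 0, 2, 0, 1, 0, 1, 0, 2, 0, 1, 0, 1, 0],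
    [1, 0, 1, 0, 1, 0, 1, 2, 0, 1, 0, 1, 2, 0, 1, 0, 1, 0, 1, 2, 0, 1, 0, 1, 2, 0, 1, 0, 1, 0, 1, 2, 0, 1, 0, 2, 1, 0, 1, 0, 1, 0, 2, 1, 0, 1, 0, 2],
    [1, 0, 1, 0, 1, 0, 1, 0, 1, 0, 1, 0, 1, 0, 1, 0],
    [2, 0, 2, 0, 2, 0],
    [2, 1, 2, 1],
    [0, 1, 0, 1, 0, 2, 0, 1, 0, 1, 0, 2, 0, 1, 0, 1, 2, 0, 1, 0, 2, 0, 1, 0, 1, 0, 2, 0, 1, 0, 1, 0, 2, 0, 1, 0, 1, 0, 2],
    [1, 0, 1, 0, 2, 0, 1, 0, 1, 0, 2, 0, 1, 0, 1, 2, 0, 1, 0, 2, 0, 1, 0, 1, 0, 2, 0, 1, 0, 1, 0, 2, 0, 1, 0, 1, 0, 2, 0],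
    [1, 0, 2, 0, 1, 0, 1, 0, 2, 0, 1, 0, 1, 2, 0, 1, 0, 2, 0, 1, 0, 1, 0, 2, 0, 1, 0, 1, 0, 2, 0, 1, 0, 1, 0, 2, 0, 1, 0],
    [1, 0, 1, 0, 2, 0, 1, 0, 1, 2, 0, 1, 0, 2, 0, 1, 0, 1, 0, 2, 0, 1, 0, 1, 0, 2, 0, 1, 0, 1, 0, 2, 0, 1, 0, 1, 0, 2, 0],
    [0, 1, 0, 2, 0, 1, 0, 1, 2, 0, 1, 0, 2, 0, 1, 0, 1, 0, 2, 0, 1, 0, 1, 0, 2, 0, 1, 0, 1, 0, 2, 0, 1, 0, 1, 0, 2, 0, 1],
    [2, 0, 1, 0, 1, 2, 0, 1, 0, 2, 0, 1, 0, 1, 0, 2, 0, 1, 0, 1, 0, 2, 0, 1, 0, 1, 0, 2, 0, 1, 0, 1, 0, 2, 0, 1, 0, 1, 0],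
    [1, 0, 1, 2, 0, 1, 0, 2, 0, 1, 0, 1, 0, 2, 0, 1, 0, 1, 0, 2, 0, 1, 0, 1, 0, 2, 0, 1, 0, 1, 0, 2, 0, 1, 0, 1, 0, 2, 0],
    [0, 1, 2, 0, 1, 0, 2, 0, 1, 0, 1, 0, 2, 0, 1, 0, 1, 0, 2, 0, 1, 0, 1, 0, 2, 0, 1, 0, 1, 0, 2, 0, 1, 0, 1, 0, 2, 0, 1],
    [2, 0, 1, 0, 2, 0, 1, 0, 1, 0, 2, 0, 1, 0, 1, 0, 2, 0, 1, 0, 1, 0, 2, 0, 1, 0, 1, 0, 2, 0, 1, 0, 1, 0, 2, 0, 1, 0, 1],
    [1, 0, 2, 0, 1, 0, 1, 0, 2, 0, 1, 0, 1, 0, 2, 0, 1, 0, 1, 0, 2, 0, 1, 0, 1, 0, 2, 0, 1, 0, 1, 0, 2, 0, 1, 0, 1, 2, 0],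
    [0, 2, 0, 1, 0, 1, 0, 2, 0, 1, 0, 1, 0, 2, 0, 1, 0, 1, 0, 2, 0, 1, 0, 1, 0, 2, 0, 1, 0, 1, 0, 2, 0, 1, 0, 1, 2, 0, 1],
    [2, 0, 1, 0, 1, 0, 2, 0, 1, 0, 1, 0, 2, 0, 1, 0, 1, 0, 2, 0, 1, 0, 1, 0, 2, 0, 1, 0, 1, 0, 2, 0, 1, 0, 1, 2, 0, 1, 0],
    [0, 1, 0, 1, 0, 2, 0, 1, 0, 1, 0, 2, 0, 1, 0, 1, 0, 2, 0, 1, 0, 1, 0, 2, 0, 1, 0, 1, 0, 2, 0, 1, 0, 1, 2, 0, 1, 0, 2],
    [1, 0, 1, 0, 2, 0, 1, 0, 1, 0, 2, 0, 1, 0, 1, 0, 2, 0, 1, 0, 1, 0, 2, 0, 1, 0, 1, 0, 2, 0, 1, 0, 1, 2, 0, 1, 0, 2, 0],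
    [1, 0, 2, 0, 1, 0, 1, 0, 2, 0, 1, 0, 1, 0, 2, 0, 1, 0, 1, 0, 2, 0, 1, 0, 1, 0, 2, 0, 1, 0, 1, 2, 0, 1, 0, 2, 0, 1, 0],
    [0, 2, 0, 1, 0, 1, 0, 2, 0, 1, 0, 1, 0, 2, 0, 1, 0, 1, 0, 2, 0, 1, 0, 1, 0, 2, 0, 1, 0, 1, 2, 0, 1, 0, 2, 0, 1, 0, 1],
    [2, 0, 1, 0, 1, 0, 2, 0, 1, 0, 1, 0, 2, 0, 1, 0, 1, 0, 2, 0, 1, 0, 1, 0, 2, 0, 1, 0, 1, 2, 0, 1, 0, 2, 0, 1, 0, 1, 0],
    [0, 1, 0, 1, 0, 2, 0, 1, 0, 1, 0, 2, 0, 1, 0, 1, 0, 2, 0, 1, 0, 1, 0, 2, 0, 1, 0, 1, 2, 0, 1, 0, 2, 0, 1, 0, 1, 0, 2],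
    [1, 0, 1, 0, 2, 0, 1, 0, 1, 0, 2, 0, 1, 0, 1, 0, 2, 0, 1, 0, 1, 0, 2, 0, 1, 0, 1, 2, 0, 1, 0, 2, 0, 1, 0, 1, 0, 2, 0],
    [2, 0, 1, 0, 1, 0, 2, 0, 1, 0, 1, 0, 2, 0, 1, 0, 1, 0, 2, 0, 1, 0, 1, 2, 0, 1, 0, 2, 0, 1, 0, 1, 0, 2, 0, 1, 0, 1, 0],
    [1, 0, 1, 0, 2, 0, 1, 0, 1, 0, 2, 0, 1, 0, 1, 0, 2, 0, 1, 0, 1, 2, 0, 1, 0, 2, 0, 1, 0, 1, 0, 2, 0, 1, 0, 1, 0, 2, 0],
    [0, 2, 0, 1, 0, 1, 0, 2, 0, 1, 0, 1, 0, 2, 0, 1, 0, 1, 2, 0, 1, 0, 2, 0, 1, 0, 1, 0, 2, 0, 1, 0, 1, 0, 2, 0, 1, 0, 1],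
    [1, 0, 1, 0, 2, 0, 1, 0, 1, 0, 2, 0, 1, 0, 1, 0, 2, 0, 1, 0, 2, 1, 0, 1, 0, 2, 0, 1, 0, 1, 0, 2, 0, 1, 0, 1, 0, 2, 0],
    [0, 2, 0, 1, 0, 1, 0, 2, 0, 1, 0, 1, 0, 2, 0, 1, 0, 2, 1, 0, 1, 0, 2, 0, 1, 0, 1, 0, 2, 0, 1, 0, 1, 0, 2, 0, 1, 0, 1],
    [2, 0, 1, 0, 1, 0, 2, 0, 1, 0, 1, 0, 2, 0, 1, 0, 2, 1, 0, 1, 0, 2, 0, 1, 0, 1, 0, 2, 0, 1, 0, 1, 0, 2, 0, 1, 0, 1, 0],
    [0, 2, 0, 1, 0, 1, 0, 2, 0, 1, 0, 2, 1, 0, 1, 0, 2, 0, 1, 0, 1, 0, 2, 0, 1, 0, 1, 0, 2, 0, 1, 0, 1, 0, 2, 0, 1, 0, 1],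
    [2, 0, 1, 0, 1, 0, 2, 0, 1, 0, 2, 1, 0, 1, 0, 2, 0, 1, 0, 1, 0, 2, 0, 1, 0, 1, 0, 2, 0, 1, 0, 1, 0, 2, 0, 1, 0, 1, 0],
    [1, 0, 1, 0, 2, 0, 1, 0, 2, 1, 0, 1, 0, 2, 0, 1, 0, 1, 0, 2, 0, 1, 0, 1, 0, 2, 0, 1, 0, 1, 0, 2, 0, 1, 0, 1, 0, 2, 0],
    [0, 1, 0, 2, 0, 1, 0, 2, 1, 0, 1, 0, 2, 0, 1, 0, 1, 0, 2, 0, 1, 0, 1, 0, 2, 0, 1, 0, 1, 0, 2, 0, 1, 0, 1, 0, 2, 0, 1],
    [2, 0, 1, 0, 2, 1, 0, 1, 0, 2, 0, 1, 0, 1, 0, 2, 0, 1, 0, 1, 0, 2, 0, 1, 0, 1, 0, 2, 0, 1, 0, 1, 0, 2, 0, 1, 0, 1, 0],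
    [2, 1, 0, 1, 0, 2, 0, 1, 0, 1, 0, 2, 0, 1, 0, 1, 0, 2, 0, 1, 0, 1, 0, 2, 0, 1, 0, 1, 0, 2, 0, 1, 0, 1, 0, 2, 0, 1, 0],
    [1, 0, 2, 0, 1, 0, 1, 0, 2, 0, 1, 0, 1, 0, 2, 0, 1, 0, 1, 0, 2, 0, 1, 0, 1, 0, 2, 0, 1, 0, 1, 0, 2, 0, 1, 0, 2, 1, 0],
    [0, 2, 0, 1, 0, 1, 0, 2, 0, 1, 0, 1, 0, 2, 0, 1, 0, 1, 0, 2, 0, 1, 0, 1, 0, 2, 0, 1, 0, 1, 0, 2, 0, 1, 0, 2, 1, 0, 1],
    [2, 0, 1, 0, 1, 0, 2, 0, 1, 0, 1, 0, 2, 0, 1, 0, 1, 0, 2, 0, 1, 0, 1, 0, 2, 0, 1, 0, 1, 0, 2, 0, 1, 0, 2, 1, 0, 1, 0],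
    [0, 1, 0, 1, 0, 2, 0, 1, 0, 1, 0, 2, 0, 1, 0, 1, 0, 2, 0, 1, 0, 1, 0, 2, 0, 1, 0, 1, 0, 2, 0, 1, 0, 2, 1, 0, 1, 0, 2],
    [1, 0, 1, 0, 2, 0, 1, 0, 1, 0, 2, 0, 1, 0, 1, 0, 2, 0, 1, 0, 1, 0, 2, 0, 1, 0, 1, 0, 2, 0, 1, 0, 2, 1, 0, 1, 0, 2, 0],
    [2, 0, 1, 0, 1, 0, 2, 0, 1, 0, 1, 0, 2, 0, 1, 0, 1, 0, 2, 0, 1, 0, 1, 0, 2, 0, 1, 0, 2, 1, 0, 1, 0, 2, 0, 1, 0, 1, 0],
    [0, 1, 0, 1, 0, 2, 0, 1, 0, 1, 0, 2, 0, 1, 0, 1, 0, 2, 0, 1, 0, 1, 0, 2, 0, 1, 0, 2, 1, 0, 1, 0, 2, 0, 1, 0, 1, 0, 2],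
    [1, 0, 1, 0, 2, 0, 1, 0, 1, 0, 2, 0, 1, 0, 1, 0, 2, 0, 1, 0, 1, 0, 2, 0, 1, 0, 2, 1, 0, 1, 0, 2, 0, 1, 0, 1, 0, 2, 0],
    [2, 0, 1, 0, 1, 0, 2, 0, 1, 0, 1, 0, 2, 0, 1, 0, 1, 0, 2, 0, 1, 0, 2, 1, 0, 1, 0, 2, 0, 1, 0, 1, 0, 2, 0, 1, 0, 1, 0],
    [0, 1, 0, 1, 0, 1, 0, 1, 0, 1, 0, 1, 0, 1, 0, 1],
    [0, 1, 0, 1, 0, 1, 0, 1, 0, 1, 0, 1, 0, 1, 0, 1],
    [0, 1, 0, 1, 0, 1, 0, 1, 0, 1, 0, 1, 0, 1, 0, 1],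
    [0, 2, 0, 2, 0, 2],
    [0, 2, 0, 2, 0, 2],
    [1, 2, 1, 2],
    [1, 2, 1, 2]]

/-- Their values. -/
def relValsB : List (List Int) :=
  [[0, 0, 0, 0, 0],
    [0, 0, 0, 0, 0],
    [0, 0, 0, 0, 0],
    [0, 1, 0, 0, 0],
    [0, 0, 1, 0, 0],
    [0, 0, 0, 1, 0],
    [0, 0, 0, 0, 1],
    [1, 0, 0, 0, 0],
    [0, 1, 0, 0, 0],
    [0, 0, 1, 0, 0],
    [0, 0, 0, 1, 0],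
    [0, 0, 0, 1, 0],
    [0, 0, 0, 1, 0],
    [0, 0, 0, 1, 0],
    [0, 0, 0, 1, 0],
    [0, 0, 0, 1, 0],
    [0, 0, 0, 1, 0],
    [0, 0, 0, 1, 0],
    [0, 0, 0, 1, 0],
    [0, 0, 0, 1, 0],
    [0, 0, 0, 1, 0],
    [0, 0, 0, 1, 0],
    [0, 0, 0, 1, 0],
    [0, 0, 0, 1, 0],
    [0, 0, 0, 1, 0],
    [0, 0, 0, 1, 0],
    [0, 0, 0, 1, 0],
    [0, 0, 0, 1, 0],
    [0, 0, 0, 1, 0],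
    [0, 0, 0, 1, 0],
    [0, 0, 0, 1, 0],
    [0, 0, 0, 1, 0],
    [0, 0, 0, -1, 0],
    [0, 0, 0, -1, 0],
    [0, 0, 0, -1, 0],
    [0, 0, 0, -1, 0],
    [0, 0, 0, -1, 0],
    [0, 0, 0, -1, 0],
    [0, 0, 0, -1, 0],
    [0, 0, 0, -1, 0],
    [0, 0, 0, -1, 0],
    [0, 0, 0, -1, 0],
    [0, 0, 0, -1, 0],
    [0, 0, 0, -1, 0],
    [0, 0, 0, -1, 0],
    [0, 0, 0, -1, 0],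
    [0, 0, 0, -1, 0],
    [0, 0, 0, -1, 0],
    [0, 0, 0, -1, 0],
    [0, 0, 0, -1, 0],
    [1, 0, 0, 0, 0],
    [1, 0, 0, 0, 0],
    [-1, 0, 0, 0, 0],
    [0, 1, 0, 0, 0],
    [0, -1, 0, 0, 0],
    [0, 0, 1, 0, 0],
    [0, 0, -1, 0, 0]]

/-- Their sources. -/
def srcsB : List (Nat × Nat × Bool) :=
  [(0, 0, false), (1, 0, false), (2, 0, false), (4, 0, false), (5, 0, false), (6, 17, false), (7, 47, false), (3, 1, false), (4, 1, false), (5, 1, false), (6, 18, false), (6, 19, false), (6, 21, false), (6, 25, false), (6, 26, false), (6, 29, false), (6, 31, false), (6, 32, false), (6, 34, false), (6, 36, false), (6, 37, false), (6, 38, false), (6, 0, false), (6, 1, false), (6, 3, false), (6, 4, false), (6, 5, false), (6, 6, false), (6,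 7, false), (6, 11, false), (6, 13, false), (6, 16, false), (6, 23, true), (6, 26, true), (6, 27, true), (6, 32, true), (6, 33, true), (6, 35, true), (6, 36, true), (6, 0, true), (6, 4, true), (6, 7, true), (6, 8, true), (6, 9, true), (6, 10, true), (6, 11, true), (6, 15, true), (6, 16, true), (6, 17, true), (6, 21, true), (3, 0, false), (3, 0, false), (3, 1, true), (4, 0, false), (4, 1, true), (5, 0, false), (5, 1, true)]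

/-- Closed paths. -/
def pathsB : List (List Nat × List Int) :=
  [([9, 2402, 4, 4899, 1932, 383, 2401], [0, 0, 2, 0, 1]),
    ([9, 4160, 4, 5448, 3607, 4158, 4159], [0, 0, -1, 0, -1]),
    ([4, 1636, 4, 5451, 4245, 4244, 1635], [-1, 2, -1, 2, 2])]

/-- The certificate. -/
def certB : VCert :=
  ⟨relWordsB, relValsB, [[0]], tabFB, tabCB, tabVB, 4247, 1205, 5, 16, 4, pathsB⟩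

/-- The relators. -/
def canon : List (List Nat) :=
  [[0, 0],
    [1, 1],
    [2, 2],
    [0, 1, 0, 1, 0, 1, 0, 1, 0, 1, 0, 1, 0, 1, 0, 1],
    [0, 2, 0, 2, 0, 2],
    [1, 2, 1, 2],
    [0, 1, 0, 1, 0, 2, 0, 1, 0, 1, 0, 2, 0, 1, 0, 1, 0, 2, 0, 1, 0, 1, 0, 2, 0, 1, 0, 1, 0, 2, 0, 1, 0, 1, 2, 0, 1, 0, 2],
    [0, 1, 0, 1, 0, 1, 2, 0, 1, 0, 1, 2, 0, 1, 0, 1, 0, 1, 2, 0, 1, 0, 1, 2, 0, 1, 0, 1, 0, 1, 2, 0, 1, 0, 2, 1, 0, 1, 0, 1, 0, 2, 1, 0, 1, 0, 2, 1]]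

/-- Their values. -/
def canonVals : List (List Int) :=
  [[0, 0, 0, 0, 0],
    [0, 0, 0, 0, 0],
    [0, 0, 0, 0, 0],
    [1, 0, 0, 0, 0],
    [0, 1, 0, 0, 0],
    [0, 0, 1, 0, 0],
    [0, 0, 0, 1, 0],
    [0, 0, 0, 0, 1]]

/-- The exponent. -/
def expo : Nat := 4

/-- The twists. -/
def lam : List (List Int) :=
  [[0, 0, 0, 0, 0],
    [0, 1, 0, 1, 0],
    [0, 1, 0, 0, 0]]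

/-- The generator of the bound. -/
def omega : List Int :=
  [0, 0, 0, 0, 0]

/-- The multiples of it. -/
def mult : List Int :=
  [0, 0, 0, 0, 0, 0, 0, 0]

/-- Combinations giving the exponent. -/
def expoCombs : List (List Int × List (Nat × Nat × Int)) :=
  [([0, 0], [(9, 10, 2)]),
    ([0, 0], [(11, 12, 2)]),
    ([0, 0], [(13, 14, 2)]),
    ([-2, 0], [(11, 12, -2), (13, 14, -1)]),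
    ([0, 2], [(11, 12, -2)])]

/-- Combinations for the twisted relators. -/
def twistCombs : List (List Int × List (Nat × Nat × Int)) :=
  [([0, 0, 0, 0, 0, 0, 0, 0, 0, 0], []),
    ([-1, -1, -3, -5, 0, 0, 0, 0, 0, 0], [(53, 54, 1)]),
    ([0, 0, 0, 0, 0, 0, 0, 0, 0, 0], [(53, 54, 1)]),
    ([-5, -4, -16, -26, -1, 0, 0, 0, 0, 0], [(53, 54, 4)]),
    ([0, 0, 0, 0, 0, 0, 0, 0, 0, 0], [(53, 54, 2)]),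
    ([-1, -1, -2, -4, 0, 0, 0, 0, 0, 0], [(53, 54, 2)]),
    ([-7, -7, -21, -35, 0, 0, 0, 0, 0, 0], [(53, 54, 10)]),
    ([-10, -10, -31, -52, 0, 0, 0, 0, 0, 0], [(53, 54, 14)])]

/-- Combinations for the twists. -/
def lamCombs : List (List Int × List (Nat × Nat × Int)) :=
  [([0, 0, 0, 0, 0, 0, 0, 0, 0, 0], []),
    ([-1, -1, -3, -5, 0, 0, 0, 0, 0, 0], [(53, 54, 1)]),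
    ([0, 0, 0, 0, 0, 0, 0, 0, 0, 0], [(53, 54, 1)])]

/-- Combination for the generator. -/
def omegaComb : List Int × List (Nat × Nat × Int) :=
  ([0, 0, 0, 0, 0, 0, 0, 0, 0, 0], [])

end Cfsg.Lib.CosetEnum.RuStemL
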