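import Cfsg.Agent.Lib.CosetEnum.Defs

/-! Generated table data. -/

set_option autoImplicit false
set_option maxRecDepth 20000

namespace Cfsg.Lib.CosetEnum.RuStemL

/-- Table data. -/
def tabVB_1_0 : Tab :=
  (.node 32 (.node 16 (.node 8 (.node 4 (.node 2 (.node 1 (.leaf 0x88888) (.leaf 0x88888)) (.node 1 (.leaf 0x88888) (.leaf 0x88888))) (.node 2 (.node 1 (.leaf 0x88888) (.leaf 0x88888)) (.node 1 (.leaf 0x88888) (.leaf 0x88888)))) (.node 4 (.node 2 (.node 1 (.leaf 0x88888) (.leaf 0x88888)) (.node 1 (.leaf 0x88888) (.leaf 0x88888))) (.node 2 (.node 1 (.leaf 0x88888) (.leaf 0x88888)) (.node 1 (.leaf 0x88888) (.leaf 0x88888))))) (.node 8 (.node 4 (.node 2 (.node 1 (.leaf 0x88888) (.leaf 0x88888)) (.node 1 (.leaf 0x88888) (.leaf 0x88888))) (.node 2 (.node 1 (.leaf 0x88888) (.leaf 0x88888)) (.node 1 (.leaf 0x88888) (.leaf 0x88888)))) (.node 4 (.node 2 (.node 1 (.leaf 0x88888) (.leaf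 0x88888)) (.node 1 (.leaf 0x88888) (.leaf 0x88888))) (.node 2 (.node 1 (.leaf 0x88888) (.leaf 0x88888)) (.node 1 (.leaf 0x88888) (.leaf 0x88888)))))) (.node 16 (.node 8 (.node 4 (.node 2 (.node 1 (.leaf 0x88888) (.leaf 0x88888)) (.node 1 (.leaf 0x88888) (.leaf 0x88888))) (.node 2 (.node 1 (.leaf 0x88888) (.leaf 0x88888)) (.node 1 (.leaf 0x88888) (.leaf 0x88888)))) (.node 4 (.node 2 (.node 1 (.leaf 0x88888) (.leaf 0x88888)) (.node 1 (.leaf 0x88888) (.leaf 0x88888))) (.node 2 (.node 1 (.leaf 0x88888) (.leaf 0x88888)) (.node 1 (.leaf 0x88888) (.leaf 0x88888))))) (.node 8 (.node 4 (.node 2 (.node 1 (.leaf 0x88888) (.leaf 0x88888)) (.node 1 (.leaf 0x88888) (.leaf 0x88888))) (.node 2 (.node 1 (.leaf 0x88888) (.leaf 0x88888)) (.node 1 (.leaf 0x88888) (.leaf 0x88888)))) (.node 4 (.node 2 (.node 1 (.leaf 0x88888) (.leaf 0x88888)) (.node 1 (.leaf 0x88888) (.leaf 0x88888))) (.node 2 (.node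 1 (.leaf 0x88888) (.leaf 0x88888)) (.node 1 (.leaf 0x88888) (.leaf 0x88888)))))))

/-- Table data. -/
def tabVB_1_1 : Tab :=
  (.node 32 (.node 16 (.node 8 (.node 4 (.node 2 (.node 1 (.leaf 0x88888) (.leaf 0x88888)) (.node 1 (.leaf 0x88888) (.leaf 0x88888))) (.node 2 (.node 1 (.leaf 0x88888) (.leaf 0x88888)) (.node 1 (.leaf 0x88888) (.leaf 0x88888)))) (.node 4 (.node 2 (.node 1 (.leaf 0x88888) (.leaf 0x88888)) (.node 1 (.leaf 0x88888) (.leaf 0x88888))) (.node 2 (.node 1 (.leaf 0x88888) (.leaf 0x88888)) (.node 1 (.leaf 0x88888) (.leaf 0x88888))))) (.node 8 (.node 4 (.node 2 (.node 1 (.leaf 0x88888) (.leaf 0x88888)) (.node 1 (.leaf 0x88888) (.leaf 0x88888))) (.node 2 (.node 1 (.leaf 0x88888) (.leaf 0x88888)) (.node 1 (.leaf 0x88888) (.leaf 0x88888)))) (.node 4 (.node 2 (.node 1 (.leaf 0x88888) (.leaf 0x88888)) (.node 1 (.leaf 0x88888) (.leaf 0x88888))) (.node 2 (.node 1 (.leaf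 0x88888) (.leaf 0x88888)) (.node 1 (.leaf 0x88888) (.leaf 0x88888)))))) (.node 16 (.node 8 (.node 4 (.node 2 (.node 1 (.leaf 0x88888) (.leaf 0x88888)) (.node 1 (.leaf 0x88888) (.leaf 0x88888))) (.node 2 (.node 1 (.leaf 0x88888) (.leaf 0x88888)) (.node 1 (.leaf 0x88888) (.leaf 0x88888)))) (.node 4 (.node 2 (.node 1 (.leaf 0x88888) (.leaf 0x88888)) (.node 1 (.leaf 0x88888) (.leaf 0x88888))) (.node 2 (.node 1 (.leaf 0x88888) (.leaf 0x88888)) (.node 1 (.leaf 0x88888) (.leaf 0x88888))))) (.node 8 (.node 4 (.node 2 (.node 1 (.leaf 0x88888) (.leaf 0x88888)) (.node 1 (.leaf 0x88888) (.leaf 0x88888))) (.node 2 (.node 1 (.leaf 0x88888) (.leaf 0x88888)) (.node 1 (.leaf 0x88888) (.leaf 0x88888)))) (.node 4 (.node 2 (.node 1 (.leaf 0x88888) (.leaf 0x88888)) (.node 1 (.leaf 0x88888) (.leaf 0x88888))) (.node 2 (.node 1 (.leaf 0x88888) (.leaf 0x88888)) (.node 1 (.leaf 0x88888) (.leaf 0x88888)))))))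

/-- Table data. -/
def tabVB_1_2 : Tab :=
  (.node 32 (.node 16 (.node 8 (.node 4 (.node 2 (.node 1 (.leaf 0x88888) (.leaf 0x88888)) (.node 1 (.leaf 0x88888) (.leaf 0x88888))) (.node 2 (.node 1 (.leaf 0x88888) (.leaf 0x88888)) (.node 1 (.leaf 0x88888) (.leaf 0x88888)))) (.node 4 (.node 2 (.node 1 (.leaf 0x88888) (.leaf 0x88888)) (.node 1 (.leaf 0x88888) (.leaf 0x88888))) (.node 2 (.node 1 (.leaf 0x88888) (.leaf 0x88888)) (.node 1 (.leaf 0x88888) (.leaf 0x88888))))) (.node 8 (.node 4 (.node 2 (.node 1 (.leaf 0x88888) (.leaf 0x88888)) (.node 1 (.leaf 0x88888) (.leaf 0x88888))) (.node 2 (.node 1 (.leaf 0x88888) (.leaf 0x88888)) (.node 1 (.leaf 0x88888) (.leaf 0x88888)))) (.node 4 (.node 2 (.node 1 (.leaf 0x88888) (.leaf 0x88888)) (.node 1 (.leaf 0x88888) (.leaf 0x88888))) (.node 2 (.node 1 (.leaf 0x88888) (.leaf 0x88888)) (.node 1 (.leaf 0x88888) (.leaf 0x88888)))))) (.node 16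 (.node 8 (.node 4 (.node 2 (.node 1 (.leaf 0x88888) (.leaf 0x88888)) (.node 1 (.leaf 0x88888) (.leaf 0x88888))) (.node 2 (.node 1 (.leaf 0x88888) (.leaf 0x88888)) (.node 1 (.leaf 0x88888) (.leaf 0x88888)))) (.node 4 (.node 2 (.node 1 (.leaf 0x88888) (.leaf 0x88888)) (.node 1 (.leaf 0x88888) (.leaf 0x88888))) (.node 2 (.node 1 (.leaf 0x88888) (.leaf 0x88888)) (.node 1 (.leaf 0x88888) (.leaf 0x88888))))) (.node 8 (.node 4 (.node 2 (.node 1 (.leaf 0x88888) (.leaf 0x88888)) (.node 1 (.leaf 0x88888) (.leaf 0x88888))) (.node 2 (.node 1 (.leaf 0x88888) (.leaf 0x88888)) (.node 1 (.leaf 0x88888) (.leaf 0x88888)))) (.node 4 (.node 2 (.node 1 (.leaf 0x88888) (.leaf 0x88888)) (.node 1 (.leaf 0x88888) (.leaf 0x88888))) (.node 2 (.node 1 (.leaf 0x88888) (.leaf 0x88888)) (.node 1 (.leaf 0x88888) (.leaf 0x88888)))))))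

/-- Table data. -/
def tabVB_1_3 : Tab :=
  (.node 32 (.node 16 (.node 8 (.node 4 (.node 2 (.node 1 (.leaf 0x88888) (.leaf 0x88888)) (.node 1 (.leaf 0x88888) (.leaf 0x88888))) (.node 2 (.node 1 (.leaf 0x88888) (.leaf 0x88888)) (.node 1 (.leaf 0x88888) (.leaf 0x88888)))) (.node 4 (.node 2 (.node 1 (.leaf 0x88888) (.leaf 0x88888)) (.node 1 (.leaf 0x88888) (.leaf 0x88888))) (.node 2 (.node 1 (.leaf 0x88888) (.leaf 0x88888)) (.node 1 (.leaf 0x88888) (.leaf 0x88888))))) (.node 8 (.node 4 (.node 2 (.node 1 (.leaf 0x88888) (.leaf 0x88888)) (.node 1 (.leaf 0x88888) (.leaf 0x88888))) (.node 2 (.node 1 (.leaf 0x88888) (.leaf 0x88888)) (.node 1 (.leaf 0x88888) (.leaf 0x88888)))) (.node 4 (.node 2 (.node 1 (.leaf 0x88888) (.leaf 0x88888)) (.node 1 (.leaf 0x88888) (.leaf 0x88888))) (.node 2 (.node 1 (.leaf 0x88888) (.leaf 0x88888)) (.node 1 (.leaf 0x88888) (.leaf 0x88888)))))) (.node 16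 (.node 8 (.node 4 (.node 2 (.node 1 (.leaf 0x88888) (.leaf 0x88888)) (.node 1 (.leaf 0x88888) (.leaf 0x88888))) (.node 2 (.node 1 (.leaf 0x88888) (.leaf 0x88888)) (.node 1 (.leaf 0x88888) (.leaf 0x88888)))) (.node 4 (.node 2 (.node 1 (.leaf 0x88888) (.leaf 0x88888)) (.node 1 (.leaf 0x88888) (.leaf 0x88888))) (.node 2 (.node 1 (.leaf 0x88888) (.leaf 0x88888)) (.node 1 (.leaf 0x88888) (.leaf 0x88888))))) (.node 8 (.node 4 (.node 2 (.node 1 (.leaf 0x88888) (.leaf 0x88888)) (.node 1 (.leaf 0x88888) (.leaf 0x88888))) (.node 2 (.node 1 (.leaf 0x88888) (.leaf 0x88888)) (.node 1 (.leaf 0x88888) (.leaf 0x88888)))) (.node 4 (.node 2 (.node 1 (.leaf 0x88888) (.leaf 0x88888)) (.node 1 (.leaf 0x88888) (.leaf 0x88888))) (.node 2 (.node 1 (.leaf 0x88888) (.leaf 0x88888)) (.node 1 (.leaf 0x88888) (.leaf 0x88888)))))))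

/-- Table data. -/
def tabVB_1_4 : Tab :=
  (.node 32 (.node 16 (.node 8 (.node 4 (.node 2 (.node 1 (.leaf 0x88888) (.leaf 0x88888)) (.node 1 (.leaf 0x88888) (.leaf 0x88888))) (.node 2 (.node 1 (.leaf 0x88888) (.leaf 0x88888)) (.node 1 (.leaf 0x88888) (.leaf 0x88888)))) (.node 4 (.node 2 (.node 1 (.leaf 0x88888) (.leaf 0x88888)) (.node 1 (.leaf 0x88888) (.leaf 0x88888))) (.node 2 (.node 1 (.leaf 0x88888) (.leaf 0x88888)) (.node 1 (.leaf 0x88888) (.leaf 0x88888))))) (.node 8 (.node 4 (.node 2 (.node 1 (.leaf 0x88888) (.leaf 0x88888)) (.node 1 (.leaf 0x88888) (.leaf 0x88888))) (.node 2 (.node 1 (.leaf 0x88888) (.leaf 0x88888)) (.node 1 (.leaf 0x88888) (.leaf 0x88888)))) (.node 4 (.node 2 (.node 1 (.leaf 0x88888) (.leaf 0x88888)) (.node 1 (.leaf 0x88888) (.leaf 0x88888))) (.node 2 (.node 1 (.leaf 0x88888) (.leaf 0x88888)) (.node 1 (.leaf 0x88888) (.leaf 0x88888)))))) (.node 16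 (.node 8 (.node 4 (.node 2 (.node 1 (.leaf 0x88888) (.leaf 0x88888)) (.node 1 (.leaf 0x88888) (.leaf 0x88888))) (.node 2 (.node 1 (.leaf 0x88888) (.leaf 0x88888)) (.node 1 (.leaf 0x88888) (.leaf 0x88888)))) (.node 4 (.node 2 (.node 1 (.leaf 0x88888) (.leaf 0x88888)) (.node 1 (.leaf 0x88888) (.leaf 0x88888))) (.node 2 (.node 1 (.leaf 0x88888) (.leaf 0x88888)) (.node 1 (.leaf 0x88888) (.leaf 0x88888))))) (.node 8 (.node 4 (.node 2 (.node 1 (.leaf 0x88888) (.leaf 0x88888)) (.node 1 (.leaf 0x88888) (.leaf 0x88888))) (.node 2 (.node 1 (.leaf 0x88888) (.leaf 0x88888)) (.node 1 (.leaf 0x88888) (.leaf 0x88888)))) (.node 4 (.node 2 (.node 1 (.leaf 0x88888) (.leaf 0x88888)) (.node 1 (.leaf 0x88888) (.leaf 0x88888))) (.node 2 (.node 1 (.leaf 0x88888) (.leaf 0x88888)) (.node 1 (.leaf 0x88888) (.leaf 0x88888)))))))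

/-- Table data. -/
def tabVB_1_5 : Tab :=
  (.node 32 (.node 16 (.node 8 (.node 4 (.node 2 (.node 1 (.leaf 0x88888) (.leaf 0x88888)) (.node 1 (.leaf 0x88888) (.leaf 0x88888))) (.node 2 (.node 1 (.leaf 0x88888) (.leaf 0x88888)) (.node 1 (.leaf 0x88888) (.leaf 0x88888)))) (.node 4 (.node 2 (.node 1 (.leaf 0x88888) (.leaf 0x88888)) (.node 1 (.leaf 0x88888) (.leaf 0x88888))) (.node 2 (.node 1 (.leaf 0x88888) (.leaf 0x88888)) (.node 1 (.leaf 0x88888) (.leaf 0x88888))))) (.node 8 (.node 4 (.node 2 (.node 1 (.leaf 0x88888) (.leaf 0x88888)) (.node 1 (.leaf 0x88888) (.leaf 0x88888))) (.node 2 (.node 1 (.leaf 0x88888) (.leaf 0x88888)) (.node 1 (.leaf 0x88888) (.leaf 0x88888)))) (.node 4 (.node 2 (.node 1 (.leaf 0x88888) (.leaf 0x88888)) (.node 1 (.leaf 0x88888) (.leaf 0x88888))) (.node 2 (.node 1 (.leaf 0x88888) (.leaf 0x88888)) (.node 1 (.leaf 0x88888) (.leaf 0x88888)))))) (.node 16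 (.node 8 (.node 4 (.node 2 (.node 1 (.leaf 0x88888) (.leaf 0x88888)) (.node 1 (.leaf 0x88888) (.leaf 0x88888))) (.node 2 (.node 1 (.leaf 0x88888) (.leaf 0x88888)) (.node 1 (.leaf 0x88888) (.leaf 0x88888)))) (.node 4 (.node 2 (.node 1 (.leaf 0x88888) (.leaf 0x88888)) (.node 1 (.leaf 0x88888) (.leaf 0x88888))) (.node 2 (.node 1 (.leaf 0x88888) (.leaf 0x88888)) (.node 1 (.leaf 0x88888) (.leaf 0x88888))))) (.node 8 (.node 4 (.node 2 (.node 1 (.leaf 0x88888) (.leaf 0x88888)) (.node 1 (.leaf 0x88888) (.leaf 0x88888))) (.node 2 (.node 1 (.leaf 0x88888) (.leaf 0x88888)) (.node 1 (.leaf 0x88888) (.leaf 0x88888)))) (.node 4 (.node 2 (.node 1 (.leaf 0x88888) (.leaf 0x88888)) (.node 1 (.leaf 0x88888) (.leaf 0x88888))) (.node 2 (.node 1 (.leaf 0x88888) (.leaf 0x88888)) (.node 1 (.leaf 0x88888) (.leaf 0x88888)))))))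

/-- Table data. -/
def tabVB_1_6 : Tab :=
  (.node 32 (.node 16 (.node 8 (.node 4 (.node 2 (.node 1 (.leaf 0x88888) (.leaf 0x88888)) (.node 1 (.leaf 0x88888) (.leaf 0x88888))) (.node 2 (.node 1 (.leaf 0x88888) (.leaf 0x88888)) (.node 1 (.leaf 0x88888) (.leaf 0x88888)))) (.node 4 (.node 2 (.node 1 (.leaf 0x88888) (.leaf 0x88888)) (.node 1 (.leaf 0x88888) (.leaf 0x88888))) (.node 2 (.node 1 (.leaf 0x88888) (.leaf 0x88888)) (.node 1 (.leaf 0x88888) (.leaf 0x88888))))) (.node 8 (.node 4 (.node 2 (.node 1 (.leaf 0x88888) (.leaf 0x88888)) (.node 1 (.leaf 0x88888) (.leaf 0x88888))) (.node 2 (.node 1 (.leaf 0x88888) (.leaf 0x88888)) (.node 1 (.leaf 0x88888) (.leaf 0x88888)))) (.node 4 (.node 2 (.node 1 (.leaf 0x88888) (.leaf 0x88888)) (.node 1 (.leaf 0x88888) (.leaf 0x88888))) (.node 2 (.node 1 (.leaf 0x88888) (.leaf 0x88888)) (.node 1 (.leaf 0x88888) (.leaf 0x88888)))))) (.node 16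 (.node 8 (.node 4 (.node 2 (.node 1 (.leaf 0x88888) (.leaf 0x88888)) (.node 1 (.leaf 0x88888) (.leaf 0x88888))) (.node 2 (.node 1 (.leaf 0x88888) (.leaf 0x88888)) (.node 1 (.leaf 0x88888) (.leaf 0x88888)))) (.node 4 (.node 2 (.node 1 (.leaf 0x88888) (.leaf 0x88888)) (.node 1 (.leaf 0x88888) (.leaf 0x88888))) (.node 2 (.node 1 (.leaf 0x88888) (.leaf 0x88888)) (.node 1 (.leaf 0x88888) (.leaf 0x88888))))) (.node 8 (.node 4 (.node 2 (.node 1 (.leaf 0x88888) (.leaf 0x88888)) (.node 1 (.leaf 0x88888) (.leaf 0x88888))) (.node 2 (.node 1 (.leaf 0x88888) (.leaf 0x88888)) (.node 1 (.leaf 0x88888) (.leaf 0x88888)))) (.node 4 (.node 2 (.node 1 (.leaf 0x88888) (.leaf 0x88888)) (.node 1 (.leaf 0x88888) (.leaf 0x88888))) (.node 2 (.node 1 (.leaf 0x88888) (.leaf 0x88888)) (.node 1 (.leaf 0x88888) (.leaf 0x88888)))))))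

/-- Table data. -/
def tabVB_1_7 : Tab :=
  (.node 32 (.node 16 (.node 8 (.node 4 (.node 2 (.node 1 (.leaf 0x88888) (.leaf 0x88888)) (.node 1 (.leaf 0x88888) (.leaf 0x88888))) (.node 2 (.node 1 (.leaf 0x88888) (.leaf 0x88888)) (.node 1 (.leaf 0x88888) (.leaf 0x88888)))) (.node 4 (.node 2 (.node 1 (.leaf 0x88888) (.leaf 0x88888)) (.node 1 (.leaf 0x88888) (.leaf 0x88888))) (.node 2 (.node 1 (.leaf 0x88888) (.leaf 0x88888)) (.node 1 (.leaf 0x88888) (.leaf 0x88888))))) (.node 8 (.node 4 (.node 2 (.node 1 (.leaf 0x88888) (.leaf 0x88888)) (.node 1 (.leaf 0x88888) (.leaf 0x88888))) (.node 2 (.node 1 (.leaf 0x88888) (.leaf 0x88888)) (.node 1 (.leaf 0x88888) (.leaf 0x88888)))) (.node 4 (.node 2 (.node 1 (.leaf 0x88888) (.leaf 0x88888)) (.node 1 (.leaf 0x88888) (.leaf 0x88888))) (.node 2 (.node 1 (.leaf 0x88888) (.leaf 0x88888)) (.node 1 (.leaf 0x88888) (.leaf 0x88888)))))) (.node 16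 (.node 8 (.node 4 (.node 2 (.node 1 (.leaf 0x88888) (.leaf 0x88888)) (.node 1 (.leaf 0x88888) (.leaf 0x88888))) (.node 2 (.node 1 (.leaf 0x88888) (.leaf 0x88888)) (.node 1 (.leaf 0x88888) (.leaf 0x88888)))) (.node 4 (.node 2 (.node 1 (.leaf 0x88888) (.leaf 0x88888)) (.node 1 (.leaf 0x88888) (.leaf 0x88888))) (.node 2 (.node 1 (.leaf 0x88888) (.leaf 0x88888)) (.node 1 (.leaf 0x88888) (.leaf 0x88888))))) (.node 8 (.node 4 (.node 2 (.node 1 (.leaf 0x88888) (.leaf 0x88888)) (.node 1 (.leaf 0x88888) (.leaf 0x88888))) (.node 2 (.node 1 (.leaf 0x88888) (.leaf 0x88888)) (.node 1 (.leaf 0x88888) (.leaf 0x88888)))) (.node 4 (.node 2 (.node 1 (.leaf 0x88888) (.leaf 0x88888)) (.node 1 (.leaf 0x88888) (.leaf 0x88888))) (.node 2 (.node 1 (.leaf 0x88888) (.leaf 0x88888)) (.node 1 (.leaf 0x88888) (.leaf 0x88888)))))))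

/-- Table data. -/
def tabVB_1_8 : Tab :=
  (.node 32 (.node 16 (.node 8 (.node 4 (.node 2 (.node 1 (.leaf 0x88888) (.leaf 0x88888)) (.node 1 (.leaf 0x88888) (.leaf 0x88888))) (.node 2 (.node 1 (.leaf 0x88888) (.leaf 0x88888)) (.node 1 (.leaf 0x88888) (.leaf 0x88888)))) (.node 4 (.node 2 (.node 1 (.leaf 0x88888) (.leaf 0x88888)) (.node 1 (.leaf 0x88888) (.leaf 0x88888))) (.node 2 (.node 1 (.leaf 0x88888) (.leaf 0x88888)) (.node 1 (.leaf 0x88888) (.leaf 0x88888))))) (.node 8 (.node 4 (.node 2 (.node 1 (.leaf 0x88888) (.leaf 0x88888)) (.node 1 (.leaf 0x88888) (.leaf 0x88888))) (.node 2 (.node 1 (.leaf 0x88888) (.leaf 0x88888)) (.node 1 (.leaf 0x88888) (.leaf 0x88888)))) (.node 4 (.node 2 (.node 1 (.leaf 0x88888) (.leaf 0x88888)) (.node 1 (.leaf 0x88888) (.leaf 0x88888))) (.node 2 (.node 1 (.leaf 0x88888) (.leaf 0x88888)) (.node 1 (.leaf 0x88888) (.leaf 0x88888)))))) (.node 16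 (.node 8 (.node 4 (.node 2 (.node 1 (.leaf 0x88888) (.leaf 0x88888)) (.node 1 (.leaf 0x88888) (.leaf 0x88888))) (.node 2 (.node 1 (.leaf 0x88888) (.leaf 0x88888)) (.node 1 (.leaf 0x88888) (.leaf 0x88888)))) (.node 4 (.node 2 (.node 1 (.leaf 0x88888) (.leaf 0x88888)) (.node 1 (.leaf 0x88888) (.leaf 0x88888))) (.node 2 (.node 1 (.leaf 0x88888) (.leaf 0x88888)) (.node 1 (.leaf 0x88888) (.leaf 0x88888))))) (.node 8 (.node 4 (.node 2 (.node 1 (.leaf 0x88888) (.leaf 0x88888)) (.node 1 (.leaf 0x88888) (.leaf 0x88888))) (.node 2 (.node 1 (.leaf 0x88888) (.leaf 0x88888)) (.node 1 (.leaf 0x88888) (.leaf 0x88888)))) (.node 4 (.node 2 (.node 1 (.leaf 0x88888) (.leaf 0x88888)) (.node 1 (.leaf 0x88888) (.leaf 0x88888))) (.node 2 (.node 1 (.leaf 0x88888) (.leaf 0x88888)) (.node 1 (.leaf 0x88888) (.leaf 0x88888)))))))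

/-- Table data. -/
def tabVB_1_9 : Tab :=
  (.node 32 (.node 16 (.node 8 (.node 4 (.node 2 (.node 1 (.leaf 0x88888) (.leaf 0x88888)) (.node 1 (.leaf 0x88888) (.leaf 0x88888))) (.node 2 (.node 1 (.leaf 0x88888) (.leaf 0x88888)) (.node 1 (.leaf 0x88888) (.leaf 0x88888)))) (.node 4 (.node 2 (.node 1 (.leaf 0x88888) (.leaf 0x88888)) (.node 1 (.leaf 0x88888) (.leaf 0x88888))) (.node 2 (.node 1 (.leaf 0x88888) (.leaf 0x88888)) (.node 1 (.leaf 0x88888) (.leaf 0x88888))))) (.node 8 (.node 4 (.node 2 (.node 1 (.leaf 0x88888) (.leaf 0x88888)) (.node 1 (.leaf 0x88888) (.leaf 0x88888))) (.node 2 (.node 1 (.leaf 0x88888) (.leaf 0x88888)) (.node 1 (.leaf 0x88888) (.leaf 0x88888)))) (.node 4 (.node 2 (.node 1 (.leaf 0x88888) (.leaf 0x88888)) (.node 1 (.leaf 0x88888) (.leaf 0x88888))) (.node 2 (.node 1 (.leaf 0x88888) (.leaf 0x88888)) (.node 1 (.leaf 0x88888) (.leaf 0x88888)))))) (.node 16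 (.node 8 (.node 4 (.node 2 (.node 1 (.leaf 0x88888) (.leaf 0x88888)) (.node 1 (.leaf 0x88888) (.leaf 0x88888))) (.node 2 (.node 1 (.leaf 0x88888) (.leaf 0x88888)) (.node 1 (.leaf 0x88888) (.leaf 0x88888)))) (.node 4 (.node 2 (.node 1 (.leaf 0x88888) (.leaf 0x88888)) (.node 1 (.leaf 0x88888) (.leaf 0x88888))) (.node 2 (.node 1 (.leaf 0x88888) (.leaf 0x88888)) (.node 1 (.leaf 0x88888) (.leaf 0x88888))))) (.node 8 (.node 4 (.node 2 (.node 1 (.leaf 0x88888) (.leaf 0x88888)) (.node 1 (.leaf 0x88888) (.leaf 0x88888))) (.node 2 (.node 1 (.leaf 0x88888) (.leaf 0x88888)) (.node 1 (.leaf 0x88888) (.leaf 0x88888)))) (.node 4 (.node 2 (.node 1 (.leaf 0x88888) (.leaf 0x88888)) (.node 1 (.leaf 0x88888) (.leaf 0x88888))) (.node 2 (.node 1 (.leaf 0x88888) (.leaf 0x88888)) (.node 1 (.leaf 0x88888) (.leaf 0x88888)))))))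

/-- Table data. -/
def tabVB_1_10 : Tab :=
  (.node 32 (.node 16 (.node 8 (.node 4 (.node 2 (.node 1 (.leaf 0x88888) (.leaf 0x88888)) (.node 1 (.leaf 0x88888) (.leaf 0x88888))) (.node 2 (.node 1 (.leaf 0x88888) (.leaf 0x88888)) (.node 1 (.leaf 0x88888) (.leaf 0x88888)))) (.node 4 (.node 2 (.node 1 (.leaf 0x88888) (.leaf 0x88888)) (.node 1 (.leaf 0x88888) (.leaf 0x88888))) (.node 2 (.node 1 (.leaf 0x88888) (.leaf 0x88888)) (.node 1 (.leaf 0x88888) (.leaf 0x88888))))) (.node 8 (.node 4 (.node 2 (.node 1 (.leaf 0x88888) (.leaf 0x88888)) (.node 1 (.leaf 0x88888) (.leaf 0x88888))) (.node 2 (.node 1 (.leaf 0x88888) (.leaf 0x88888)) (.node 1 (.leaf 0x88888) (.leaf 0x88888)))) (.node 4 (.node 2 (.node 1 (.leaf 0x88888) (.leaf 0x88888)) (.node 1 (.leaf 0x88888) (.leaf 0x88888))) (.node 2 (.node 1 (.leaf 0x88888) (.leaf 0x88888)) (.node 1 (.leaf 0x88888) (.leaf 0x88888)))))) (.node 16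 (.node 8 (.node 4 (.node 2 (.node 1 (.leaf 0x88888) (.leaf 0x88888)) (.node 1 (.leaf 0x88888) (.leaf 0x88888))) (.node 2 (.node 1 (.leaf 0x88888) (.leaf 0x88888)) (.node 1 (.leaf 0x88888) (.leaf 0x88888)))) (.node 4 (.node 2 (.node 1 (.leaf 0x88888) (.leaf 0x88888)) (.node 1 (.leaf 0x88888) (.leaf 0x88888))) (.node 2 (.node 1 (.leaf 0x88888) (.leaf 0x88888)) (.node 1 (.leaf 0x88888) (.leaf 0x88888))))) (.node 8 (.node 4 (.node 2 (.node 1 (.leaf 0x88888) (.leaf 0x88888)) (.node 1 (.leaf 0x88888) (.leaf 0x88888))) (.node 2 (.node 1 (.leaf 0x88888) (.leaf 0x88888)) (.node 1 (.leaf 0x88888) (.leaf 0x88888)))) (.node 4 (.node 2 (.node 1 (.leaf 0x88888) (.leaf 0x88888)) (.node 1 (.leaf 0x88888) (.leaf 0x88888))) (.node 2 (.node 1 (.leaf 0x88888) (.leaf 0x88888)) (.node 1 (.leaf 0x88888) (.leaf 0x88888)))))))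

/-- Table data. -/
def tabVB_1_11 : Tab :=
  (.node 32 (.node 16 (.node 8 (.node 4 (.node 2 (.node 1 (.leaf 0x88888) (.leaf 0x88888)) (.node 1 (.leaf 0x88888) (.leaf 0x88888))) (.node 2 (.node 1 (.leaf 0x88888) (.leaf 0x88888)) (.node 1 (.leaf 0x88888) (.leaf 0x88888)))) (.node 4 (.node 2 (.node 1 (.leaf 0x88888) (.leaf 0x88888)) (.node 1 (.leaf 0x88888) (.leaf 0x88888))) (.node 2 (.node 1 (.leaf 0x88888) (.leaf 0x88888)) (.node 1 (.leaf 0x88888) (.leaf 0x88888))))) (.node 8 (.node 4 (.node 2 (.node 1 (.leaf 0x88888) (.leaf 0x88888)) (.node 1 (.leaf 0x88888) (.leaf 0x88888))) (.node 2 (.node 1 (.leaf 0x88888) (.leaf 0x88888)) (.node 1 (.leaf 0x88888) (.leaf 0x88888)))) (.node 4 (.node 2 (.node 1 (.leaf 0x88888) (.leaf 0x88888)) (.node 1 (.leaf 0x88888) (.leaf 0x88888))) (.node 2 (.node 1 (.leaf 0x88888) (.leaf 0x88888)) (.node 1 (.leaf 0x88888) (.leaf 0x88888)))))) (.node 16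 (.node 8 (.node 4 (.node 2 (.node 1 (.leaf 0x88888) (.leaf 0x88888)) (.node 1 (.leaf 0x88888) (.leaf 0x88888))) (.node 2 (.node 1 (.leaf 0x88888) (.leaf 0x88888)) (.node 1 (.leaf 0x88888) (.leaf 0x88888)))) (.node 4 (.node 2 (.node 1 (.leaf 0x88888) (.leaf 0x88888)) (.node 1 (.leaf 0x88888) (.leaf 0x88888))) (.node 2 (.node 1 (.leaf 0x88888) (.leaf 0x88888)) (.node 1 (.leaf 0x88888) (.leaf 0x88888))))) (.node 8 (.node 4 (.node 2 (.node 1 (.leaf 0x88888) (.leaf 0x88888)) (.node 1 (.leaf 0x88888) (.leaf 0x88888))) (.node 2 (.node 1 (.leaf 0x88888) (.leaf 0x88888)) (.node 1 (.leaf 0x88888) (.leaf 0x88888)))) (.node 4 (.node 2 (.node 1 (.leaf 0x88888) (.leaf 0x88888)) (.node 1 (.leaf 0x88888) (.leaf 0x88888))) (.node 2 (.node 1 (.leaf 0x88888) (.leaf 0x88888)) (.node 1 (.leaf 0x88888) (.leaf 0x88888)))))))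

/-- Table data. -/
def tabVB_1_12 : Tab :=
  (.node 32 (.node 16 (.node 8 (.node 4 (.node 2 (.node 1 (.leaf 0x88888) (.leaf 0x88888)) (.node 1 (.leaf 0x88888) (.leaf 0x88888))) (.node 2 (.node 1 (.leaf 0x88888) (.leaf 0x88888)) (.node 1 (.leaf 0x88888) (.leaf 0x88888)))) (.node 4 (.node 2 (.node 1 (.leaf 0x88888) (.leaf 0x88888)) (.node 1 (.leaf 0x88888) (.leaf 0x88888))) (.node 2 (.node 1 (.leaf 0x88888) (.leaf 0x88888)) (.node 1 (.leaf 0x88888) (.leaf 0x88888))))) (.node 8 (.node 4 (.node 2 (.node 1 (.leaf 0x88888) (.leaf 0x88888)) (.node 1 (.leaf 0x88888) (.leaf 0x88888))) (.node 2 (.node 1 (.leaf 0x88888) (.leaf 0x88888)) (.node 1 (.leaf 0x88888) (.leaf 0x88888)))) (.node 4 (.node 2 (.node 1 (.leaf 0x88888) (.leaf 0x88888)) (.node 1 (.leaf 0x88888) (.leaf 0x88888))) (.node 2 (.node 1 (.leaf 0x88888) (.leaf 0x88888)) (.node 1 (.leaf 0x88888) (.leaf 0x88888)))))) (.node 16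 (.node 8 (.node 4 (.node 2 (.node 1 (.leaf 0x88888) (.leaf 0x88888)) (.node 1 (.leaf 0x88888) (.leaf 0x88888))) (.node 2 (.node 1 (.leaf 0x88888) (.leaf 0x88888)) (.node 1 (.leaf 0x88888) (.leaf 0x88888)))) (.node 4 (.node 2 (.node 1 (.leaf 0x88888) (.leaf 0x88888)) (.node 1 (.leaf 0x88888) (.leaf 0x88888))) (.node 2 (.node 1 (.leaf 0x88888) (.leaf 0x88888)) (.node 1 (.leaf 0x88888) (.leaf 0x88888))))) (.node 8 (.node 4 (.node 2 (.node 1 (.leaf 0x88888) (.leaf 0x88888)) (.node 1 (.leaf 0x88888) (.leaf 0x88888))) (.node 2 (.node 1 (.leaf 0x88888) (.leaf 0x88888)) (.node 1 (.leaf 0x88888) (.leaf 0x88888)))) (.node 4 (.node 2 (.node 1 (.leaf 0x88888) (.leaf 0x88888)) (.node 1 (.leaf 0x88888) (.leaf 0x88888))) (.node 2 (.node 1 (.leaf 0x88888) (.leaf 0x88888)) (.node 1 (.leaf 0x88888) (.leaf 0x88888)))))))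

/-- Table data. -/
def tabVB_1_13 : Tab :=
  (.node 32 (.node 16 (.node 8 (.node 4 (.node 2 (.node 1 (.leaf 0x88888) (.leaf 0x88888)) (.node 1 (.leaf 0x88888) (.leaf 0x88888))) (.node 2 (.node 1 (.leaf 0x88888) (.leaf 0x88888)) (.node 1 (.leaf 0x88888) (.leaf 0x88888)))) (.node 4 (.node 2 (.node 1 (.leaf 0x88888) (.leaf 0x88888)) (.node 1 (.leaf 0x88888) (.leaf 0x88888))) (.node 2 (.node 1 (.leaf 0x88888) (.leaf 0x88888)) (.node 1 (.leaf 0x88888) (.leaf 0x88888))))) (.node 8 (.node 4 (.node 2 (.node 1 (.leaf 0x88888) (.leaf 0x88888)) (.node 1 (.leaf 0x88888) (.leaf 0x88888))) (.node 2 (.node 1 (.leaf 0x88888) (.leaf 0x88888)) (.node 1 (.leaf 0x88888) (.leaf 0x88888)))) (.node 4 (.node 2 (.node 1 (.leaf 0x88888) (.leaf 0x88888)) (.node 1 (.leaf 0x88888) (.leaf 0x88888))) (.node 2 (.node 1 (.leaf 0x88888) (.leaf 0x88888)) (.node 1 (.leaf 0x88888) (.leaf 0x88888)))))) (.node 16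 (.node 8 (.node 4 (.node 2 (.node 1 (.leaf 0x88888) (.leaf 0x88888)) (.node 1 (.leaf 0x88888) (.leaf 0x88888))) (.node 2 (.node 1 (.leaf 0x88888) (.leaf 0x88888)) (.node 1 (.leaf 0x88888) (.leaf 0x88888)))) (.node 4 (.node 2 (.node 1 (.leaf 0x88888) (.leaf 0x88888)) (.node 1 (.leaf 0x88888) (.leaf 0x88888))) (.node 2 (.node 1 (.leaf 0x88888) (.leaf 0x88888)) (.node 1 (.leaf 0x88888) (.leaf 0x88888))))) (.node 8 (.node 4 (.node 2 (.node 1 (.leaf 0x88888) (.leaf 0x88888)) (.node 1 (.leaf 0x88888) (.leaf 0x88888))) (.node 2 (.node 1 (.leaf 0x88888) (.leaf 0x88888)) (.node 1 (.leaf 0x88888) (.leaf 0x88888)))) (.node 4 (.node 2 (.node 1 (.leaf 0x88888) (.leaf 0x88888)) (.node 1 (.leaf 0x88888) (.leaf 0x88888))) (.node 2 (.node 1 (.leaf 0x88888) (.leaf 0x88888)) (.node 1 (.leaf 0x88888) (.leaf 0x88888)))))))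

/-- Table data. -/
def tabVB_1_14 : Tab :=
  (.node 32 (.node 16 (.node 8 (.node 4 (.node 2 (.node 1 (.leaf 0x88888) (.leaf 0x88888)) (.node 1 (.leaf 0x88888) (.leaf 0x88888))) (.node 2 (.node 1 (.leaf 0x88888) (.leaf 0x88888)) (.node 1 (.leaf 0x88888) (.leaf 0x88888)))) (.node 4 (.node 2 (.node 1 (.leaf 0x88888) (.leaf 0x88888)) (.node 1 (.leaf 0x88888) (.leaf 0x88888))) (.node 2 (.node 1 (.leaf 0x88888) (.leaf 0x88888)) (.node 1 (.leaf 0x88888) (.leaf 0x88888))))) (.node 8 (.node 4 (.node 2 (.node 1 (.leaf 0x88888) (.leaf 0x88888)) (.node 1 (.leaf 0x88888) (.leaf 0x88888))) (.node 2 (.node 1 (.leaf 0x88888) (.leaf 0x88888)) (.node 1 (.leaf 0x88888) (.leaf 0x88888)))) (.node 4 (.node 2 (.node 1 (.leaf 0x88888) (.leaf 0x88888)) (.node 1 (.leaf 0x88888) (.leaf 0x88888))) (.node 2 (.node 1 (.leaf 0x88888) (.leaf 0x88888)) (.node 1 (.leaf 0x88888) (.leaf 0x88888)))))) (.node 16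 (.node 8 (.node 4 (.node 2 (.node 1 (.leaf 0x88888) (.leaf 0x88888)) (.node 1 (.leaf 0x88888) (.leaf 0x88888))) (.node 2 (.node 1 (.leaf 0x88888) (.leaf 0x88888)) (.node 1 (.leaf 0x88888) (.leaf 0x88888)))) (.node 4 (.node 2 (.node 1 (.leaf 0x88888) (.leaf 0x88888)) (.node 1 (.leaf 0x88888) (.leaf 0x88888))) (.node 2 (.node 1 (.leaf 0x88888) (.leaf 0x88888)) (.node 1 (.leaf 0x88888) (.leaf 0x88888))))) (.node 8 (.node 4 (.node 2 (.node 1 (.leaf 0x88888) (.leaf 0x88888)) (.node 1 (.leaf 0x88888) (.leaf 0x88888))) (.node 2 (.node 1 (.leaf 0x88888) (.leaf 0x88888)) (.node 1 (.leaf 0x88888) (.leaf 0x88888)))) (.node 4 (.node 2 (.node 1 (.leaf 0x88888) (.leaf 0x88888)) (.node 1 (.leaf 0x88888) (.leaf 0x88888))) (.node 2 (.node 1 (.leaf 0x88888) (.leaf 0x88888)) (.node 1 (.leaf 0x88888) (.leaf 0x88888)))))))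

/-- Table data. -/
def tabVB_1_15 : Tab :=
  (.node 32 (.node 16 (.node 8 (.node 4 (.node 2 (.node 1 (.leaf 0x88888) (.leaf 0x88888)) (.node 1 (.leaf 0x88888) (.leaf 0x88888))) (.node 2 (.node 1 (.leaf 0x88888) (.leaf 0x88888)) (.node 1 (.leaf 0x88888) (.leaf 0x88888)))) (.node 4 (.node 2 (.node 1 (.leaf 0x88888) (.leaf 0x88888)) (.node 1 (.leaf 0x88888) (.leaf 0x88888))) (.node 2 (.node 1 (.leaf 0x88888) (.leaf 0x88888)) (.node 1 (.leaf 0x88888) (.leaf 0x88888))))) (.node 8 (.node 4 (.node 2 (.node 1 (.leaf 0x88888) (.leaf 0x88888)) (.node 1 (.leaf 0x88888) (.leaf 0x88888))) (.node 2 (.node 1 (.leaf 0x88888) (.leaf 0x88888)) (.node 1 (.leaf 0x88888) (.leaf 0x88888)))) (.node 4 (.node 2 (.node 1 (.leaf 0x88888) (.leaf 0x88888)) (.node 1 (.leaf 0x88888) (.leaf 0x88888))) (.node 2 (.node 1 (.leaf 0x88888) (.leaf 0x88888)) (.node 1 (.leaf 0x88888) (.leaf 0x88888)))))) (.node 16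 (.node 8 (.node 4 (.node 2 (.node 1 (.leaf 0x88888) (.leaf 0x88888)) (.node 1 (.leaf 0x88888) (.leaf 0x88888))) (.node 2 (.node 1 (.leaf 0x88888) (.leaf 0x88888)) (.node 1 (.leaf 0x88888) (.leaf 0x88888)))) (.node 4 (.node 2 (.node 1 (.leaf 0x88888) (.leaf 0x88888)) (.node 1 (.leaf 0x88888) (.leaf 0x88888))) (.node 2 (.node 1 (.leaf 0x88888) (.leaf 0x88888)) (.node 1 (.leaf 0x88888) (.leaf 0x88888))))) (.node 8 (.node 4 (.node 2 (.node 1 (.leaf 0x88888) (.leaf 0x88888)) (.node 1 (.leaf 0x88888) (.leaf 0x88888))) (.node 2 (.node 1 (.leaf 0x88888) (.leaf 0x88888)) (.node 1 (.leaf 0x88888) (.leaf 0x88888)))) (.node 4 (.node 2 (.node 1 (.leaf 0x88888) (.leaf 0x88888)) (.node 1 (.leaf 0x88888) (.leaf 0x88888))) (.node 2 (.node 1 (.leaf 0x88888) (.leaf 0x88888)) (.node 1 (.leaf 0x88888) (.leaf 0x88888)))))))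

/-- Table data. -/
def tabVB_1_16 : Tab :=
  (.node 32 (.node 16 (.node 8 (.node 4 (.node 2 (.node 1 (.leaf 0x88888) (.leaf 0x88888)) (.node 1 (.leaf 0x88888) (.leaf 0x88888))) (.node 2 (.node 1 (.leaf 0x88888) (.leaf 0x88888)) (.node 1 (.leaf 0x88888) (.leaf 0x88888)))) (.node 4 (.node 2 (.node 1 (.leaf 0x88888) (.leaf 0x88888)) (.node 1 (.leaf 0x88888) (.leaf 0x88888))) (.node 2 (.node 1 (.leaf 0x88888) (.leaf 0x88888)) (.node 1 (.leaf 0x88888) (.leaf 0x88888))))) (.node 8 (.node 4 (.node 2 (.node 1 (.leaf 0x88888) (.leaf 0x88888)) (.node 1 (.leaf 0x88888) (.leaf 0x88888))) (.node 2 (.node 1 (.leaf 0x88888) (.leaf 0x88888)) (.node 1 (.leaf 0x88888) (.leaf 0x88888)))) (.node 4 (.node 2 (.node 1 (.leaf 0x88888) (.leaf 0x88888)) (.node 1 (.leaf 0x88888) (.leaf 0x88888))) (.node 2 (.node 1 (.leaf 0x88888) (.leaf 0x88888)) (.node 1 (.leaf 0x88888) (.leaf 0x88888)))))) (.node 16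 (.node 8 (.node 4 (.node 2 (.node 1 (.leaf 0x88888) (.leaf 0x88888)) (.node 1 (.leaf 0x88888) (.leaf 0x88888))) (.node 2 (.node 1 (.leaf 0x88888) (.leaf 0x88888)) (.node 1 (.leaf 0x88888) (.leaf 0x88888)))) (.node 4 (.node 2 (.node 1 (.leaf 0x88888) (.leaf 0x88888)) (.node 1 (.leaf 0x88888) (.leaf 0x88888))) (.node 2 (.node 1 (.leaf 0x88888) (.leaf 0x88888)) (.node 1 (.leaf 0x88888) (.leaf 0x88888))))) (.node 8 (.node 4 (.node 2 (.node 1 (.leaf 0x88888) (.leaf 0x88888)) (.node 1 (.leaf 0x88888) (.leaf 0x88888))) (.node 2 (.node 1 (.leaf 0x88888) (.leaf 0x88888)) (.node 1 (.leaf 0x88888) (.leaf 0x88888)))) (.node 4 (.node 2 (.node 1 (.leaf 0x88888) (.leaf 0x88888)) (.node 1 (.leaf 0x88888) (.leaf 0x88888))) (.node 2 (.node 1 (.leaf 0x88888) (.leaf 0x88888)) (.node 1 (.leaf 0x88888) (.leaf 0x88888)))))))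

/-- Table data. -/
def tabVB_1_17 : Tab :=
  (.node 32 (.node 16 (.node 8 (.node 4 (.node 2 (.node 1 (.leaf 0x88888) (.leaf 0x88888)) (.node 1 (.leaf 0x88888) (.leaf 0x88888))) (.node 2 (.node 1 (.leaf 0x88888) (.leaf 0x88888)) (.node 1 (.leaf 0x88888) (.leaf 0x88888)))) (.node 4 (.node 2 (.node 1 (.leaf 0x88888) (.leaf 0x88888)) (.node 1 (.leaf 0x88888) (.leaf 0x88888))) (.node 2 (.node 1 (.leaf 0x88888) (.leaf 0x88888)) (.node 1 (.leaf 0x88888) (.leaf 0x88888))))) (.node 8 (.node 4 (.node 2 (.node 1 (.leaf 0x88888) (.leaf 0x88888)) (.node 1 (.leaf 0x88888) (.leaf 0x88888))) (.node 2 (.node 1 (.leaf 0x88888) (.leaf 0x88888)) (.node 1 (.leaf 0x88888) (.leaf 0x88888)))) (.node 4 (.node 2 (.node 1 (.leaf 0x88888) (.leaf 0x88888)) (.node 1 (.leaf 0x88888) (.leaf 0x88888))) (.node 2 (.node 1 (.leaf 0x88888) (.leaf 0x88888)) (.node 1 (.leaf 0x88888) (.leaf 0x88888)))))) (.node 16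 (.node 8 (.node 4 (.node 2 (.node 1 (.leaf 0x88888) (.leaf 0x88888)) (.node 1 (.leaf 0x88888) (.leaf 0x88888))) (.node 2 (.node 1 (.leaf 0x88888) (.leaf 0x88888)) (.node 1 (.leaf 0x88888) (.leaf 0x88888)))) (.node 4 (.node 2 (.node 1 (.leaf 0x88888) (.leaf 0x88888)) (.node 1 (.leaf 0x88888) (.leaf 0x88888))) (.node 2 (.node 1 (.leaf 0x88888) (.leaf 0x88888)) (.node 1 (.leaf 0x88888) (.leaf 0x88888))))) (.node 8 (.node 4 (.node 2 (.node 1 (.leaf 0x88888) (.leaf 0x88888)) (.node 1 (.leaf 0x88888) (.leaf 0x88888))) (.node 2 (.node 1 (.leaf 0x88888) (.leaf 0x88888)) (.node 1 (.leaf 0x88888) (.leaf 0x88888)))) (.node 4 (.node 2 (.node 1 (.leaf 0x88888) (.leaf 0x88888)) (.node 1 (.leaf 0x88888) (.leaf 0x88888))) (.node 2 (.node 1 (.leaf 0x88888) (.leaf 0x88888)) (.node 1 (.leaf 0x88888) (.leaf 0x88888)))))))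

/-- Table data. -/
def tabVB_1_18 : Tab :=
  (.node 32 (.node 16 (.node 8 (.node 4 (.node 2 (.node 1 (.leaf 0x88888) (.leaf 0x88888)) (.node 1 (.leaf 0x88888) (.leaf 0x88888))) (.node 2 (.node 1 (.leaf 0x88888) (.leaf 0x88888)) (.node 1 (.leaf 0x88888) (.leaf 0x88888)))) (.node 4 (.node 2 (.node 1 (.leaf 0x88888) (.leaf 0x88888)) (.node 1 (.leaf 0x88888) (.leaf 0x88888))) (.node 2 (.node 1 (.leaf 0x88888) (.leaf 0x88888)) (.node 1 (.leaf 0x88888) (.leaf 0x88888))))) (.node 8 (.node 4 (.node 2 (.node 1 (.leaf 0x88888) (.leaf 0x88888)) (.node 1 (.leaf 0x88888) (.leaf 0x88888))) (.node 2 (.node 1 (.leaf 0x88888) (.leaf 0x88888)) (.node 1 (.leaf 0x88888) (.leaf 0x88888)))) (.node 4 (.node 2 (.node 1 (.leaf 0x88888) (.leaf 0x88888)) (.node 1 (.leaf 0x88888) (.leaf 0x88888))) (.node 2 (.node 1 (.leaf 0x88888) (.leaf 0x88888)) (.node 1 (.leaf 0x88888) (.leaf 0x88888)))))) (.node 16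 (.node 8 (.node 4 (.node 2 (.node 1 (.leaf 0x88888) (.leaf 0x88888)) (.node 1 (.leaf 0x88888) (.leaf 0x88888))) (.node 2 (.node 1 (.leaf 0x88888) (.leaf 0x88888)) (.node 1 (.leaf 0x88888) (.leaf 0x88888)))) (.node 4 (.node 2 (.node 1 (.leaf 0x88888) (.leaf 0x88888)) (.node 1 (.leaf 0x88888) (.leaf 0x88888))) (.node 2 (.node 1 (.leaf 0x88888) (.leaf 0x88888)) (.node 1 (.leaf 0x88888) (.leaf 0x88888))))) (.node 8 (.node 4 (.node 2 (.node 1 (.leaf 0x88888) (.leaf 0x88888)) (.node 1 (.leaf 0x88888) (.leaf 0x88888))) (.node 2 (.node 1 (.leaf 0x88888) (.leaf 0x88888)) (.node 1 (.leaf 0x88888) (.leaf 0x88888)))) (.node 4 (.node 2 (.node 1 (.leaf 0x88888) (.leaf 0x88888)) (.node 1 (.leaf 0x88888) (.leaf 0x88888))) (.node 2 (.node 1 (.leaf 0x88888) (.leaf 0x88888)) (.node 1 (.leaf 0x88888) (.leaf 0x88888)))))))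

/-- Table data. -/
def tabVB_1_19 : Tab :=
  (.node 32 (.node 16 (.node 8 (.node 4 (.node 2 (.node 1 (.leaf 0x88888) (.leaf 0x88888)) (.node 1 (.leaf 0x88888) (.leaf 0x88888))) (.node 2 (.node 1 (.leaf 0x88888) (.leaf 0x88888)) (.node 1 (.leaf 0x88888) (.leaf 0x88888)))) (.node 4 (.node 2 (.node 1 (.leaf 0x88888) (.leaf 0x88888)) (.node 1 (.leaf 0x88888) (.leaf 0x88888))) (.node 2 (.node 1 (.leaf 0x88888) (.leaf 0x88888)) (.node 1 (.leaf 0x88888) (.leaf 0x88888))))) (.node 8 (.node 4 (.node 2 (.node 1 (.leaf 0x88888) (.leaf 0x88888)) (.node 1 (.leaf 0x88888) (.leaf 0x88888))) (.node 2 (.node 1 (.leaf 0x88888) (.leaf 0x88888)) (.node 1 (.leaf 0x88888) (.leaf 0x88888)))) (.node 4 (.node 2 (.node 1 (.leaf 0x88888) (.leaf 0x88888)) (.node 1 (.leaf 0x88888) (.leaf 0x88888))) (.node 2 (.node 1 (.leaf 0x88888) (.leaf 0x88888)) (.node 1 (.leaf 0x88888) (.leaf 0x88888)))))) (.node 16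 (.node 8 (.node 4 (.node 2 (.node 1 (.leaf 0x88888) (.leaf 0x88888)) (.node 1 (.leaf 0x88888) (.leaf 0x88888))) (.node 2 (.node 1 (.leaf 0x88888) (.leaf 0x88888)) (.node 1 (.leaf 0x88888) (.leaf 0x88888)))) (.node 4 (.node 2 (.node 1 (.leaf 0x88888) (.leaf 0x88888)) (.node 1 (.leaf 0x88888) (.leaf 0x88888))) (.node 2 (.node 1 (.leaf 0x88888) (.leaf 0x88888)) (.node 1 (.leaf 0x88888) (.leaf 0x88888))))) (.node 8 (.node 4 (.node 2 (.node 1 (.leaf 0x88888) (.leaf 0x88888)) (.node 1 (.leaf 0x88888) (.leaf 0x88888))) (.node 2 (.node 1 (.leaf 0x88888) (.leaf 0x88888)) (.node 1 (.leaf 0x88888) (.leaf 0x88888)))) (.node 4 (.node 2 (.node 1 (.leaf 0x88888) (.leaf 0x88888)) (.node 1 (.leaf 0x88888) (.leaf 0x88888))) (.node 2 (.node 1 (.leaf 0x88888) (.leaf 0x88888)) (.node 1 (.leaf 0x88888) (.leaf 0x88888)))))))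

/-- Table data. -/
def tabVB_1_20 : Tab :=
  (.node 32 (.node 16 (.node 8 (.node 4 (.node 2 (.node 1 (.leaf 0x88888) (.leaf 0x88888)) (.node 1 (.leaf 0x88888) (.leaf 0x88888))) (.node 2 (.node 1 (.leaf 0x88888) (.leaf 0x88888)) (.node 1 (.leaf 0x88888) (.leaf 0x88888)))) (.node 4 (.node 2 (.node 1 (.leaf 0x88888) (.leaf 0x88888)) (.node 1 (.leaf 0x88888) (.leaf 0x88888))) (.node 2 (.node 1 (.leaf 0x88888) (.leaf 0x88888)) (.node 1 (.leaf 0x88888) (.leaf 0x88888))))) (.node 8 (.node 4 (.node 2 (.node 1 (.leaf 0x88888) (.leaf 0x88888)) (.node 1 (.leaf 0x88888) (.leaf 0x88888))) (.node 2 (.node 1 (.leaf 0x88888) (.leaf 0x88888)) (.node 1 (.leaf 0x88888) (.leaf 0x88888)))) (.node 4 (.node 2 (.node 1 (.leaf 0x88888) (.leaf 0x88888)) (.node 1 (.leaf 0x88888) (.leaf 0x88888))) (.node 2 (.node 1 (.leaf 0x88888) (.leaf 0x88888)) (.node 1 (.leaf 0x88888) (.leaf 0x88888)))))) (.node 16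 (.node 8 (.node 4 (.node 2 (.node 1 (.leaf 0x88888) (.leaf 0x88888)) (.node 1 (.leaf 0x88888) (.leaf 0x88888))) (.node 2 (.node 1 (.leaf 0x88888) (.leaf 0x88888)) (.node 1 (.leaf 0x88888) (.leaf 0x88888)))) (.node 4 (.node 2 (.node 1 (.leaf 0x88888) (.leaf 0x88888)) (.node 1 (.leaf 0x88888) (.leaf 0x88888))) (.node 2 (.node 1 (.leaf 0x88888) (.leaf 0x88888)) (.node 1 (.leaf 0x88888) (.leaf 0x88888))))) (.node 8 (.node 4 (.node 2 (.node 1 (.leaf 0x88888) (.leaf 0x88888)) (.node 1 (.leaf 0x88888) (.leaf 0x88888))) (.node 2 (.node 1 (.leaf 0x88888) (.leaf 0x88888)) (.node 1 (.leaf 0x88888) (.leaf 0x88888)))) (.node 4 (.node 2 (.node 1 (.leaf 0x88888) (.leaf 0x88888)) (.node 1 (.leaf 0x88888) (.leaf 0x88888))) (.node 2 (.node 1 (.leaf 0x88888) (.leaf 0x88888)) (.node 1 (.leaf 0x88888) (.leaf 0x88888)))))))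

/-- Table data. -/
def tabVB_1_21 : Tab :=
  (.node 32 (.node 16 (.node 8 (.node 4 (.node 2 (.node 1 (.leaf 0x88888) (.leaf 0x88888)) (.node 1 (.leaf 0x88888) (.leaf 0x88888))) (.node 2 (.node 1 (.leaf 0x88888) (.leaf 0x88888)) (.node 1 (.leaf 0x88888) (.leaf 0x88888)))) (.node 4 (.node 2 (.node 1 (.leaf 0x88888) (.leaf 0x88888)) (.node 1 (.leaf 0x88888) (.leaf 0x88888))) (.node 2 (.node 1 (.leaf 0x88888) (.leaf 0x88888)) (.node 1 (.leaf 0x88888) (.leaf 0x88888))))) (.node 8 (.node 4 (.node 2 (.node 1 (.leaf 0x88888) (.leaf 0x88888)) (.node 1 (.leaf 0x88888) (.leaf 0x88888))) (.node 2 (.node 1 (.leaf 0x88888) (.leaf 0x88888)) (.node 1 (.leaf 0x88888) (.leaf 0x88888)))) (.node 4 (.node 2 (.node 1 (.leaf 0x88888) (.leaf 0x88888)) (.node 1 (.leaf 0x88888) (.leaf 0x88888))) (.node 2 (.node 1 (.leaf 0x88888) (.leaf 0x88888)) (.node 1 (.leaf 0x88888) (.leaf 0x88888)))))) (.node 16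 (.node 8 (.node 4 (.node 2 (.node 1 (.leaf 0x88888) (.leaf 0x88888)) (.node 1 (.leaf 0x88888) (.leaf 0x88888))) (.node 2 (.node 1 (.leaf 0x88888) (.leaf 0x88888)) (.node 1 (.leaf 0x88888) (.leaf 0x88888)))) (.node 4 (.node 2 (.node 1 (.leaf 0x88888) (.leaf 0x88888)) (.node 1 (.leaf 0x88888) (.leaf 0x88888))) (.node 2 (.node 1 (.leaf 0x88888) (.leaf 0x88888)) (.node 1 (.leaf 0x88888) (.leaf 0x88888))))) (.node 8 (.node 4 (.node 2 (.node 1 (.leaf 0x88888) (.leaf 0x88888)) (.node 1 (.leaf 0x88888) (.leaf 0x88888))) (.node 2 (.node 1 (.leaf 0x88888) (.leaf 0x88888)) (.node 1 (.leaf 0x88888) (.leaf 0x88888)))) (.node 4 (.node 2 (.node 1 (.leaf 0x88888) (.leaf 0x88888)) (.node 1 (.leaf 0x88888) (.leaf 0x88888))) (.node 2 (.node 1 (.leaf 0x88888) (.leaf 0x88888)) (.node 1 (.leaf 0x88888) (.leaf 0x88888)))))))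

/-- Table data. -/
def tabVB_1_22 : Tab :=
  (.node 32 (.node 16 (.node 8 (.node 4 (.node 2 (.node 1 (.leaf 0x88888) (.leaf 0x88888)) (.node 1 (.leaf 0x88888) (.leaf 0x88888))) (.node 2 (.node 1 (.leaf 0x88888) (.leaf 0x88888)) (.node 1 (.leaf 0x88888) (.leaf 0x88888)))) (.node 4 (.node 2 (.node 1 (.leaf 0x88888) (.leaf 0x88888)) (.node 1 (.leaf 0x88888) (.leaf 0x88888))) (.node 2 (.node 1 (.leaf 0x88888) (.leaf 0x88888)) (.node 1 (.leaf 0x88888) (.leaf 0x88888))))) (.node 8 (.node 4 (.node 2 (.node 1 (.leaf 0x88888) (.leaf 0x88888)) (.node 1 (.leaf 0x88888) (.leaf 0x88888))) (.node 2 (.node 1 (.leaf 0x88888) (.leaf 0x88888)) (.node 1 (.leaf 0x88888) (.leaf 0x88888)))) (.node 4 (.node 2 (.node 1 (.leaf 0x88888) (.leaf 0x88888)) (.node 1 (.leaf 0x88888) (.leaf 0x88888))) (.node 2 (.node 1 (.leaf 0x88888) (.leaf 0x88888)) (.node 1 (.leaf 0x88888) (.leaf 0x88888)))))) (.node 16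 (.node 8 (.node 4 (.node 2 (.node 1 (.leaf 0x88888) (.leaf 0x88888)) (.node 1 (.leaf 0x88888) (.leaf 0x88888))) (.node 2 (.node 1 (.leaf 0x88888) (.leaf 0x88888)) (.node 1 (.leaf 0x88888) (.leaf 0x88888)))) (.node 4 (.node 2 (.node 1 (.leaf 0x88888) (.leaf 0x88888)) (.node 1 (.leaf 0x88888) (.leaf 0x88888))) (.node 2 (.node 1 (.leaf 0x88888) (.leaf 0x88888)) (.node 1 (.leaf 0x88888) (.leaf 0x88888))))) (.node 8 (.node 4 (.node 2 (.node 1 (.leaf 0x88888) (.leaf 0x88888)) (.node 1 (.leaf 0x88888) (.leaf 0x88888))) (.node 2 (.node 1 (.leaf 0x88888) (.leaf 0x88888)) (.node 1 (.leaf 0x88888) (.leaf 0x88888)))) (.node 4 (.node 2 (.node 1 (.leaf 0x88888) (.leaf 0x88888)) (.node 1 (.leaf 0x88888) (.leaf 0x88888))) (.node 2 (.node 1 (.leaf 0x88888) (.leaf 0x88888)) (.node 1 (.leaf 0x88888) (.leaf 0x88888)))))))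

/-- Table data. -/
def tabVB_1_23 : Tab :=
  (.node 32 (.node 16 (.node 8 (.node 4 (.node 2 (.node 1 (.leaf 0x88888) (.leaf 0x88888)) (.node 1 (.leaf 0x88888) (.leaf 0x88888))) (.node 2 (.node 1 (.leaf 0x88888) (.leaf 0x88888)) (.node 1 (.leaf 0x88888) (.leaf 0x88888)))) (.node 4 (.node 2 (.node 1 (.leaf 0x88888) (.leaf 0x88888)) (.node 1 (.leaf 0x88888) (.leaf 0x88888))) (.node 2 (.node 1 (.leaf 0x88888) (.leaf 0x88888)) (.node 1 (.leaf 0x88888) (.leaf 0x88888))))) (.node 8 (.node 4 (.node 2 (.node 1 (.leaf 0x88888) (.leaf 0x88888)) (.node 1 (.leaf 0x88888) (.leaf 0x88888))) (.node 2 (.node 1 (.leaf 0x88888) (.leaf 0x88888)) (.node 1 (.leaf 0x88888) (.leaf 0x88888)))) (.node 4 (.node 2 (.node 1 (.leaf 0x88888) (.leaf 0x88888)) (.node 1 (.leaf 0x88888) (.leaf 0x88888))) (.node 2 (.node 1 (.leaf 0x88888) (.leaf 0x88888)) (.node 1 (.leaf 0x88888) (.leaf 0x88888)))))) (.node 16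 (.node 8 (.node 4 (.node 2 (.node 1 (.leaf 0x88888) (.leaf 0x88888)) (.node 1 (.leaf 0x88888) (.leaf 0x88888))) (.node 2 (.node 1 (.leaf 0x88888) (.leaf 0x88888)) (.node 1 (.leaf 0x88888) (.leaf 0x88888)))) (.node 4 (.node 2 (.node 1 (.leaf 0x88888) (.leaf 0x88888)) (.node 1 (.leaf 0x88888) (.leaf 0x88888))) (.node 2 (.node 1 (.leaf 0x88888) (.leaf 0x88888)) (.node 1 (.leaf 0x88888) (.leaf 0x88888))))) (.node 8 (.node 4 (.node 2 (.node 1 (.leaf 0x88888) (.leaf 0x88888)) (.node 1 (.leaf 0x88888) (.leaf 0x88888))) (.node 2 (.node 1 (.leaf 0x88888) (.leaf 0x88888)) (.node 1 (.leaf 0x88888) (.leaf 0x88888)))) (.node 4 (.node 2 (.node 1 (.leaf 0x88888) (.leaf 0x88888)) (.node 1 (.leaf 0x88888) (.leaf 0x88888))) (.node 2 (.node 1 (.leaf 0x88888) (.leaf 0x88888)) (.node 1 (.leaf 0x88888) (.leaf 0x88888)))))))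

/-- Table data. -/
def tabVB_1_24 : Tab :=
  (.node 32 (.node 16 (.node 8 (.node 4 (.node 2 (.node 1 (.leaf 0x88888) (.leaf 0x88888)) (.node 1 (.leaf 0x88888) (.leaf 0x88888))) (.node 2 (.node 1 (.leaf 0x88888) (.leaf 0x88888)) (.node 1 (.leaf 0x88888) (.leaf 0x88888)))) (.node 4 (.node 2 (.node 1 (.leaf 0x88888) (.leaf 0x88888)) (.node 1 (.leaf 0x88888) (.leaf 0x88888))) (.node 2 (.node 1 (.leaf 0x88888) (.leaf 0x88888)) (.node 1 (.leaf 0x88888) (.leaf 0x88888))))) (.node 8 (.node 4 (.node 2 (.node 1 (.leaf 0x88888) (.leaf 0x88888)) (.node 1 (.leaf 0x88888) (.leaf 0x88888))) (.node 2 (.node 1 (.leaf 0x88888) (.leaf 0x88888)) (.node 1 (.leaf 0x88888) (.leaf 0x88888)))) (.node 4 (.node 2 (.node 1 (.leaf 0x88888) (.leaf 0x88888)) (.node 1 (.leaf 0x88888) (.leaf 0x88888))) (.node 2 (.node 1 (.leaf 0x88888) (.leaf 0x88888)) (.node 1 (.leaf 0x88888) (.leaf 0x88888)))))) (.node 16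 (.node 8 (.node 4 (.node 2 (.node 1 (.leaf 0x88888) (.leaf 0x88888)) (.node 1 (.leaf 0x88888) (.leaf 0x88888))) (.node 2 (.node 1 (.leaf 0x88888) (.leaf 0x88888)) (.node 1 (.leaf 0x88888) (.leaf 0x88888)))) (.node 4 (.node 2 (.node 1 (.leaf 0x88888) (.leaf 0x88888)) (.node 1 (.leaf 0x88888) (.leaf 0x88888))) (.node 2 (.node 1 (.leaf 0x88888) (.leaf 0x88888)) (.node 1 (.leaf 0x88888) (.leaf 0x88888))))) (.node 8 (.node 4 (.node 2 (.node 1 (.leaf 0x88888) (.leaf 0x88888)) (.node 1 (.leaf 0x88888) (.leaf 0x88888))) (.node 2 (.node 1 (.leaf 0x88888) (.leaf 0x88888)) (.node 1 (.leaf 0x88888) (.leaf 0x88888)))) (.node 4 (.node 2 (.node 1 (.leaf 0x88888) (.leaf 0x88888)) (.node 1 (.leaf 0x88888) (.leaf 0x88888))) (.node 2 (.node 1 (.leaf 0x88888) (.leaf 0x88888)) (.node 1 (.leaf 0x88888) (.leaf 0x88888)))))))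

/-- Table data. -/
def tabVB_1_25 : Tab :=
  (.node 32 (.node 16 (.node 8 (.node 4 (.node 2 (.node 1 (.leaf 0x88888) (.leaf 0x88888)) (.node 1 (.leaf 0x88888) (.leaf 0x88888))) (.node 2 (.node 1 (.leaf 0x88888) (.leaf 0x88888)) (.node 1 (.leaf 0x88888) (.leaf 0x88888)))) (.node 4 (.node 2 (.node 1 (.leaf 0x88888) (.leaf 0x88888)) (.node 1 (.leaf 0x88888) (.leaf 0x88888))) (.node 2 (.node 1 (.leaf 0x88888) (.leaf 0x88888)) (.node 1 (.leaf 0x88888) (.leaf 0x88888))))) (.node 8 (.node 4 (.node 2 (.node 1 (.leaf 0x88888) (.leaf 0x88888)) (.node 1 (.leaf 0x88888) (.leaf 0x88888))) (.node 2 (.node 1 (.leaf 0x88888) (.leaf 0x88888)) (.node 1 (.leaf 0x88888) (.leaf 0x88888)))) (.node 4 (.node 2 (.node 1 (.leaf 0x88888) (.leaf 0x88888)) (.node 1 (.leaf 0x88888) (.leaf 0x88888))) (.node 2 (.node 1 (.leaf 0x88888) (.leaf 0x88888)) (.node 1 (.leaf 0x88888) (.leaf 0x88888)))))) (.node 16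 (.node 8 (.node 4 (.node 2 (.node 1 (.leaf 0x88888) (.leaf 0x88888)) (.node 1 (.leaf 0x88888) (.leaf 0x88888))) (.node 2 (.node 1 (.leaf 0x88888) (.leaf 0x88888)) (.node 1 (.leaf 0x88888) (.leaf 0x88888)))) (.node 4 (.node 2 (.node 1 (.leaf 0x88888) (.leaf 0x88888)) (.node 1 (.leaf 0x88888) (.leaf 0x88888))) (.node 2 (.node 1 (.leaf 0x88888) (.leaf 0x88888)) (.node 1 (.leaf 0x88888) (.leaf 0x88888))))) (.node 8 (.node 4 (.node 2 (.node 1 (.leaf 0x88888) (.leaf 0x88888)) (.node 1 (.leaf 0x88888) (.leaf 0x88888))) (.node 2 (.node 1 (.leaf 0x88888) (.leaf 0x88888)) (.node 1 (.leaf 0x88888) (.leaf 0x88888)))) (.node 4 (.node 2 (.node 1 (.leaf 0x88888) (.leaf 0x88888)) (.node 1 (.leaf 0x88888) (.leaf 0x88888))) (.node 2 (.node 1 (.leaf 0x88888) (.leaf 0x88888)) (.node 1 (.leaf 0x88888) (.leaf 0x88888)))))))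

/-- Table data. -/
def tabVB_1_26 : Tab :=
  (.node 32 (.node 16 (.node 8 (.node 4 (.node 2 (.node 1 (.leaf 0x88888) (.leaf 0x88888)) (.node 1 (.leaf 0x88888) (.leaf 0x88888))) (.node 2 (.node 1 (.leaf 0x88888) (.leaf 0x88888)) (.node 1 (.leaf 0x88888) (.leaf 0x88888)))) (.node 4 (.node 2 (.node 1 (.leaf 0x88888) (.leaf 0x88888)) (.node 1 (.leaf 0x88888) (.leaf 0x88888))) (.node 2 (.node 1 (.leaf 0x88888) (.leaf 0x88888)) (.node 1 (.leaf 0x88888) (.leaf 0x88888))))) (.node 8 (.node 4 (.node 2 (.node 1 (.leaf 0x88888) (.leaf 0x88888)) (.node 1 (.leaf 0x88888) (.leaf 0x88888))) (.node 2 (.node 1 (.leaf 0x88888) (.leaf 0x88888)) (.node 1 (.leaf 0x88888) (.leaf 0x88888)))) (.node 4 (.node 2 (.node 1 (.leaf 0x88888) (.leaf 0x88888)) (.node 1 (.leaf 0x88888) (.leaf 0x88888))) (.node 2 (.node 1 (.leaf 0x88888) (.leaf 0x88888)) (.node 1 (.leaf 0x88888) (.leaf 0x88888)))))) (.node 16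 (.node 8 (.node 4 (.node 2 (.node 1 (.leaf 0x88888) (.leaf 0x88888)) (.node 1 (.leaf 0x88888) (.leaf 0x88888))) (.node 2 (.node 1 (.leaf 0x88888) (.leaf 0x88888)) (.node 1 (.leaf 0x88888) (.leaf 0x88888)))) (.node 4 (.node 2 (.node 1 (.leaf 0x88888) (.leaf 0x88888)) (.node 1 (.leaf 0x88888) (.leaf 0x88888))) (.node 2 (.node 1 (.leaf 0x88888) (.leaf 0x88888)) (.node 1 (.leaf 0x88888) (.leaf 0x88888))))) (.node 8 (.node 4 (.node 2 (.node 1 (.leaf 0x88888) (.leaf 0x88888)) (.node 1 (.leaf 0x88888) (.leaf 0x88888))) (.node 2 (.node 1 (.leaf 0x88888) (.leaf 0x88888)) (.node 1 (.leaf 0x88888) (.leaf 0x88888)))) (.node 4 (.node 2 (.node 1 (.leaf 0x88888) (.leaf 0x88888)) (.node 1 (.leaf 0x88888) (.leaf 0x88888))) (.node 2 (.node 1 (.leaf 0x88888) (.leaf 0x88888)) (.node 1 (.leaf 0x88888) (.leaf 0x88888)))))))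

/-- Table data. -/
def tabVB_1_27 : Tab :=
  (.node 32 (.node 16 (.node 8 (.node 4 (.node 2 (.node 1 (.leaf 0x88888) (.leaf 0x88888)) (.node 1 (.leaf 0x88888) (.leaf 0x88888))) (.node 2 (.node 1 (.leaf 0x88888) (.leaf 0x88888)) (.node 1 (.leaf 0x88888) (.leaf 0x88888)))) (.node 4 (.node 2 (.node 1 (.leaf 0x88888) (.leaf 0x88888)) (.node 1 (.leaf 0x88888) (.leaf 0x88888))) (.node 2 (.node 1 (.leaf 0x88888) (.leaf 0x88888)) (.node 1 (.leaf 0x88888) (.leaf 0x88888))))) (.node 8 (.node 4 (.node 2 (.node 1 (.leaf 0x88888) (.leaf 0x88888)) (.node 1 (.leaf 0x88888) (.leaf 0x88888))) (.node 2 (.node 1 (.leaf 0x88888) (.leaf 0x88888)) (.node 1 (.leaf 0x88888) (.leaf 0x88888)))) (.node 4 (.node 2 (.node 1 (.leaf 0x88888) (.leaf 0x88888)) (.node 1 (.leaf 0x88888) (.leaf 0x88888))) (.node 2 (.node 1 (.leaf 0x88888) (.leaf 0x88888)) (.node 1 (.leaf 0x88888) (.leaf 0x88888)))))) (.node 16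 (.node 8 (.node 4 (.node 2 (.node 1 (.leaf 0x88888) (.leaf 0x88888)) (.node 1 (.leaf 0x88888) (.leaf 0x88888))) (.node 2 (.node 1 (.leaf 0x88888) (.leaf 0x88888)) (.node 1 (.leaf 0x88888) (.leaf 0x88888)))) (.node 4 (.node 2 (.node 1 (.leaf 0x88888) (.leaf 0x88888)) (.node 1 (.leaf 0x88888) (.leaf 0x88888))) (.node 2 (.node 1 (.leaf 0x88888) (.leaf 0x88888)) (.node 1 (.leaf 0x88888) (.leaf 0x88888))))) (.node 8 (.node 4 (.node 2 (.node 1 (.leaf 0x88888) (.leaf 0x88888)) (.node 1 (.leaf 0x88888) (.leaf 0x88888))) (.node 2 (.node 1 (.leaf 0x88888) (.leaf 0x88888)) (.node 1 (.leaf 0x88888) (.leaf 0x88888)))) (.node 4 (.node 2 (.node 1 (.leaf 0x88888) (.leaf 0x88888)) (.node 1 (.leaf 0x88888) (.leaf 0x88888))) (.node 2 (.node 1 (.leaf 0x88888) (.leaf 0x88888)) (.node 1 (.leaf 0x88888) (.leaf 0x88888)))))))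

/-- Table data. -/
def tabVB_1_28 : Tab :=
  (.node 32 (.node 16 (.node 8 (.node 4 (.node 2 (.node 1 (.leaf 0x88888) (.leaf 0x88888)) (.node 1 (.leaf 0x88888) (.leaf 0x88888))) (.node 2 (.node 1 (.leaf 0x88888) (.leaf 0x88888)) (.node 1 (.leaf 0x88888) (.leaf 0x88888)))) (.node 4 (.node 2 (.node 1 (.leaf 0x88888) (.leaf 0x88888)) (.node 1 (.leaf 0x88888) (.leaf 0x88888))) (.node 2 (.node 1 (.leaf 0x88888) (.leaf 0x88888)) (.node 1 (.leaf 0x88888) (.leaf 0x88888))))) (.node 8 (.node 4 (.node 2 (.node 1 (.leaf 0x88888) (.leaf 0x88888)) (.node 1 (.leaf 0x88888) (.leaf 0x88888))) (.node 2 (.node 1 (.leaf 0x88888) (.leaf 0x88888)) (.node 1 (.leaf 0x88888) (.leaf 0x88888)))) (.node 4 (.node 2 (.node 1 (.leaf 0x88888) (.leaf 0x88888)) (.node 1 (.leaf 0x88888) (.leaf 0x88888))) (.node 2 (.node 1 (.leaf 0x88888) (.leaf 0x88888)) (.node 1 (.leaf 0x88888) (.leaf 0x88888)))))) (.node 16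 (.node 8 (.node 4 (.node 2 (.node 1 (.leaf 0x88888) (.leaf 0x88888)) (.node 1 (.leaf 0x88888) (.leaf 0x88888))) (.node 2 (.node 1 (.leaf 0x88888) (.leaf 0x88888)) (.node 1 (.leaf 0x88888) (.leaf 0x88888)))) (.node 4 (.node 2 (.node 1 (.leaf 0x88888) (.leaf 0x88888)) (.node 1 (.leaf 0x88888) (.leaf 0x88888))) (.node 2 (.node 1 (.leaf 0x88888) (.leaf 0x88888)) (.node 1 (.leaf 0x88888) (.leaf 0x88888))))) (.node 8 (.node 4 (.node 2 (.node 1 (.leaf 0x88888) (.leaf 0x88888)) (.node 1 (.leaf 0x88888) (.leaf 0x88888))) (.node 2 (.node 1 (.leaf 0x88888) (.leaf 0x88888)) (.node 1 (.leaf 0x88888) (.leaf 0x88888)))) (.node 4 (.node 2 (.node 1 (.leaf 0x88888) (.leaf 0x88888)) (.node 1 (.leaf 0x88888) (.leaf 0x88888))) (.node 2 (.node 1 (.leaf 0x88888) (.leaf 0x88888)) (.node 1 (.leaf 0x88888) (.leaf 0x88888)))))))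

/-- Table data. -/
def tabVB_1_29 : Tab :=
  (.node 32 (.node 16 (.node 8 (.node 4 (.node 2 (.node 1 (.leaf 0x88888) (.leaf 0x88888)) (.node 1 (.leaf 0x88888) (.leaf 0x88888))) (.node 2 (.node 1 (.leaf 0x88888) (.leaf 0x88888)) (.node 1 (.leaf 0x88888) (.leaf 0x88888)))) (.node 4 (.node 2 (.node 1 (.leaf 0x88888) (.leaf 0x88888)) (.node 1 (.leaf 0x88888) (.leaf 0x88888))) (.node 2 (.node 1 (.leaf 0x88888) (.leaf 0x88888)) (.node 1 (.leaf 0x88888) (.leaf 0x88888))))) (.node 8 (.node 4 (.node 2 (.node 1 (.leaf 0x88888) (.leaf 0x88888)) (.node 1 (.leaf 0x88888) (.leaf 0x88888))) (.node 2 (.node 1 (.leaf 0x88888) (.leaf 0x88888)) (.node 1 (.leaf 0x88888) (.leaf 0x88888)))) (.node 4 (.node 2 (.node 1 (.leaf 0x88888) (.leaf 0x88888)) (.node 1 (.leaf 0x88888) (.leaf 0x88888))) (.node 2 (.node 1 (.leaf 0x88888) (.leaf 0x88888)) (.node 1 (.leaf 0x88888) (.leaf 0x88888)))))) (.node 16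 (.node 8 (.node 4 (.node 2 (.node 1 (.leaf 0x88888) (.leaf 0x88888)) (.node 1 (.leaf 0x88888) (.leaf 0x88888))) (.node 2 (.node 1 (.leaf 0x88888) (.leaf 0x88888)) (.node 1 (.leaf 0x88888) (.leaf 0x88888)))) (.node 4 (.node 2 (.node 1 (.leaf 0x88888) (.leaf 0x88888)) (.node 1 (.leaf 0x88888) (.leaf 0x88888))) (.node 2 (.node 1 (.leaf 0x88888) (.leaf 0x88888)) (.node 1 (.leaf 0x88888) (.leaf 0x88888))))) (.node 8 (.node 4 (.node 2 (.node 1 (.leaf 0x88888) (.leaf 0x88888)) (.node 1 (.leaf 0x88888) (.leaf 0x88888))) (.node 2 (.node 1 (.leaf 0x88888) (.leaf 0x88888)) (.node 1 (.leaf 0x88888) (.leaf 0x88888)))) (.node 4 (.node 2 (.node 1 (.leaf 0x88888) (.leaf 0x88888)) (.node 1 (.leaf 0x88888) (.leaf 0x88888))) (.node 2 (.node 1 (.leaf 0x88888) (.leaf 0x88888)) (.node 1 (.leaf 0x88888) (.leaf 0x88888)))))))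

/-- Table data. -/
def tabVB_1_30 : Tab :=
  (.node 32 (.node 16 (.node 8 (.node 4 (.node 2 (.node 1 (.leaf 0x88888) (.leaf 0x88888)) (.node 1 (.leaf 0x88888) (.leaf 0x88888))) (.node 2 (.node 1 (.leaf 0x88888) (.leaf 0x88888)) (.node 1 (.leaf 0x88888) (.leaf 0x88888)))) (.node 4 (.node 2 (.node 1 (.leaf 0x88888) (.leaf 0x88888)) (.node 1 (.leaf 0x88888) (.leaf 0x88888))) (.node 2 (.node 1 (.leaf 0x88888) (.leaf 0x88888)) (.node 1 (.leaf 0x88888) (.leaf 0x88888))))) (.node 8 (.node 4 (.node 2 (.node 1 (.leaf 0x88888) (.leaf 0x88888)) (.node 1 (.leaf 0x88888) (.leaf 0x88888))) (.node 2 (.node 1 (.leaf 0x88888) (.leaf 0x88888)) (.node 1 (.leaf 0x88888) (.leaf 0x88888)))) (.node 4 (.node 2 (.node 1 (.leaf 0x88888) (.leaf 0x88888)) (.node 1 (.leaf 0x88888) (.leaf 0x88888))) (.node 2 (.node 1 (.leaf 0x88888) (.leaf 0x88888)) (.node 1 (.leaf 0x88888) (.leaf 0x88888)))))) (.node 16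 (.node 8 (.node 4 (.node 2 (.node 1 (.leaf 0x88888) (.leaf 0x88888)) (.node 1 (.leaf 0x88888) (.leaf 0x88888))) (.node 2 (.node 1 (.leaf 0x88888) (.leaf 0x88888)) (.node 1 (.leaf 0x88888) (.leaf 0x88888)))) (.node 4 (.node 2 (.node 1 (.leaf 0x88888) (.leaf 0x88888)) (.node 1 (.leaf 0x88888) (.leaf 0x88888))) (.node 2 (.node 1 (.leaf 0x88888) (.leaf 0x88888)) (.node 1 (.leaf 0x88888) (.leaf 0x88888))))) (.node 8 (.node 4 (.node 2 (.node 1 (.leaf 0x88888) (.leaf 0x88888)) (.node 1 (.leaf 0x88888) (.leaf 0x88888))) (.node 2 (.node 1 (.leaf 0x88888) (.leaf 0x88888)) (.node 1 (.leaf 0x88888) (.leaf 0x88888)))) (.node 4 (.node 2 (.node 1 (.leaf 0x88888) (.leaf 0x88888)) (.node 1 (.leaf 0x88888) (.leaf 0x88888))) (.node 2 (.node 1 (.leaf 0x88888) (.leaf 0x88888)) (.node 1 (.leaf 0x88888) (.leaf 0x88888)))))))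

/-- Table data. -/
def tabVB_1_31 : Tab :=
  (.node 32 (.node 16 (.node 8 (.node 4 (.node 2 (.node 1 (.leaf 0x88888) (.leaf 0x88888)) (.node 1 (.leaf 0x88888) (.leaf 0x88888))) (.node 2 (.node 1 (.leaf 0x88888) (.leaf 0x88888)) (.node 1 (.leaf 0x88888) (.leaf 0x88888)))) (.node 4 (.node 2 (.node 1 (.leaf 0x88888) (.leaf 0x88888)) (.node 1 (.leaf 0x88888) (.leaf 0x88888))) (.node 2 (.node 1 (.leaf 0x88888) (.leaf 0x88888)) (.node 1 (.leaf 0x88888) (.leaf 0x88888))))) (.node 8 (.node 4 (.node 2 (.node 1 (.leaf 0x88888) (.leaf 0x88888)) (.node 1 (.leaf 0x88888) (.leaf 0x88888))) (.node 2 (.node 1 (.leaf 0x88888) (.leaf 0x88888)) (.node 1 (.leaf 0x88888) (.leaf 0x88888)))) (.node 4 (.node 2 (.node 1 (.leaf 0x88888) (.leaf 0x88888)) (.node 1 (.leaf 0x88888) (.leaf 0x88888))) (.node 2 (.node 1 (.leaf 0x88888) (.leaf 0x88888)) (.node 1 (.leaf 0x88888) (.leaf 0x88888)))))) (.node 16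 (.node 8 (.node 4 (.node 2 (.node 1 (.leaf 0x88888) (.leaf 0x88888)) (.node 1 (.leaf 0x88888) (.leaf 0x88888))) (.node 2 (.node 1 (.leaf 0x88888) (.leaf 0x88888)) (.node 1 (.leaf 0x88888) (.leaf 0x88888)))) (.node 4 (.node 2 (.node 1 (.leaf 0x88888) (.leaf 0x88888)) (.node 1 (.leaf 0x88888) (.leaf 0x88888))) (.node 2 (.node 1 (.leaf 0x88888) (.leaf 0x88888)) (.node 1 (.leaf 0x88888) (.leaf 0x88888))))) (.node 8 (.node 4 (.node 2 (.node 1 (.leaf 0x88888) (.leaf 0x88888)) (.node 1 (.leaf 0x88888) (.leaf 0x88888))) (.node 2 (.node 1 (.leaf 0x88888) (.leaf 0x88888)) (.node 1 (.leaf 0x88888) (.leaf 0x88888)))) (.node 4 (.node 2 (.node 1 (.leaf 0x88888) (.leaf 0x88888)) (.node 1 (.leaf 0x88888) (.leaf 0x88888))) (.node 2 (.node 1 (.leaf 0x88888) (.leaf 0x88888)) (.node 1 (.leaf 0x88888) (.leaf 0x88888)))))))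

/-- Table data. -/
def tabVB_1 : Tab :=
  (.node 1024 (.node 512 (.node 256 (.node 128 (.node 64 tabVB_1_0 tabVB_1_1) (.node 64 tabVB_1_2 tabVB_1_3)) (.node 128 (.node 64 tabVB_1_4 tabVB_1_5) (.node 64 tabVB_1_6 tabVB_1_7))) (.node 256 (.node 128 (.node 64 tabVB_1_8 tabVB_1_9) (.node 64 tabVB_1_10 tabVB_1_11)) (.node 128 (.node 64 tabVB_1_12 tabVB_1_13) (.node 64 tabVB_1_14 tabVB_1_15)))) (.node 512 (.node 256 (.node 128 (.node 64 tabVB_1_16 tabVB_1_17) (.node 64 tabVB_1_18 tabVB_1_19)) (.node 128 (.node 64 tabVB_1_20 tabVB_1_21) (.node 64 tabVB_1_22 tabVB_1_23))) (.node 256 (.node 128 (.node 64 tabVB_1_24 tabVB_1_25) (.node 64 tabVB_1_26 tabVB_1_27)) (.node 128 (.node 64 tabVB_1_28 tabVB_1_29) (.node 64 tabVB_1_30 tabVB_1_31)))))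

end Cfsg.Lib.CosetEnum.RuStemL
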